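import Groth.Agent.Dix.IdealModCartier
import Groth.Agent.Pi1C.ZeroScheme
import Groth.Agent.VarietyA.TwistExist

/-!
# The ideal module of the zero scheme of a nonzero section of an invertible module

`Y` integral, `N` invertible, `s ≠ 0` a section of `N`, `I` its zero scheme: `N ⊗ idealMod I ≅ O_Y`.
-/

set_option autoImplicit false
universe u
open CategoryTheory CategoryTheory.Limits AlgebraicGeometry Opposite TopologicalSpace

namespace K243.ZeroInv

open Groth.Agent Groth.Agent.Fdesc.LocGen Groth.Agent.Picfga.LineHom Groth.Agent.Dix.IdealModSec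
open Groth.Agent.Dix.IdealModCartier

variable {Y : Scheme.{u}} {N : Y.Modules}

theorem coeff_ne_zero [IsIntegral Y] (hN : PicF.IsInvertible N) (s : Coh.structureModule Y ⟶ N) (hs : s ≠ 0)
    {U : Y.Opens} [Nonempty U] {e : Γ(N, U)} (he : IsGen e) {a : Γ(Y, U)} (ha : sec s U = a • e) : a ≠ 0 := by
  rintro rfl
  have h1 := genLocus_inf_eq s he ha
  obtain ⟨x, hx⟩ := VarietyA.TwistExist.genLocus_nonempty hN s hs
  rw [Scheme.basicOpen_zero] at h1
  obtain ⟨⟨y, hy⟩⟩ := (inferInstance : Nonempty U)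
  have hη1 : genericPoint Y ∈ CohB1.genLocus N s :=
    ((genericPoint_spec Y).mem_open_set_iff (CohB1.genLocus N s).isOpen).mpr ⟨x, trivial, hx⟩
  have hη2 : genericPoint Y ∈ U := ((genericPoint_spec Y).mem_open_set_iff U.isOpen).mpr ⟨y, trivial, hy⟩
  have h3 : genericPoint Y ∈ CohB1.genLocus N s ⊓ U := ⟨hη1, hη2⟩
  rw [h1] at h3
  exact h3

/-- The zero scheme is locally generated by the coefficient of the section. -/
theorem genOn_zeroScheme [IsIntegral Y] (hN : PicF.IsInvertible N) (s : Coh.structureModule Y ⟶ N) (hs : s ≠ 0)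
    {U : Y.Opens} {e : Γ(N, U)} (he : IsGen e) {a : Γ(Y, U)} (ha : sec s U = a • e) :
    GenOn (PicF2.zeroScheme N s) a := by
  intro W hW
  have h1 : sec s W.1 = ores hW a • res N hW e := by
    rw [← res_smul, ← ha, res_sec]
  refine ⟨?_, Pi1C.ZeroScheme.ideal_eq_span s hN W (he.res hW) h1⟩
  by_cases hne : Nonempty W.1
  · have := coeff_ne_zero hN s hs (he.res hW) h1
    exact mem_nonZeroDivisors_of_ne_zero this
  · rw [not_nonempty_iff] at hne
    have hbot : W.1 = ⊥ := by
      rw [eq_bot_iff]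
      intro x hx
      exact (hne.false ⟨x, hx⟩).elim
    have : Subsingleton Γ(Y, W.1) := by
      rw [hbot]
      infer_instance
    exact mem_nonZeroDivisors_iff_right.mpr fun x _ => Subsingleton.elim _ _

theorem isEffCartier_zeroScheme [IsIntegral Y] (hN : PicF.IsInvertible N) (s : Coh.structureModule Y ⟶ N)
    (hs : s ≠ 0) : BlowUp.IsEffCartierIdeal (PicF2.zeroScheme N s) := by
  intro y
  obtain ⟨U, hU, hyU, -, e, he⟩ := Pi1C.ZeroScheme.exists_affine_isGen hN ⊤ y trivial
  obtain ⟨a, ha⟩ := he.exists_eq (sec s U)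
  have h := genOn_zeroScheme hN s hs he ha ⟨U, hU⟩ le_rfl
  exact ⟨⟨U, hU⟩, hyU, _, h.1, h.2⟩

/-- `N ⊗ idealMod I ≅ O`. -/
theorem isInverseOf_idealMod [IsIntegral Y] (hN : PicF.IsInvertible N) (s : Coh.structureModule Y ⟶ N)
    (hs : s ≠ 0) : ClSub.IsInverseOf N (ClSub.idealMod (PicF2.zeroScheme N s)) := by
  set I := PicF2.zeroScheme N s with hI
  choose U hU hx _ e he using fun y : Y => Pi1C.ZeroScheme.exists_affine_isGen hN ⊤ y trivial
  choose a ha using fun y : Y => (he y).exists_eq (sec s (U y))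
  have hg : ∀ y, GenOn I (a y) := fun y => genOn_zeroScheme hN s hs (he y) (ha y)
  have hj : ∀ y, ∃ j : Γ(ClSub.idealMod I, U y), val I j = a y := fun y =>
    exists_val_eq I ⟨U y, hU y⟩ (by
      have := (hg y ⟨U y, hU y⟩ le_rfl).2
      rw [ores_refl] at this
      rw [this]; exact Ideal.mem_span_singleton_self _)
  choose j hj using hj
  have gj : ∀ y, IsGen (j y) := fun y => isGen_of_genOn ((hj y).symm ▸ hg y)
  have hcov : (⨆ y, U y) = ⊤ := top_le_iff.1 fun y _ => Opens.mem_iSup.2 ⟨y, hx y⟩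
  obtain ⟨φ, -⟩ := exists_iso (L := Coh.structureModule Y) (N := CohB1.tensorMod N (ClSub.idealMod I)) hcov
    (e := fun y => one (U y)) (fun y => isGen_one (U y)) (n := fun y => tmul (e y) (j y))
    (trans_of_inf (fun y => isGen_one (U y)) (by
      intro x y
      refine ⟨1, by rw [one_smul, res_one, res_one], ?_⟩
      rw [one_smul, res_tmul, res_tmul]
      obtain ⟨c, hc⟩ := ((he y).res (inf_le_right : U x ⊓ U y ≤ U y)).exists_eq (res N inf_le_left (e x))
      rw [hc, smul_tmul, ← tmul_smul]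
      congr 1
      apply val_injective
      rw [val_smul, val_res, val_res, hj, hj]
      apply ((he y).res (inf_le_right : U x ⊓ U y ≤ U y)).ext
      rw [mul_comm, mul_smul, ← hc, ← res_smul, ← res_smul, ← ha, ← ha, res_sec, res_sec])) (fun y => (he y).tmul (gj y))
  exact ⟨φ.symm⟩

end K243.ZeroInv
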