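import Groth.Agent.Pic13.K243.Pencil
import Groth.Agent.Sga67.PnGlobal
import Groth.Agent.Ega2.VeryAmpleAmple

/-!
# Linear forms vanishing at a point of projective space

`W k N x`: the space of linear forms vanishing at `x : P^N_k`.
* `isClosed_of_sup`: if `W k N x` has codimension at most one then `x` is closed.
* `sec_sub`: the section attached to `a' - c • a`.
* `exists_pencil`: a pencil of linear forms avoiding finitely many non closed points.
-/

set_option autoImplicit false
universe u
open CategoryTheory CategoryTheory.Limits AlgebraicGeometry Opposite TopologicalSpace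

namespace K243.LinForms

open Groth.Agent Groth.Agent.Fdesc.LocGen Groth.Agent.Ega2.VeryAmpleAmple

variable (k : Type u) [Field k] (N : ℕ)

/-- The linear forms vanishing at a point. -/
noncomputable def W (x : ProjectiveSpectrum (CohB1.polyGrading N k)) : Submodule k (CohB1.polyGrading N k 1) :=
  (x.asHomogeneousIdeal.toIdeal.restrictScalars k).comap (CohB1.polyGrading N k 1).subtype

theorem mem_W (x : ProjectiveSpectrum (CohB1.polyGrading N k)) (a : CohB1.polyGrading N k 1) :
    a ∈ W k N x ↔ a.1 ∈ x.asHomogeneousIdeal := Iff.rfl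

/-- Congruence of a homogeneous polynomial modulo `X_j - c_j v`. -/
theorem congr_of_forall {σ : Type*} (p : Ideal (MvPolynomial σ k)) (v : MvPolynomial σ k) (c : σ → k)
    (h : ∀ j, (MvPolynomial.X j : MvPolynomial σ k) - MvPolynomial.C (c j) * v ∈ p) {d : ℕ}
    (f : MvPolynomial σ k) (hf : f.IsHomogeneous d) :
    f - MvPolynomial.C (MvPolynomial.eval c f) * v ^ d ∈ p := by
  classical
  rw [← Ideal.Quotient.eq_zero_iff_mem, map_sub, sub_eq_zero]
  have hX : ∀ j, Ideal.Quotient.mk p (MvPolynomial.X j) =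
      Ideal.Quotient.mk p (MvPolynomial.C (c j)) * Ideal.Quotient.mk p v := by
    intro j
    rw [← map_mul, ← sub_eq_zero, ← map_sub, Ideal.Quotient.eq_zero_iff_mem]
    exact h j
  have hmon : ∀ m : σ →₀ ℕ, m.degree = d → Ideal.Quotient.mk p (MvPolynomial.monomial m (f.coeff m)) =
      Ideal.Quotient.mk p (MvPolynomial.C (f.coeff m * ∏ i ∈ m.support, c i ^ m i) * v ^ d) := by
    intro m hd
    rw [MvPolynomial.monomial_eq, map_mul, map_mul, map_mul, map_mul, mul_assoc]
    congr 1
    rw [← hd, Finsupp.degree_apply, Finsupp.prod, map_prod, map_pow, map_prod, map_prod]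
    simp only [map_pow, hX, mul_pow, Finset.prod_mul_distrib, Finset.prod_pow_eq_pow_sum]
  calc Ideal.Quotient.mk p f = Ideal.Quotient.mk p (∑ m ∈ f.support, MvPolynomial.monomial m (f.coeff m)) := by
        rw [← f.as_sum]
    _ = ∑ m ∈ f.support, Ideal.Quotient.mk p (MvPolynomial.C (f.coeff m * ∏ i ∈ m.support, c i ^ m i) * v ^ d) := by
        rw [map_sum]
        refine Finset.sum_congr rfl fun m hm => hmon m ?_
        by_contra hne
        exact (MvPolynomial.mem_support_iff.mp hm) (hf.coeff_eq_zero hne)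
    _ = Ideal.Quotient.mk p (MvPolynomial.C (MvPolynomial.eval c f) * v ^ d) := by
        rw [MvPolynomial.eval_eq, map_sum, Finset.sum_mul, map_sum]

theorem isClosed_of_sup (x : ProjectiveSpectrum (CohB1.polyGrading N k)) (v : CohB1.polyGrading N k 1)
    (h : W k N x ⊔ Submodule.span k {v} = ⊤) : IsClosed ({x} : Set (ProjectiveSpectrum (CohB1.polyGrading N k))) := by
  have h1 : ∀ j : Fin (N + 1), ∃ c : k, (MvPolynomial.X j : MvPolynomial (Fin (N + 1)) k) -
      MvPolynomial.C c * v.1 ∈ x.asHomogeneousIdeal.toIdeal := by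
    intro j
    have h2 : (Xv j : CohB1.polyGrading N k 1) ∈ W k N x ⊔ Submodule.span k {v} := by rw [h]; trivial
    obtain ⟨w, hw, z, hz, hwz⟩ := Submodule.mem_sup.mp h2
    obtain ⟨c, rfl⟩ := Submodule.mem_span_singleton.mp hz
    refine ⟨c, ?_⟩
    have h3 : w.1 = (MvPolynomial.X j : MvPolynomial (Fin (N + 1)) k) - MvPolynomial.C c * v.1 := by
      have h4 := congrArg Subtype.val hwz
      rw [Submodule.coe_add, Submodule.coe_smul, MvPolynomial.smul_eq_C_mul] at h4
      exact eq_sub_of_add_eq h4
    rw [← h3]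
    exact hw
  choose c hc using h1
  refine isClosed_of_closure_subset fun y hy => ?_
  rw [← ProjectiveSpectrum.le_iff_mem_closure] at hy
  rw [Set.mem_singleton_iff]
  refine le_antisymm ?_ hy
  rw [← ProjectiveSpectrum.as_ideal_le_as_ideal]
  have hy' : x.asHomogeneousIdeal.toIdeal ≤ y.asHomogeneousIdeal.toIdeal := hy
  change y.asHomogeneousIdeal.toIdeal ≤ x.asHomogeneousIdeal.toIdeal
  intro f hf
  rw [MvPolynomial.mem_iff_homogeneousComponent_mem x.asHomogeneousIdeal.isHomogeneous]
  intro d
  have hfd := MvPolynomial.homogeneousComponent_mem_of_mem y.asHomogeneousIdeal.isHomogeneous hf d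
  have hhom : (MvPolynomial.homogeneousComponent d f).IsHomogeneous d :=
    MvPolynomial.homogeneousComponent_isHomogeneous d f
  have h5 := congr_of_forall k x.asHomogeneousIdeal.toIdeal v.1 c hc _ hhom
  by_cases h6 : MvPolynomial.eval c (MvPolynomial.homogeneousComponent d f) = 0
  · rw [h6, map_zero, zero_mul, sub_zero] at h5
    exact h5
  · exfalso
    have h7 := (y.asHomogeneousIdeal.toIdeal.sub_mem_iff_right hfd).mp (hy' h5)
    have h8 : v.1 ^ d ∈ y.asHomogeneousIdeal.toIdeal := by
      have h9 := y.asHomogeneousIdeal.toIdeal.mul_mem_left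
        (MvPolynomial.C (MvPolynomial.eval c (MvPolynomial.homogeneousComponent d f))⁻¹) h7
      rwa [← mul_assoc, ← map_mul, inv_mul_cancel₀ h6, map_one, one_mul] at h9
    have h9 := y.isPrime.mem_of_pow_mem d h8
    obtain ⟨j, hj⟩ := exists_notMem_X y
    apply hj
    have h10 := y.asHomogeneousIdeal.toIdeal.add_mem (hy' (hc j))
      (y.asHomogeneousIdeal.toIdeal.mul_mem_left (MvPolynomial.C (c j)) h9)
    rwa [sub_add_cancel] at h10

/-- The global section attached to a linear form. -/
noncomputable def gs (a : CohB1.polyGrading N k 1) : Γ(Twist.twistProjSpace N k 1, ⊤) :=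
  Twist.globalOf (CohB1.polyGrading N k) a

theorem genLocus_gs (a : CohB1.polyGrading N k 1) :
    CohB1.genLocus (Twist.twistProjSpace N k 1) (homOf (gs k N a)) = Proj.basicOpen (CohB1.polyGrading N k) a.1 :=
  genLocus_globalSec coveredByOne_poly a

/-- The value of a section of `O(1)` at a point. -/
noncomputable def ev1 (x : ProjectiveSpectrum (CohB1.polyGrading N k)) :
    Γ(Twist.twistProjSpace N k 1, ⊤) →+ Twist.Loc (CohB1.polyGrading N k) x :=
  Sga67.PnGlobal.ev (r := N) (n := 1) k x

theorem ev1_smul (c : k) (s : Γ(Twist.twistProjSpace N k 1, ⊤)) (x : ProjectiveSpectrum (CohB1.polyGrading N k)) :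
    ev1 k N x (Pencil.gl (X := CohB1.ProjSpace N k) k c • s) = c • ev1 k N x s :=
  Sga67.PnGlobal.ev_smulS (r := N) (n := 1) k c s x

theorem ev1_gs (a : CohB1.polyGrading N k 1) (x : ProjectiveSpectrum (CohB1.polyGrading N k)) :
    ev1 k N x (gs k N a) = algebraMap _ (Twist.Loc (CohB1.polyGrading N k) x) a.1 := by
  rw [← Localization.mk_one_eq_algebraMap]
  rfl

theorem gs_sub (a a' : CohB1.polyGrading N k 1) (c : k) :
    gs k N (a' - c • a) = gs k N a' - Pencil.gl (X := CohB1.ProjSpace N k) k c • gs k N a := by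
  have key : ∀ s t : Γ(Twist.twistProjSpace N k 1, ⊤), (∀ x : ProjectiveSpectrum (CohB1.polyGrading N k),
      ev1 k N x s = ev1 k N x t) → s = t := by
    intro s t h
    refine Subtype.ext (funext fun x => Subtype.ext ?_)
    exact h x.1
  refine key _ _ fun x => ?_
  rw [map_sub, ev1_smul, ev1_gs, ev1_gs, ev1_gs]
  rw [Submodule.coe_sub, Submodule.coe_smul, map_sub, Algebra.smul_def, map_mul, Algebra.smul_def,
    ← IsScalarTower.algebraMap_apply]

/-- A pencil of linear forms avoiding finitely many non closed points. -/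
theorem exists_pencil [Infinite k] (S : Set (CohB1.ProjSpace N k)) (hS : S.Finite)
    (hcl : ∀ x ∈ S, ¬ IsClosed ({x} : Set (CohB1.ProjSpace N k))) :
    ∃ s s' : Γ(Twist.twistProjSpace N k 1, ⊤),
      S ⊆ CohB1.genLocus _ (homOf s) ∧
      ∀ c : k, S ⊆ CohB1.genLocus _ (homOf (s' - Pencil.gl (X := CohB1.ProjSpace N k) k c • s)) := by
  have := hS.to_subtype
  obtain ⟨v, v', hv⟩ := Pencil.exists_pair (k := k) (V := CohB1.polyGrading N k 1) (ι := S)
    (fun x => W k N x.1) (fun x v h => hcl x.1 x.2 (isClosed_of_sup k N x.1 v h))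
  refine ⟨gs k N v, gs k N v', fun x hx => ?_, fun c x hx => ?_⟩
  · rw [genLocus_gs]
    exact (hv ⟨x, hx⟩).1
  · rw [← gs_sub, genLocus_gs]
    exact (hv ⟨x, hx⟩).2 c

end K243.LinForms
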