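import Mathlib.RingTheory.Binomial
import Mathlib.Algebra.BigOperators.Fin
import Mathlib.Tactic

/-!
# Backward differences and binomial expansions of functions `ℤ → ℤ`

`nab f m = f m - f (m - 1)`, `cc j m = binom (m + j) j`, `ev a m = ∑ j, a j * cc j m` for `a : Fin (r + 1) → ℤ`.
* `eq_of_nab`: if `nab^[t] f = nab^[t] g` and `f`, `g` agree on large integers then `f = g`.
* `ev_of_nat`: if `nab^[r + 1] f = 0` and `f m = ∑ j, a j * (m + j).choose j` for natural `m` then `f = ev a`.
* `nab_ev`: `nab (ev a) = ev (a ∘ succ)`.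
-/

set_option autoImplicit false

namespace K243.Diff

/-- Backward difference. -/
def nab (f : ℤ → ℤ) (m : ℤ) : ℤ := f m - f (m - 1)

theorem nab_apply (f : ℤ → ℤ) (m : ℤ) : nab f m = f m - f (m - 1) := rfl

theorem nab_sub (f g : ℤ → ℤ) : nab (f - g) = nab f - nab g := by
  funext m; simp only [nab, Pi.sub_apply]; ring

theorem nab_iter_sub (t : ℕ) (f g : ℤ → ℤ) : nab^[t] (f - g) = nab^[t] f - nab^[t] g := by
  induction t generalizing f g with
  | zero => rfl
  | succ t ih => rw [Function.iterate_succ_apply, nab_sub, ih, Function.iterate_succ_apply, Function.iterate_succ_apply]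

theorem const_of_nab {f : ℤ → ℤ} (h : nab f = 0) (m n : ℤ) : f m = f n := by
  have key : ∀ (a : ℤ) (j : ℕ), f (a + j) = f a := by
    intro a j
    induction j with
    | zero => simp
    | succ j ih =>
      have h1 := congrFun h (a + (j + 1 : ℕ))
      simp only [nab, Pi.zero_apply] at h1
      have h2 : a + ((j + 1 : ℕ) : ℤ) - 1 = a + j := by push_cast; ring
      rw [h2, ih] at h1
      linarith
  rcases le_total m n with hmn | hmn
  · obtain ⟨j, hj⟩ := Int.le.dest hmn
    rw [← hj, key]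
  · obtain ⟨j, hj⟩ := Int.le.dest hmn
    rw [← hj, key]

theorem nab_large {f : ℤ → ℤ} {N : ℤ} (h : ∀ m, N ≤ m → f m = 0) : ∀ m, N + 1 ≤ m → nab f m = 0 := by
  intro m hm
  simp only [nab]
  rw [h m (by omega), h (m - 1) (by omega), sub_zero]

theorem nab_iter_large {f : ℤ → ℤ} {N : ℤ} (h : ∀ m, N ≤ m → f m = 0) (t : ℕ) :
    ∀ m, N + t ≤ m → nab^[t] f m = 0 := by
  induction t with
  | zero => simpa using h
  | succ t ih =>
    rw [Function.iterate_succ_apply']
    intro m hm
    exact nab_large (N := N + t) ih m (by push_cast at hm; omega)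

theorem zero_of_nab {f : ℤ → ℤ} {N : ℤ} (t : ℕ) (ht : nab^[t] f = 0) (h : ∀ m, N ≤ m → f m = 0) : f = 0 := by
  induction t with
  | zero => exact ht
  | succ t ih =>
    apply ih
    rw [Function.iterate_succ_apply'] at ht
    funext m
    rw [const_of_nab ht m (N + t)]
    exact nab_iter_large h t _ le_rfl

theorem eq_of_nab {f g : ℤ → ℤ} {N : ℤ} (t : ℕ) (ht : nab^[t] f = nab^[t] g) (h : ∀ m, N ≤ m → f m = g m) :
    f = g := by
  rw [← sub_eq_zero]
  refine zero_of_nab (N := N) t ?_ (fun m hm => ?_)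
  · rw [nab_iter_sub, ht, sub_self]
  · rw [Pi.sub_apply, h m hm, sub_self]

/-- `binom (m + j) j`. -/
noncomputable def cc (j : ℕ) (m : ℤ) : ℤ := Ring.choose (m + j) j

theorem cc_zero (m : ℤ) : cc 0 m = 1 := by simp [cc]

theorem cc_one (m : ℤ) : cc 1 m = m + 1 := by simp [cc]

theorem nab_cc_succ (j : ℕ) (m : ℤ) : nab (cc (j + 1)) m = cc j m := by
  simp only [nab, cc]
  have h1 : m + ((j + 1 : ℕ) : ℤ) = (m + j) + 1 := by push_cast; ring
  have h2 : m - 1 + ((j + 1 : ℕ) : ℤ) = m + j := by push_cast; ring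
  rw [h1, h2, Ring.choose_succ_succ]
  ring

theorem nab_cc_zero (m : ℤ) : nab (cc 0) m = 0 := by simp [nab, cc]

theorem cc_natCast (j m : ℕ) : cc j (m : ℤ) = ((m + j).choose j : ℤ) := by
  simp only [cc]
  rw [← Nat.cast_add, Ring.choose_natCast]

/-- `∑ j, a j * binom (m + j) j`. -/
noncomputable def ev {r : ℕ} (a : Fin r → ℤ) (m : ℤ) : ℤ := ∑ j : Fin r, a j * cc j m

theorem nab_ev {r : ℕ} (a : Fin (r + 1) → ℤ) : nab (ev a) = ev (fun j : Fin r => a j.succ) := by
  funext m
  simp only [nab, ev]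
  rw [Fin.sum_univ_succ, Fin.sum_univ_succ]
  simp only [Fin.val_zero, cc_zero, Fin.val_succ]
  have : ∀ j : Fin r, cc j m = cc (j + 1) m - cc (j + 1) (m - 1) := fun j => (nab_cc_succ j m).symm
  simp only [this, mul_sub, Finset.sum_sub_distrib]
  ring

theorem ev_zero (a : Fin 0 → ℤ) : ev a = 0 := by
  funext m; simp [ev]

theorem nab_iter_ev (r : ℕ) (a : Fin r → ℤ) : nab^[r] (ev a) = 0 := by
  induction r with
  | zero => exact ev_zero a
  | succ r ih => rw [Function.iterate_succ_apply, nab_ev, ih]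

/-- The binomial expansion holds on all integers. -/
theorem ev_of_nat {r : ℕ} {f : ℤ → ℤ} (a : Fin r → ℤ) (h0 : nab^[r] f = 0)
    (h : ∀ m : ℕ, f m = ∑ j : Fin r, a j * ((m + j).choose j : ℤ)) : f = ev a := by
  refine eq_of_nab (N := 0) r (by rw [h0, nab_iter_ev]) (fun m hm => ?_)
  obtain ⟨l, rfl⟩ := Int.eq_ofNat_of_zero_le hm
  have := h l
  simp only [ev, cc_natCast]
  exact this

/-- Coefficients from iterated differences. -/
theorem nab_iter_ev_add (t r : ℕ) (a : Fin (r + t) → ℤ) :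
    nab^[t] (ev a) = ev (fun j : Fin r => a ⟨j + t, by omega⟩) := by
  induction t generalizing r with
  | zero => rfl
  | succ t ih =>
    rw [Function.iterate_succ_apply]
    have h1 : nab (ev a) = ev (fun j : Fin (r + t) => a ⟨j + 1, by omega⟩) := nab_ev (r := r + t) a
    rw [h1, ih]
    rfl

end K243.Diff
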