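import Groth.Agent.Pic13.K243.Base
import Groth.Agent.Pic13.K243.Diff
import Groth.Agent.S3231
import Groth.Agent.Fga.TwistCoh
import Groth.Agent.Fga.PosMain
import Groth.Agent.Pic13.H956.Numbers
import Groth.Agent.Grpsch.PicGrp

/-!
# Hilbert functions and intersection numbers with `O(-1)`

`i : X ⟶ P^n_k` closed, `hf k i d F m = χ(F(m))` (degrees `≤ d`).
* `intNum_const`: `(O(-1), …, O(-1); F(m)) = nab^[r] (hf F) m`.
* `nab_hf`: `nab^[r] (hf F) = 0` if `dim Supp F < r`.
* `intNum_invariant`: top intersection numbers are invariant under twisting by an invertible module.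
* `hf_eq_ev`: the binomial expansion over `ℤ`.
-/

set_option autoImplicit false
universe u v
open CategoryTheory CategoryTheory.Limits AlgebraicGeometry

namespace K243.Hilb

open Groth.Agent Groth.Agent.Fga Groth.Agent.Fga.PicMon Groth.Agent.Fga.AltSum
open K243.Base K243.Diff

/-- Mixed differences along a homomorphism `ℤ → G`. -/
theorem dSum_nab {G : Type v} [CommMonoid G] (o : ℤ → G) (ho : ∀ a b, o (a + b) = o a * o b) (φ : G → ℤ) (r : ℕ)
    (m : ℤ) : dSum (fun c => φ (o m * c)) (fun _ : Fin r => o (-1)) = nab^[r] (fun m => φ (o m)) m := by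
  induction r generalizing m with
  | zero => rw [dSum_zero, mul_one]; rfl
  | succ r ih =>
    have h1 : (fun _ : Fin (r + 1) => o (-1)) = (Fin.cons (o (-1)) (fun _ : Fin r => o (-1)) : Fin (r + 1) → G) := by
      funext j
      cases j using Fin.cases <;> rfl
    have h2 : (fun x => φ (o m * (o (-1) * x))) = fun x => φ (o (m - 1) * x) := by
      funext x
      rw [← mul_assoc, ← ho, ← sub_eq_add_neg]
    rw [h1, dSum_cons, ih m, h2, ih (m - 1), Function.iterate_succ_apply']
    rfl

variable (k : Type u) [Field k] {n : ℕ} {X : Scheme.{u}} [X.Over (Spec (CommRingCat.of k))]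
  (i : X ⟶ CohB1.ProjSpace n k) (d : ℕ)

/-- The Hilbert function. -/
noncomputable def hf (F : X.Modules) (m : ℤ) : ℤ := FGA.eulerCharLE k X (Pic13.twistOn k i F m) d

theorem hf_congr {F G : X.Modules} (h : mc F = mc G) : hf k i d F = hf k i d G := by
  funext m
  obtain ⟨e⟩ := (mc_eq_iff (Pic13.twistOn k i F m) (Pic13.twistOn k i G m)).mp (by
    rw [mc_twistOn, mc_twistOn, h])
  exact euler_iso k X e d

theorem hf_twist (F : X.Modules) (a m : ℤ) : hf k i d (Pic13.twistOn k i F a) m = hf k i d F (a + m) := by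
  obtain ⟨e⟩ := (mc_eq_iff (Pic13.twistOn k i (Pic13.twistOn k i F a) m) (Pic13.twistOn k i F (a + m))).mp (by
    rw [mc_twistOn, mc_twistOn, mc_twistOn, o_add, mul_assoc])
  exact euler_iso k X e d

theorem euler_eq_hf (F : X.Modules) : FGA.eulerCharLE k X F d = hf k i d F 0 := by
  obtain ⟨e⟩ := (mc_eq_iff F (Pic13.twistOn k i F 0)).mp (by
    rw [mc_twistOn, o_zero, mul_one])
  exact euler_iso k X e d

theorem intNum_congr_mc {r : ℕ} (M : Fin r → X.Modules) {F G : X.Modules} (h : mc F = mc G) :
    FGA.intNum k X d M F = FGA.intNum k X d M G := by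
  obtain ⟨e⟩ := (mc_eq_iff F G).mp h
  exact intNum_iso k X d M e

theorem intNum_const (r : ℕ) (F : X.Modules) (m : ℤ) :
    FGA.intNum k X d (fun _ : Fin r => O i (-1)) (Pic13.twistOn k i F m) = nab^[r] (hf k i d F) m := by
  have h1 : mc (Pic13.twistOn k i F m) = mc (CohB1.tensorMod (O i m) F) := by
    rw [mc_twistOn, mc_tensor, mul_comm]; rfl
  rw [intNum_congr_mc k d _ h1, intNum_eq_dSum]
  have h2 : chiCl k X d (CohB1.tensorMod (O i m) F) = fun c => chiCl k X d F (o i m * c) := by
    funext c
    exact chiCl_tensor k X d F (O i m) c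
  have h3 : hf k i d F = fun m => chiCl k X d F (o i m) := by
    funext m
    have h4 : mc (Pic13.twistOn k i F m) = mc (CohB1.tensorMod (O i m) F) := by
      rw [mc_twistOn, mc_tensor, mul_comm]; rfl
    obtain ⟨e⟩ := (mc_eq_iff _ _).mp h4
    exact euler_iso k X e d
  rw [h2, h3]
  exact dSum_nab (o i) (o_add i) (chiCl k X d F) r m

theorem intNum_const_zero (r : ℕ) (F : X.Modules) :
    FGA.intNum k X d (fun _ : Fin r => O i (-1)) F = nab^[r] (hf k i d F) 0 := by
  rw [← intNum_const]
  exact intNum_congr_mc k d _ (by rw [mc_twistOn, o_zero, mul_one])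

theorem isCoh_tensor_left {F L : X.Modules} (hF : Coh.IsCoh F) (hL : PicF.IsInvertible L) :
    Coh.IsCoh (CohB1.tensorMod L F) :=
  Sga67.CohBasic.isCoh_of_iso (Ega2.Tens.swap F L) (TwistCoh.isCoh_tensor hF hL)

omit [X.Over (Spec (CommRingCat.of k))] in
theorem isCoh_twistOn {F : X.Modules} (hF : Coh.IsCoh F) (m : ℤ) : Coh.IsCoh (Pic13.twistOn k i F m) :=
  TwistCoh.isCoh_tensor hF (isInvertible_O i m)

omit [X.Over (Spec (CommRingCat.of k))] in
theorem support_twistOn (F : X.Modules) (m : ℤ) :
    CohB1.support (Pic13.twistOn k i F m) = CohB1.support F := by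
  rw [← PosMain.support_tensor X (isInvertible_O i m) (isInvertible_O i (-m)) (o_mul_neg i m) F]
  exact CohqB.DevSupport.support_congr (Ega2.Tens.swap F (O i m))

variable [IsProper (X ↘ Spec (CommRingCat.of k))] (hd : topologicalKrullDim X ≤ d)

include hd in
theorem nab_hf {r : ℕ} (F : X.Modules) (hF : Coh.IsCoh F) (hr : topologicalKrullDim (CohB1.support F) < r) :
    nab^[r] (hf k i d F) = 0 := by
  funext m
  rw [← intNum_const, Pi.zero_apply]
  refine S3231.result k X d hd _ (fun _ => isInvertible_O i (-1)) _ (isCoh_twistOn k i hF m) ?_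
  rw [support_twistOn]
  exact hr

include hd in
/-- Invariance of top intersection numbers. -/
theorem intNum_invariant {r : ℕ} (M : Fin r → X.Modules) (hM : ∀ j, PicF.IsInvertible (M j)) (F : X.Modules)
    (hF : Coh.IsCoh F) (hr : topologicalKrullDim (CohB1.support F) < (r + 1 : ℕ)) {A : X.Modules}
    (hA : PicF.IsInvertible A) :
    FGA.intNum k X d M (CohB1.tensorMod A F) = FGA.intNum k X d M F := by
  have h1 := intNum_cons k X d A M F
  have h2 : FGA.intNum k X d (Fin.cons A M : Fin (r + 1) → X.Modules) F = 0 := by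
    refine S3231.result k X d hd _ (fun j => ?_) F hF hr
    cases j using Fin.cases with
    | zero => exact hA
    | succ j => exact hM j
  rw [h2] at h1
  linarith

theorem support_invertible {L : X.Modules} (hL : PicF.IsInvertible L) : CohB1.support L = Set.univ := by
  obtain ⟨L', hL', ⟨e⟩⟩ := Grpsch.PicGrp.exists_inverse hL
  have h1 := PosMain.support_tensor X hL hL' (mc_mul_inv ⟨e⟩) (Coh.structureModule X)
  rw [Pic13.H956.Numbers.support_unit] at h1
  rw [← h1]
  exact CohqB.DevSupport.support_congr (Ega2.Tens.runit L).symm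

theorem isCoh_invertible {L : X.Modules} (hL : PicF.IsInvertible L) : Coh.IsCoh L :=
  HodgeSec.isCoh_of_isInvertible hL

theorem dim_support_invertible {L : X.Modules} (hL : PicF.IsInvertible L) :
    topologicalKrullDim (CohB1.support L) = topologicalKrullDim X := by
  rw [support_invertible hL]
  exact (Homeomorph.Set.univ X).isHomeomorph.topologicalKrullDim_eq

include hd in
/-- The binomial expansion of the Hilbert function. -/
theorem hf_eq_ev {L : X.Modules} (hL : PicF.IsInvertible L) (a : Fin (d + 1) → ℤ)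
    (ha : ∀ m : ℕ, FGA.eulerCharLE k X (Pic13.twistOn k i L m) d = ∑ j : Fin (d + 1), a j * ((m + j).choose j : ℤ)) :
    hf k i d L = ev a := by
  refine ev_of_nat a (nab_hf k i d hd L (isCoh_invertible hL) ?_) ha
  rw [dim_support_invertible hL]
  exact lt_of_le_of_lt hd (by exact_mod_cast Nat.lt_succ_self d)

end K243.Hilb
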