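import Groth.Agent.Pic13.H508.SqMT
import Groth.Agent.Pic13.H508.GenPre

/-!
# Affine restriction maps between Picard schemes

For `q : A ⟶ B` over `S`, `AffRes q h`: the Picard functors of `A` and `B` are represented by schemes over `S` and the
restriction map `P_B ⟶ P_A` is affine.

* `RepPic.baseChange`, `RepPic.ofIso`, `exists_iso`;
* `AffRes.affine`: for all representing pairs; `AffRes.comp`, `AffRes.of_isPullback`, `AffRes.of_isIso`.
-/

set_option autoImplicit false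
universe w u

open CategoryTheory CategoryTheory.Limits AlgebraicGeometry Opposite MonoidalCategory CartesianMonoidalCategory
open Groth.Agent.Ega3A.PicDiv Groth.Agent.Ega3A.PicEtSh Groth.Agent.Grpsch.PicGrp
open Groth.Agent.Ega3A.PicSheaf Groth.Agent.Ega3A.PicRep Groth.Agent.Picfga.OverRep
open Groth.Agent.Pic13.H547 Groth.Agent.Pic13.H508.SqMT
open Groth.Agent.Ega3A.PicLocBase (tr tr_pu tr_injective tr_surjective locEq_tr_iff ecovLift ecovLift_w ecovMap
  fromMap eT eT_hom_fst_fst eT_hom_fst_snd eT_hom_snd)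
open Groth.Agent.Sga3B.BcPts (bcEquiv bcEquiv_comp comp_bcEquiv bcEquiv_symm_comp comp_bcEquiv_symm)
open Groth.Agent.Pic13.H508.GenPre (map_ecovLift)

namespace K243.AffRes

section Rep

variable {X S : Scheme.{u}} {f : X ⟶ S} {P : Over S} {φ : ∀ T : Over S, Pic (PicF.XT f T) → (T ⟶ P)}

/-- Morphisms out of a representing scheme are determined on classes. -/
theorem rep_hom_ext (hP : RepPic f P φ) {Z : Over S} (a b : P ⟶ Z)
    (h : ∀ (T : Over S) (c : Pic (PicF.XT f T)), φ T c ≫ a = φ T c ≫ b) : a = b := by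
  obtain ⟨𝒰, h𝒰⟩ := hP.surj (𝟙 P)
  apply LemmaA.hom_ext 𝒰
  intro i
  obtain ⟨c, hc⟩ := h𝒰 i
  rw [Category.comp_id] at hc
  rw [← hc, h]

/-- Uniqueness of representing schemes. -/
theorem exists_iso {P₁ : Over S} {φ₁ : ∀ T : Over S, Pic (PicF.XT f T) → (T ⟶ P₁)} (hP : RepPic f P φ)
    (hP₁ : RepPic f P₁ φ₁) : ∃ e : P ≅ P₁, (∀ (T : Over S) (c : Pic (PicF.XT f T)), φ T c ≫ e.hom = φ₁ T c) ∧
      ∀ (T : Over S) (c : Pic (PicF.XT f T)), φ₁ T c ≫ e.inv = φ T c := by
  have hid : ∀ (T : Over S) (c : Pic (PicF.XT f T)), pw (𝟙 X) (Category.id_comp f) T c = c := by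
    intro T c
    have : mT (𝟙 X) (Category.id_comp f) T = 𝟙 _ := by
      apply pullback.hom_ext
      · rw [mT_fst, Category.comp_id, Category.id_comp]
      · rw [mT_snd, Category.id_comp]
    rw [pw, this, pull_id]
  obtain ⟨a, ha⟩ := exists_res (𝟙 X) (Category.id_comp f) hP hP₁
  obtain ⟨b, hb⟩ := exists_res (𝟙 X) (Category.id_comp f) hP₁ hP
  simp only [hid] at ha hb
  refine ⟨⟨a, b, ?_, ?_⟩, ha, hb⟩
  · apply rep_hom_ext hP
    intro T c
    rw [← Category.assoc, ha, hb, Category.comp_id]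
  · apply rep_hom_ext hP₁
    intro T c
    rw [← Category.assoc, hb, ha, Category.comp_id]

/-- Base change of a representing scheme. -/
theorem rep_baseChange (hP : RepPic f P φ) {S' : Scheme.{u}} (a : S' ⟶ S) :
    RepPic (pullback.snd f a) (Red.bc a P) (fun T c => bcEquiv a T P (φ _ (tr a T c))) where
  nat {T T'} g c := by
    rw [tr_pu, hP.nat, comp_bcEquiv]
  surj {T} g := by
    obtain ⟨𝒰, h𝒰⟩ := hP.surj ((bcEquiv a T P).symm g)
    refine ⟨ecovLift a 𝒰, fun i => ?_⟩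
    obtain ⟨c, hc⟩ := h𝒰 i
    obtain ⟨d, hd⟩ := tr_surjective (f := f) a ((ecovLift a 𝒰).V i)
      (pu f (fromMap a (𝒰.V i) _ (ecovLift_w a 𝒰 i)) c)
    refine ⟨d, ?_⟩
    apply (bcEquiv a _ P).symm.injective
    rw [Equiv.symm_apply_apply, hd, hP.nat, hc, comp_bcEquiv_symm, ← Category.assoc, map_ecovLift]
  inj {T c c'} h := by
    rw [← locEq_tr_iff]
    exact hP.inj ((bcEquiv a T P).injective h)

variable {X₁ : Scheme.{u}} {f₁ : X₁ ⟶ S}

/-- Transport along an isomorphism. -/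
theorem rep_ofIso (hP : RepPic f P φ) (e : X₁ ≅ X) (he : e.hom ≫ f = f₁) (he' : e.inv ≫ f₁ = f) :
    RepPic f₁ P (fun T c => φ T (pw e.inv he' T c)) where
  nat {T T'} g c := by rw [pw_pu, hP.nat]
  surj {T} g := by
    obtain ⟨𝒰, h𝒰⟩ := hP.surj g
    refine ⟨𝒰, fun i => ?_⟩
    obtain ⟨c, hc⟩ := h𝒰 i
    refine ⟨pw e.hom he _ c, ?_⟩
    have : pw e.inv he' (𝒰.V i) (pw e.hom he (𝒰.V i) c) = c := by
      rw [pw, pw, ← pull_comp]
      have : mT e.inv he' (𝒰.V i) ≫ mT e.hom he (𝒰.V i) = 𝟙 _ := by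
        apply pullback.hom_ext
        · rw [Category.assoc, mT_fst, mT_fst_assoc, e.inv_hom_id, Category.comp_id, Category.id_comp]
        · rw [Category.assoc, mT_snd, mT_snd, Category.id_comp]
      rw [this, pull_id]
    rw [this, hc]
  inj {T c c'} h := by
    have key : ∀ c : Pic (PicF.XT f₁ T), pw e.hom he T (pw e.inv he' T c) = c := by
      intro c
      rw [pw, pw, ← pull_comp]
      have : mT e.hom he T ≫ mT e.inv he' T = 𝟙 _ := by
        apply pullback.hom_ext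
        · rw [Category.assoc, mT_fst, mT_fst_assoc, e.hom_inv_id, Category.comp_id, Category.id_comp]
        · rw [Category.assoc, mT_snd, mT_snd, Category.id_comp]
      rw [this, pull_id]
    have h1 := locEq_pw e.hom he (hP.inj h)
    rwa [key, key] at h1

end Rep

variable {A B C S : Scheme.{u}} {f' : A ⟶ S} {f : B ⟶ S} {f'' : C ⟶ S}

/-- The restriction map between the Picard schemes is affine. -/
def AffRes (q : A ⟶ B) (h : q ≫ f = f') : Prop :=
  ∃ (P P' : Over S) (φ : ∀ T : Over S, Pic (PicF.XT f T) → (T ⟶ P))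
    (φ' : ∀ T : Over S, Pic (PicF.XT f' T) → (T ⟶ P')) (r : P ⟶ P'),
    RepPic f P φ ∧ RepPic f' P' φ' ∧ (∀ (T : Over S) (c : Pic (PicF.XT f T)), φ T c ≫ r = φ' T (pw q h T c)) ∧
      IsAffineHom r.left

/-- The conclusion holds for all representing pairs. -/
theorem AffRes.affine {q : A ⟶ B} {h : q ≫ f = f'} (H : AffRes q h) {P P' : Over S}
    {φ : ∀ T : Over S, Pic (PicF.XT f T) → (T ⟶ P)} {φ' : ∀ T : Over S, Pic (PicF.XT f' T) → (T ⟶ P')}
    (hP : RepPic f P φ) (hP' : RepPic f' P' φ') (r : P ⟶ P')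
    (hr : ∀ (T : Over S) (c : Pic (PicF.XT f T)), φ T c ≫ r = φ' T (pw q h T c)) :
    IsAffineHom r.left := by
  obtain ⟨P₁, P₁', φ₁, φ₁', r₁, h1, h1', hr₁, haff⟩ := H
  obtain ⟨e, he, he2⟩ := exists_iso hP h1
  obtain ⟨e', he', he2'⟩ := exists_iso h1' hP'
  have hrr : r = e.hom ≫ r₁ ≫ e'.hom := by
    apply rep_hom_ext hP
    intro T c
    rw [hr, ← Category.assoc, he, ← Category.assoc, hr₁, he']
  have i1 : IsIso e.hom.left := inferInstanceAs (IsIso ((Over.forget S).map e.hom))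
  have i2 : IsIso e'.hom.left := inferInstanceAs (IsIso ((Over.forget S).map e'.hom))
  rw [hrr, Over.comp_left, Over.comp_left]
  infer_instance

theorem AffRes.comp {q : A ⟶ B} {h : q ≫ f = f'} {p : C ⟶ A} {h' : p ≫ f' = f''} (H : AffRes q h)
    (H' : AffRes p h') (k : (p ≫ q) ≫ f = f'') : AffRes (p ≫ q) k := by
  obtain ⟨P, P', φ, φ', r, h1, h1', hr, haff⟩ := H
  obtain ⟨Q, Q', ψ, ψ', s, h2, h2', hs, haff'⟩ := H'
  obtain ⟨e, he, -⟩ := exists_iso h1' h2
  have i1 : IsIso e.hom.left := inferInstanceAs (IsIso ((Over.forget S).map e.hom))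
  refine ⟨P, Q', φ, ψ', r ≫ e.hom ≫ s, h1, h2', fun T c => ?_, ?_⟩
  · rw [← Category.assoc, hr, ← Category.assoc, he, hs]
    congr 1
    rw [pw, pw, pw, ← pull_comp, mT_comp]
  · rw [Over.comp_left, Over.comp_left]
    infer_instance

/-- The square of a base change. -/
theorem isPullback_map_left {S' : Scheme.{u}} (f : S' ⟶ S) {X Y : Over S} (g : X ⟶ Y) :
    IsPullback ((Over.pullback f).map g).left (pullback.fst X.hom f) (pullback.fst Y.hom f) g.left := by
  have h1 : IsPullback (pullback.fst X.hom f) (pullback.snd X.hom f) X.hom f := .of_hasPullback _ _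
  have h2 : IsPullback (pullback.fst Y.hom f) (pullback.snd Y.hom f) Y.hom f := .of_hasPullback _ _
  have h3 : ((Over.pullback f).map g).left ≫ pullback.fst Y.hom f = pullback.fst X.hom f ≫ g.left :=
    pullback.lift_fst _ _ _
  have h4 : ((Over.pullback f).map g).left ≫ pullback.snd Y.hom f = pullback.snd X.hom f :=
    pullback.lift_snd _ _ _
  refine (IsPullback.of_right (h₁₂ := pullback.snd Y.hom f) (v₁₃ := f) (h₂₂ := Y.hom) ?_ h3 h2.flip)
  rw [h4, Over.w g]
  exact h1.flip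

theorem mT_eT (q : A ⟶ B) (h : q ≫ f = f') {S' : Scheme.{u}} (a : S' ⟶ S)
    (q' : pullback f' a ⟶ pullback f a) (h₁ : q' ≫ pullback.snd f a = pullback.snd f' a)
    (h₂ : q' ≫ pullback.fst f a = pullback.fst f' a ≫ q) (T : Over S') :
    mT q h ((Over.map a).obj T) ≫ (eT f a T).hom = (eT f' a T).hom ≫ mT q' h₁ T := by
  apply pullback.hom_ext
  · apply pullback.hom_ext
    · rw [Category.assoc, Category.assoc, eT_hom_fst_fst, mT_fst, Category.assoc, Category.assoc, mT_fst_assoc, h₂,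
        Groth.Agent.Ega3A.PicLocBase.eT_hom_fst_fst_assoc]
    · rw [Category.assoc, Category.assoc, eT_hom_fst_snd, mT_snd_assoc, Category.assoc, Category.assoc,
        mT_fst_assoc, h₁, eT_hom_fst_snd]
  · rw [Category.assoc, eT_hom_snd, mT_snd, Category.assoc, mT_snd, eT_hom_snd]

/-- Base change. -/
theorem AffRes.baseChange {q : A ⟶ B} {h : q ≫ f = f'} (H : AffRes q h) {S' : Scheme.{u}} (a : S' ⟶ S)
    (q' : pullback f' a ⟶ pullback f a) (h₁ : q' ≫ pullback.snd f a = pullback.snd f' a)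
    (h₂ : q' ≫ pullback.fst f a = pullback.fst f' a ≫ q) : AffRes q' h₁ := by
  obtain ⟨P, P', φ, φ', r, h1, h1', hr, haff⟩ := H
  refine ⟨Red.bc a P, Red.bc a P', _, _, (Over.pullback a).map r, rep_baseChange h1 a, rep_baseChange h1' a,
    fun T c => ?_, ?_⟩
  · rw [← bcEquiv_comp, hr]
    congr 2
    rw [pw, pw, tr, tr, ← pull_comp, ← pull_comp, mT_eT q h a q' h₁ h₂]
  · exact MorphismProperty.of_isPullback (isPullback_map_left a r).flip haff

/-- Isomorphism invariance. -/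
theorem AffRes.of_iso {A₁ B₁ : Scheme.{u}} {f₁' : A₁ ⟶ S} {f₁ : B₁ ⟶ S} {q₁ : A₁ ⟶ B₁} {h₁ : q₁ ≫ f₁ = f₁'}
    {q : A ⟶ B} {h : q ≫ f = f'} (H : AffRes q h) (eA : A₁ ≅ A) (eB : B₁ ≅ B) (wA : eA.hom ≫ f' = f₁')
    (wB : eB.hom ≫ f = f₁) (w : q₁ ≫ eB.hom = eA.hom ≫ q) : AffRes q₁ h₁ := by
  obtain ⟨P, P', φ, φ', r, h1, h1', hr, haff⟩ := H
  have wA' : eA.inv ≫ f₁' = f' := by rw [← wA, eA.inv_hom_id_assoc]
  have wB' : eB.inv ≫ f₁ = f := by rw [← wB, eB.inv_hom_id_assoc]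
  refine ⟨P, P', _, _, r, rep_ofIso h1 eB wB wB', rep_ofIso h1' eA wA wA', fun T c => ?_, haff⟩
  rw [hr]
  congr 1
  refine pw_pw wB' h h₁ wA' ?_ T c
  rw [← cancel_epi eA.hom, ← cancel_mono eB.hom]
  simp [w]

/-- Base change, with arbitrary cartesian squares. -/
theorem AffRes.of_isPullback {S' A₁ B₁ : Scheme.{u}} {f₁' : A₁ ⟶ S'} {f₁ : B₁ ⟶ S'} {q₁ : A₁ ⟶ B₁}
    {h₁ : q₁ ≫ f₁ = f₁'} {q : A ⟶ B} {h : q ≫ f = f'} (H : AffRes q h) {a : S' ⟶ S} {vA : A₁ ⟶ A} {vB : B₁ ⟶ B}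
    (HA : IsPullback vA f₁' f' a) (HB : IsPullback vB f₁ f a) (w : q₁ ≫ vB = vA ≫ q) : AffRes q₁ h₁ := by
  have hw : (pullback.fst f' a ≫ q) ≫ f = pullback.snd f' a ≫ a := by
    rw [Category.assoc, h, pullback.condition]
  have H1 := H.baseChange a (pullback.lift (pullback.fst f' a ≫ q) (pullback.snd f' a) hw)
    (pullback.lift_snd _ _ _) (pullback.lift_fst _ _ _)
  refine H1.of_iso HA.isoPullback HB.isoPullback HA.isoPullback_hom_snd HB.isoPullback_hom_snd ?_
  apply pullback.hom_ext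
  · rw [Category.assoc, HB.isoPullback_hom_fst, w, Category.assoc, pullback.lift_fst, HA.isoPullback_hom_fst_assoc]
  · rw [Category.assoc, HB.isoPullback_hom_snd, h₁, Category.assoc, pullback.lift_snd, HA.isoPullback_hom_snd]

/-- An isomorphism has affine restriction map. -/
theorem AffRes.of_isIso (q : A ⟶ B) [IsIso q] (h : q ≫ f = f') (hf : ∃ P : Over S, PicRel.RepresentedBy f P) :
    AffRes q h := by
  obtain ⟨P, hP⟩ := hf
  obtain ⟨φ, hφ⟩ := exists_repPic f hP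
  have he' : (asIso q).inv ≫ f' = f := by rw [← h]; simp
  refine ⟨P, P, φ, _, 𝟙 P, hφ, rep_ofIso hφ (asIso q) h he', fun T c => ?_, ?_⟩
  · rw [Category.comp_id, pw, pw, ← pull_comp]
    have : mT (asIso q).inv he' T ≫ mT q h T = 𝟙 _ := by
      apply pullback.hom_ext
      · rw [Category.assoc, mT_fst, mT_fst_assoc, asIso_inv, IsIso.inv_hom_id, Category.comp_id, Category.id_comp]
      · rw [Category.assoc, mT_snd, mT_snd, Category.id_comp]
    rw [this, pull_id]
  · rw [Over.id_left]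
    infer_instance

end K243.AffRes
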