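import Groth.Prelude.Def_Pic13
import Groth.Agent.Sga67.SerreVB
import Groth.Agent.Fga.PicMon
import Groth.Agent.Fga.IntAdd
import Groth.Agent.Ega3B.PullTensor
import Groth.Agent.Ega3B.ProjProper
import Groth.Agent.CohqB.AmpGeneric
import Groth.Agent.VarietyA.AmpleField

/-!
# Twists on a closed subscheme of projective space, as classes

`i : X ⟶ P^n_k`.  `O i d = i^* O(d)`, `o i d = mc (O i d)` its class in the monoid `MC X`:
`o_add`, `o_zero`, `mc_twistOn`, `isInvertible_O`, `isAmple_O`, `isProper_of`.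
-/

set_option autoImplicit false
universe u
open CategoryTheory CategoryTheory.Limits AlgebraicGeometry

namespace K243.Base

open Groth.Agent Groth.Agent.Fga Groth.Agent.Fga.PicMon

variable {k : Type u} [Field k] {n : ℕ} {X : Scheme.{u}} (i : X ⟶ CohB1.ProjSpace n k)

/-- `O_X(d)`. -/
noncomputable abbrev O (d : ℤ) : X.Modules :=
  (Scheme.Modules.pullback i).obj (Twist.twistProjSpace n k d)

/-- The class of `O_X(d)`. -/
noncomputable def o (d : ℤ) : MC X := mc (O i d)

theorem mc_O (d : ℤ) : mc (O i d) = o i d := rfl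

theorem isInvertible_O (d : ℤ) : PicF.IsInvertible (O i d) :=
  Fdesc.LocGen.isInvertible_pullback _ (Sga67.SerreVB.isInvertible_twist n k d)

theorem o_add (a b : ℤ) : o i (a + b) = o i a * o i b := by
  obtain ⟨e⟩ := Sga67.SerreVB.nonempty_twist_mul n k a b
  have h := Ega3B.PullTensor.pullTensorIso i (Sga67.SerreVB.isInvertible_twist n k a)
    (Sga67.SerreVB.isInvertible_twist n k b)
  rw [← mc_O, ← mc_O, ← mc_O, ← mc_tensor]
  exact mc_eq ((Scheme.Modules.pullback i).mapIso e.symm ≪≫ h)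

theorem o_zero : o i 0 = 1 := by
  obtain ⟨e⟩ := Sga67.SerreVB.nonempty_twist_zero n k
  obtain ⟨e'⟩ := Ega3B.PullTensor.nonempty_pullUnitIso i
  rw [← mc_O, ← mc_one]
  exact mc_eq ((Scheme.Modules.pullback i).mapIso e ≪≫ e')

theorem o_mul_neg (d : ℤ) : o i d * o i (-d) = 1 := by
  rw [← o_add, add_neg_cancel, o_zero]

theorem o_neg_mul (d : ℤ) : o i (-d) * o i d = 1 := by
  rw [← o_add, neg_add_cancel, o_zero]

theorem mc_twistOn (F : X.Modules) (d : ℤ) : mc (Pic13.twistOn k i F d) = mc F * o i d := rfl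

theorem nonempty_O_mul_neg (d : ℤ) :
    Nonempty (CohB1.tensorMod (O i d) (O i (-d)) ≅ Coh.structureModule X) := by
  rw [← mc_eq_iff, mc_tensor, mc_O, mc_O, o_mul_neg, mc_one]

theorem isAmple_O [IsAffineHom i] : CohB1.IsAmple (O i 1) :=
  CohqB.AmpCocycle.isAmple_pullback i (VarietyA.AmpleField.isAmple_twistProjSpace n k)

theorem isProper_of [X.Over (Spec (CommRingCat.of k))] [IsClosedImmersion i]
    (hi : i ≫ CohB1.ProjSpace.toSpec n k = X ↘ Spec (CommRingCat.of k)) :
    IsProper (X ↘ Spec (CommRingCat.of k)) := by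
  rw [← hi]
  have : IsProper (CohB1.ProjSpace.toSpec n k) := Ega3B.ProjProper.isProper_toSpec n k
  infer_instance

theorem isInvertible_inv {L L' : X.Modules} (h : Nonempty (CohB1.tensorMod L L' ≅ Coh.structureModule X)) :
    PicF.IsInvertible L' := Fga.IntAdd.isInvertible_of_tensor h.some

theorem mc_mul_inv {L L' : X.Modules} (h : Nonempty (CohB1.tensorMod L L' ≅ Coh.structureModule X)) :
    mc L * mc L' = 1 := by
  rw [← mc_tensor, ← mc_one]; exact mc_eq h.some

theorem mc_inv_mul {L L' : X.Modules} (h : Nonempty (CohB1.tensorMod L L' ≅ Coh.structureModule X)) :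
    mc L' * mc L = 1 := by
  rw [mul_comm]; exact mc_mul_inv h

theorem isInvertible_twistOn {L : X.Modules} (hL : PicF.IsInvertible L) (d : ℤ) :
    PicF.IsInvertible (Pic13.twistOn k i L d) :=
  Fdesc.LocGen.isInvertible_tensorMod hL (isInvertible_O i d)

end K243.Base
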