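import Groth.Agent.Pic13.K243.Down
import Groth.Agent.S1647
import Groth.Agent.S2328
import Groth.Agent.VarietyB.GGStalk
import Groth.Agent.VarietyB.GenLocusTensor

/-!
# Uniform regularity on surfaces and lower bounds for self-intersections

`X ⊆ P^n_k` an integral surface, `k` infinite.  `unif_vanish`: if the coefficients of `L` are bounded then
`H^q(L(m)) = 0` for `q ≥ 1` and `m ≥ N` uniformly.  `gg_of_reg`, `ample_of_reg`.
-/

set_option autoImplicit false
set_option linter.unusedSectionVars false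
universe u
open CategoryTheory CategoryTheory.Limits AlgebraicGeometry Opposite TopologicalSpace

namespace K243.Bound

open Groth.Agent Groth.Agent.Fga Groth.Agent.Fga.PicMon K243.Base K243.Les K243.CutEmb K243.Hilb K243.Member
open K243.Diff K243.Deg K243.Surface K243.Quad

section Reg

variable (k : Type u) [Field k] {n : ℕ} {X : Scheme.{u}} [X.Over (Spec (CommRingCat.of k))]
  (i : X ⟶ CohB1.ProjSpace n k) [IsClosedImmersion i]

theorem gg_of_iso {Y : Scheme.{u}} {F G : Y.Modules} (e : F ≅ G) (h : Curv2.IsGloballyGenerated F) :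
    Curv2.IsGloballyGenerated G := by
  obtain ⟨ι, p, hp⟩ := h
  exact ⟨ι, p ≫ e.hom, inferInstance⟩

theorem gg_of_reg {F : X.Modules} (hF : Coh.IsCoh F) {m : ℤ} (h : Pic13.IsMRegular k i F m) :
    Curv2.IsGloballyGenerated (Pic13.twistOn k i F m) := by
  have h1 := S1647.result k n ((Scheme.Modules.pushforward i).obj F) (Pic13.H951.PresentX.isCoh_push k i hF) m
    (Pic13.H951.PresentX.isMRegular_push k i h)
  have h2 := VarietyB.GGStalk.isGloballyGenerated_pullback i _ h1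
  exact gg_of_iso ((Scheme.Modules.pullback i).mapIso (Pic13.H951.PresentX.pushTwist k i F m).symm ≪≫
    Pic13.H951.PresentX.counitIso k i (Pic13.twistOn k i F m)) h2

theorem ample_of_reg [CompactSpace X] [X.IsSeparated] {L : X.Modules} (hL : PicF.IsInvertible L) {m : ℤ}
    (h : Pic13.IsMRegular k i L m) : CohB1.IsAmple (CohB1.tensorMod (O i 1) (Pic13.twistOn k i L m)) := by
  have hM := isInvertible_twistOn i hL m
  refine S2328.result X (O i 1) (Pic13.twistOn k i L m) (isAmple_O i) hM fun x => ?_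
  obtain ⟨s, hs⟩ := VarietyB.GenLocusTensor.exists_mem_genLocus hM (gg_of_reg k i (isCoh_invertible hL) h) x
  let e : Pic13.twistOn k i L m ≅ CohB1.tensorPow (Pic13.twistOn k i L m) (0 + 1) :=
    (Ega2.Tens.lunit (Pic13.twistOn k i L m)).symm
  refine ⟨0, s ≫ e.hom, ?_⟩
  rw [Ega2.Weight.genLocus_comp s e.hom]
  exact hs

end Reg

section Uniform

variable (k : Type u) [Field k] [Infinite k] {n : ℕ} {X : Scheme.{u}} [X.Over (Spec (CommRingCat.of k))]
  (i : X ⟶ CohB1.ProjSpace n k) [IsClosedImmersion i]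
  (hi : i ≫ CohB1.ProjSpace.toSpec n k = X ↘ Spec (CommRingCat.of k)) [IsIntegral X]
  (hdim : topologicalKrullDim X = (2 : ℕ))

include hi hdim in
theorem unif_vanish (B : ℕ) : ∃ N : ℕ, ∀ L L' : X.Modules, PicF.IsInvertible L →
    Nonempty (CohB1.tensorMod L L' ≅ Coh.structureModule X) → ∀ a : Fin 3 → ℤ, hf k i 2 L = ev a →
      (∀ j, |a j| ≤ B) → ∀ m : ℤ, (N : ℤ) ≤ m → ∀ q : ℕ, 1 ≤ q → hX k i L m q = 0 := by
  have hP := isProper_of i hi
  have hO := Coeffs.isInvertible_unit (X := X)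
  obtain ⟨e, he⟩ := exists_coeff k i 2 hdim.le hO
  set t : ℕ := B + (e 1).natAbs with ht
  set C : ℕ := B + B * t + B * (t * t) with hC
  refine ⟨C + C * (C + 1) + C + 2, fun L L' hL hLL' a ha hB m hm q hq' => ?_⟩
  have h2 := top_pos k i hi hdim hL a ha
  have hM := isInvertible_twistOn i hL (-(t : ℤ))
  have hMM' := mc_twist_inv k i hLL' (-(t : ℤ))
  obtain ⟨b, hb⟩ := exists_coeff k i 2 hdim.le hM
  have hB0 := abs_le.mp (hB 0)
  have hB1 := abs_le.mp (hB 1)
  have hB2 := abs_le.mp (hB 2)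
  have hte : -(e 1) ≤ ((e 1).natAbs : ℤ) := by omega
  have htz : (t : ℤ) = B + ((e 1).natAbs : ℤ) := by rw [ht]; push_cast; rfl
  have hdeg : deg k i 1 (Pic13.twistOn k i L' (-(-(t : ℤ)))) ≤ 0 := by
    have h3 := deg_twist k i 1 hdim.le hL hLL' (-(t : ℤ))
    have h4 := deg_eq k i 1 hdim.le hL hLL'
    have h5 : hf k i (1 + 1) L = ev a := ha
    have h6 : hf k i (1 + 1) (Coh.structureModule X) = ev e := he
    rw [h5, h6] at h4
    rw [h5] at h3
    simp only [Function.iterate_one] at h3 h4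
    rw [Quad.nab_one, Quad.nab_one] at h3 h4
    have htop : a 2 = e 2 := (Coeffs.top_eq k i 1 hdim.le hL a ha).trans
      (Coeffs.top_eq k i 1 hdim.le hO e he).symm
    rw [h3, h4, ← htop]
    have : (t : ℤ) ≤ a 2 * t := by nlinarith [Int.natCast_nonneg t]
    nlinarith
  obtain ⟨-, -, r3, r4, r5, r6⟩ := main k i hi hdim hM hMM' hdeg b hb
  have hb0 : b 0 = a 0 + a 1 * (-t) + a 2 * cc 2 (-(t : ℤ) - 1) := by
    rw [← ev_neg_one b, ← hb, hf_twist, ha, ev_three]
    have e1 : -(t : ℤ) + -1 + 1 = -t := by ring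
    have e2 : -(t : ℤ) + -1 = -(t : ℤ) - 1 := by ring
    rw [e1, e2]
  have hb1 : b 1 = a 1 + a 2 * (-t) := by
    have h1 := Quad.nab_one b (-1)
    rw [← hb] at h1
    have h2 := nab_twist k i 2 L (-(t : ℤ)) 1 (-1)
    simp only [Function.iterate_one] at h2
    rw [h2, ha, Quad.nab_one] at h1
    have e1 : -(t : ℤ) + -1 + 1 = -t := by ring
    rw [e1] at h1
    linarith
  have hcc : 0 ≤ cc 2 (-(t : ℤ) - 1) ∧ cc 2 (-(t : ℤ) - 1) ≤ t * t := by
    have h1 := two_cc_two (-(t : ℤ) - 1)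
    have h2 : 2 * cc 2 (-(t : ℤ) - 1) = t * (t - 1) := by rw [h1]; ring
    rcases Nat.eq_zero_or_pos t with h0 | h0
    · rw [h0] at h2 ⊢; simp at h2 ⊢; omega
    · have : (1 : ℤ) ≤ t := by exact_mod_cast h0
      constructor <;> nlinarith
  have hCz : (C : ℤ) = B + B * t + B * (t * t) := by rw [hC]; push_cast; rfl
  have ht0 : (0 : ℤ) ≤ t := Int.natCast_nonneg t
  have hBn : (0 : ℤ) ≤ B := Int.natCast_nonneg B
  have hab : ∀ x y : ℤ, -(B : ℤ) ≤ x → x ≤ B → 0 ≤ y → -(B * y) ≤ x * y ∧ x * y ≤ B * y := by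
    intro x y h1 h2 h3
    constructor <;> nlinarith
  have u1 := hab (a 1) t hB1.1 hB1.2 ht0
  have u2 := hab (a 2) t hB2.1 hB2.2 ht0
  have u3 := hab (a 2) (cc 2 (-(t : ℤ) - 1)) hB2.1 hB2.2 hcc.1
  have u4 : (B : ℤ) * cc 2 (-(t : ℤ) - 1) ≤ B * (t * t) := mul_le_mul_of_nonneg_left hcc.2 hBn
  have hBtt : (0 : ℤ) ≤ B * (t * t) := by positivity
  have hb0' : -(C : ℤ) ≤ b 0 := by rw [hb0, hCz]; linarith [u1.1, u1.2, u3.1]
  have hb1' : -(C : ℤ) ≤ b 1 := by rw [hb1, hCz]; linarith [u2.1, u2.2]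
  have hCn : (0 : ℤ) ≤ C := Int.natCast_nonneg C
  have hsq : b 1 * (b 1 + 1) ≤ C * (C + 1) := by nlinarith
  have hX1 : hX k i L m q = hX k i (Pic13.twistOn k i L (-(t : ℤ))) (m + t) q := by
    rw [hX_twist]
    congr 1
    ring
  rw [hX1]
  push_cast at hm
  have hCC : (0 : ℤ) ≤ C * (C + 1) := by positivity
  rcases Nat.lt_or_ge 2 q with h | h
  · exact hX_of_dim k i (isCoh_invertible hM) 2 hdim.le _ q h
  · obtain rfl | rfl : q = 1 ∨ q = 2 := by omega
    · exact r6 _ (by linarith)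
    · exact r5 _ (by linarith)

end Uniform

end K243.Bound
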