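import Groth.Agent.Pic13.K243.Hilb

/-!
# Top Hilbert coefficients as degrees
-/

set_option autoImplicit false
universe u v
open CategoryTheory CategoryTheory.Limits AlgebraicGeometry

namespace K243.Coeffs

open Groth.Agent Groth.Agent.Fga Groth.Agent.Fga.PicMon
open K243.Base K243.Diff K243.Hilb

variable (k : Type u) [Field k] {n : ℕ} {X : Scheme.{u}} [X.Over (Spec (CommRingCat.of k))]
  (i : X ⟶ CohB1.ProjSpace n k) [IsProper (X ↘ Spec (CommRingCat.of k))] (s : ℕ)
  (hd : topologicalKrullDim X ≤ (s + 1 : ℕ))

theorem isInvertible_unit : PicF.IsInvertible (Coh.structureModule X) := Fdesc.LocGen.isInvertible_structureModule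

include hd in
/-- The top coefficient is the degree of `X`. -/
theorem top_eq {L : X.Modules} (hL : PicF.IsInvertible L) (a : Fin (s + 2) → ℤ) (ha : hf k i (s + 1) L = ev a) :
    a (Fin.last (s + 1)) = FGA.intNum k X (s + 1) (fun _ : Fin (s + 1) => O i (-1)) (Coh.structureModule X) := by
  have hO := isInvertible_unit (X := X)
  have h1 := intNum_const_zero k i (s + 1) (s + 1) L
  have h2 : FGA.intNum k X (s + 1) (fun _ : Fin (s + 1) => O i (-1)) L =
      FGA.intNum k X (s + 1) (fun _ : Fin (s + 1) => O i (-1)) (Coh.structureModule X) := by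
    rw [← intNum_invariant k (s + 1) hd (fun _ : Fin (s + 1) => O i (-1)) (fun _ => isInvertible_O i (-1))
      (Coh.structureModule X) (isCoh_invertible hO) (by
        rw [dim_support_invertible hO]
        exact lt_of_le_of_lt hd (by exact_mod_cast Nat.lt_succ_self (s + 1))) hL]
    exact intNum_congr_mc k (s + 1) _ (by rw [mc_tensor, mc_one, mul_one])
  rw [← h2, h1, ha]
  have h3 := nab_iter_ev_add (s + 1) 1 (fun j : Fin (1 + (s + 1)) => a ⟨j, by omega⟩)
  have h4 : ev a = ev (fun j : Fin (1 + (s + 1)) => a ⟨j, by omega⟩) := by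
    funext m
    simp only [ev]
    exact Fintype.sum_equiv (finCongr (by omega)) _ _ (fun j => rfl)
  rw [h4, h3]
  simp only [ev, Finset.univ_unique, Finset.sum_singleton]
  simp [cc_zero, Fin.last]

/-- Difference of iterated differences of expansions with the same top coefficient. -/
theorem nab_ev_sub (a e : Fin (s + 2) → ℤ) (h : a (Fin.last (s + 1)) = e (Fin.last (s + 1))) (m : ℤ) :
    nab^[s] (ev a) m - nab^[s] (ev e) m = a (Fin.castSucc (Fin.last s)) - e (Fin.castSucc (Fin.last s)) := by
  have key : ∀ b : Fin (s + 2) → ℤ, nab^[s] (ev b) m =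
      b (Fin.castSucc (Fin.last s)) + b (Fin.last (s + 1)) * cc 1 m := by
    intro b
    have h3 := nab_iter_ev_add s 2 (fun j : Fin (2 + s) => b ⟨j, by omega⟩)
    have h4 : ev b = ev (fun j : Fin (2 + s) => b ⟨j, by omega⟩) := by
      funext m
      simp only [ev]
      exact Fintype.sum_equiv (finCongr (by omega)) _ _ (fun j => rfl)
    rw [h4, h3]
    simp only [ev, Fin.sum_univ_two]
    have e1 : (⟨((0 : Fin 2) : ℕ) + s, by omega⟩ : Fin (s + 2)) = Fin.castSucc (Fin.last s) := by
      ext; simp
    have e2 : (⟨((1 : Fin 2) : ℕ) + s, by omega⟩ : Fin (s + 2)) = Fin.last (s + 1) := by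
      ext; simp [add_comm]
    simp only [e1, e2]
    simp [cc_zero]
  rw [key, key, h]
  ring

include hd in
/-- The second coefficient is the degree of `L`. -/
theorem sub_eq {L L' : X.Modules} (hL : PicF.IsInvertible L)
    (hLL' : Nonempty (CohB1.tensorMod L L' ≅ Coh.structureModule X)) (a e : Fin (s + 2) → ℤ)
    (ha : hf k i (s + 1) L = ev a) (he : hf k i (s + 1) (Coh.structureModule X) = ev e) :
    a (Fin.castSucc (Fin.last s)) - e (Fin.castSucc (Fin.last s)) =
      FGA.intNum k X (s + 1) (Fin.cons L' (fun _ : Fin s => O i (-1)) : Fin (s + 1) → X.Modules)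
        (Coh.structureModule X) := by
  have hO := isInvertible_unit (X := X)
  have hL' := isInvertible_inv hLL'
  have htop : a (Fin.last (s + 1)) = e (Fin.last (s + 1)) := by
    rw [top_eq k i s hd hL a ha, top_eq k i s hd hO e he]
  have h1 := intNum_cons k X (s + 1) L' (fun _ : Fin s => O i (-1)) L
  have h2 : FGA.intNum k X (s + 1) (Fin.cons L' (fun _ : Fin s => O i (-1)) : Fin (s + 1) → X.Modules) L =
      FGA.intNum k X (s + 1) (Fin.cons L' (fun _ : Fin s => O i (-1)) : Fin (s + 1) → X.Modules)
        (Coh.structureModule X) := by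
    rw [← intNum_invariant k (s + 1) hd (Fin.cons L' (fun _ : Fin s => O i (-1)) : Fin (s + 1) → X.Modules)
      (fun j => by
        cases j using Fin.cases with
        | zero => exact hL'
        | succ j => exact isInvertible_O i (-1))
      (Coh.structureModule X) (isCoh_invertible hO) (by
        rw [dim_support_invertible hO]
        exact lt_of_le_of_lt hd (by exact_mod_cast Nat.lt_succ_self (s + 1))) hL]
    exact intNum_congr_mc k (s + 1) _ (by rw [mc_tensor, mc_one, mul_one])
  have h3 : FGA.intNum k X (s + 1) (fun _ : Fin s => O i (-1)) (CohB1.tensorMod L' L) =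
      FGA.intNum k X (s + 1) (fun _ : Fin s => O i (-1)) (Coh.structureModule X) :=
    intNum_congr_mc k (s + 1) _ (by rw [mc_tensor, mc_inv_mul hLL', mc_one])
  rw [h2, h3, intNum_const_zero k i, intNum_const_zero k i, ha, he, nab_ev_sub s a e htop] at h1
  exact h1.symm

end K243.Coeffs
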