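import Groth.Agent.Pic13.K243.Pair
import Groth.Agent.Pic13.K243.Hilb

/-!
# Two linear sections of a variety of dimension at least two meet
-/

set_option autoImplicit false
universe u
open CategoryTheory CategoryTheory.Limits AlgebraicGeometry Opposite TopologicalSpace

namespace K243.Common

open Groth.Agent Groth.Agent.Fga Groth.Agent.Fga.PicMon Groth.Agent.Fdesc
open K243.Base

variable (k : Type u) [Field k] {n : ℕ} {X : Scheme.{u}} (i : X ⟶ CohB1.ProjSpace n k)
  [X.Over (Spec (CommRingCat.of k))] [IsProper (X ↘ Spec (CommRingCat.of k))] [IsIntegral X] [IsAffineHom i]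

theorem exists_common_zero (r : ℕ) (hdim : topologicalKrullDim X = ((r + 2 : ℕ) : WithBot ℕ∞))
    (s₀ s₁ : Coh.structureModule X ⟶ O i 1) (hη₁ : genericPoint X ∈ CohB1.genLocus (O i 1) s₁) :
    ∃ x : X, x ∉ CohB1.genLocus (O i 1) s₀ ∧ x ∉ CohB1.genLocus (O i 1) s₁ := by
  have hX := HypSec.isNoetherian k X
  by_contra hcon
  push Not at hcon
  have hs₁ : s₁ ≠ 0 := by
    rintro rfl
    rw [Ega2.FiniteSet.genLocus_zero] at hη₁
    exact hη₁
  have hH := isInvertible_O i 1
  have hP := isInvertible_O i (-1)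
  have hPN : mc (O i (-1)) * mc (O i 1) = 1 := o_neg_mul i 1
  have hd : topologicalKrullDim X ≤ ((r + 2 : ℕ) : WithBot ℕ∞) := hdim.le
  have hO : Coh.IsCoh (Coh.structureModule X) := CurvesC.UnitCoh.isCoh_unit X
  have hmono₁ : Mono (RegSec.mulS s₁ (Coh.structureModule X)) :=
    HodgeSec.mono_mulS hH LocGen.isInvertible_structureModule s₁ hs₁
  obtain ⟨hc₁, hn₁⟩ := Pic13.H956.Numbers.intNum_cut k X (r + 2) hd hH hP hPN s₁ _ hO hmono₁
    (fun _ : Fin (r + 1) => O i (-1)) (fun _ => hP)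
  set F₁ := CohB1.tensorMod (O i (-1)) (cokernel (RegSec.mulS s₁ (Coh.structureModule X))) with hF₁
  have hsupp₁ : CohB1.support F₁ = (CohB1.genLocus (O i 1) s₁ : Set X)ᶜ := by
    rw [hF₁, PosMain.support_tensor X hP hH hPN, RegSec.support_cokernel_mulS s₁ _ hH hO.2,
      Pic13.H956.Numbers.support_unit, Set.compl_eq_univ_sdiff]
  have hmono₀ : Mono (RegSec.mulS s₀ F₁) := by
    refine RegSec.mulS_mono s₀ F₁ hc₁ ?_ fun x hx => ?_
    · exact (Sga67.CohBasic.isCoh_kernel _ hc₁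
        (Sga67.CohBasic.isCoh_of_iso (Ega2.Tens.swap _ _) (TwistCoh.isCoh_tensor hc₁ hH)).1).1
    · by_contra hx0
      have hx1 := hcon x hx0
      refine RegSec.not_isAssPoint_of_not_mem_support (F := F₁) (x := x) ?_ hx
      rw [hsupp₁]
      exact fun h => h hx1
  obtain ⟨hc₀, hn₀⟩ := Pic13.H956.Numbers.intNum_cut k X (r + 2) hd hH hP hPN s₀ _ hc₁ hmono₀
    (fun _ : Fin r => O i (-1)) (fun _ => hP)
  have hcons : ∀ m : ℕ, (fun _ : Fin (m + 1) => O i (-1)) =
      (Fin.cons (O i (-1)) (fun _ : Fin m => O i (-1)) : Fin (m + 1) → X.Modules) := by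
    intro m
    funext j
    cases j using Fin.cases <;> rfl
  rw [hcons] at hn₁
  rw [hn₀] at hn₁
  have hzero : FGA.intNum k X (r + 2) (fun _ : Fin r => O i (-1))
      (CohB1.tensorMod (O i (-1)) (cokernel (RegSec.mulS s₀ F₁))) = 0 := by
    refine S3231.result k X (r + 2) hd _ (fun _ => hP) _ hc₀ ?_
    rw [PosMain.support_tensor X hP hH hPN, RegSec.support_cokernel_mulS s₀ _ hH hc₁.2, hsupp₁]
    have hempty : ((CohB1.genLocus (O i 1) s₁ : Set X)ᶜ \ (CohB1.genLocus (O i 1) s₀ : Set X)) = ∅ := by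
      rw [Set.eq_empty_iff_forall_notMem]
      rintro x ⟨h1, h0⟩
      exact h1 (hcon x h0)
    rw [hempty]
    have hE : IsEmpty (IrreducibleCloseds (∅ : Set X)) := ⟨fun Z => by
      obtain ⟨z, -⟩ := Z.isIrreducible.nonempty
      exact z.2⟩
    have : topologicalKrullDim (∅ : Set X) = ⊥ := Order.krullDim_eq_bot
    rw [this]
    exact WithBot.bot_lt_coe _
  have hpos : 0 < FGA.intNum k X (r + 2) (fun _ : Fin (r + 2) => O i (-1)) (Coh.structureModule X) := by
    refine PosMain.intNum_pos k X (r + 2) hd (fun _ => O i 1) (fun _ => O i (-1)) (fun _ => isAmple_O i)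
      (fun _ => nonempty_O_mul_neg i 1) _ hO ?_
    rw [Pic13.H956.Numbers.support_unit]
    exact ((Homeomorph.Set.univ X).isHomeomorph.topologicalKrullDim_eq).trans hdim
  rw [hcons (r + 1), hcons r] at hpos
  rw [hn₁, hzero] at hpos
  exact lt_irrefl _ hpos

end K243.Common
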