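import Groth.Agent.Pic13.K243.Base
import Groth.Agent.Pic13.H956.Numbers
import Groth.Agent.Pic13.H956.GenMem
import Groth.Agent.VarietyA.H0Equiv
import Groth.Agent.VarietyA.TwistExist

/-!
# Sections of invertible modules of nonpositive degree

`X` integral proper of dimension `s + 1` over a field, `H` ample with inverse `H'`, `L` invertible with inverse `L'`,
`(L · H^s) ≤ 0`.  A nonzero section of `L` is an isomorphism `O_X ≅ L` (`isIso_of_section`).
* `subsingleton_of_neg`: if `(L · H^s) < 0` then `H⁰(X, L) = 0`.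
* `iso_of_nontrivial`: if `(L · H^s) ≤ 0` and `H⁰(X, L) ≠ 0` then `L ≅ O_X`.
-/

set_option autoImplicit false
universe u
open CategoryTheory CategoryTheory.Limits AlgebraicGeometry

namespace K243.NoSec

open Groth.Agent Groth.Agent.Fga Groth.Agent.Fga.PicMon Groth.Agent.Fga.RegSec Groth.Agent.Fdesc.LocGen
open K243.Base

/-- A section generating everywhere is an isomorphism. -/
theorem isIso_of_genLocus {X : Scheme.{u}} {L : X.Modules} (s : Coh.structureModule X ⟶ L)
    (h : CohB1.genLocus L s = ⊤) : IsIso s := by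
  rw [Fdesc.LocGen.isIso_iff_isGen]
  have key : ∀ U : X.Opens, U = ⊤ → Fdesc.LocGen.IsGen (Fdesc.LocGen.sec s U) →
      Fdesc.LocGen.IsGen (Fdesc.LocGen.sec s ⊤) := by
    rintro U rfl h; exact h
  exact key _ h (Fdesc.LocGen.isGen_sec_genLocus s)

/-- Sections of `H⁰`. -/
theorem subsingleton_of_forall {X : Scheme.{u}} {L : X.Modules}
    (h : ∀ s : Coh.structureModule X ⟶ L, s = 0) : Subsingleton (Coh.HH X L 0) := by
  have key : ∀ t : Γ(L, ⊤), t = 0 := by
    intro t
    have h1 := h (homOf t)
    have h2 : sec (homOf t) ⊤ = t := by rw [sec_homOf, res_refl]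
    rw [← h2, h1]
    rfl
  refine ⟨fun a b => (VarietyA.H0Equiv.hZeroEquiv L).injective ?_⟩
  exact (key _).trans (key _).symm

variable (k : Type u) [Field k] (X : Scheme.{u}) [X.Over (Spec (CommRingCat.of k))]
  [IsProper (X ↘ Spec (CommRingCat.of k))] [IsIntegral X]

/-- **Key**: a nonzero section which is not an isomorphism forces positive degree. -/
theorem intNum_pos_of_section (s : ℕ) (hdim : topologicalKrullDim X = (s + 1 : ℕ))
    {L L' : X.Modules} (hL : PicF.IsInvertible L)
    (hLL' : Nonempty (CohB1.tensorMod L L' ≅ Coh.structureModule X))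
    (t : Coh.structureModule X ⟶ L) (ht : t ≠ 0) (htop : CohB1.genLocus L t ≠ ⊤)
    (H H' : Fin s → X.Modules) (hH : ∀ j, CohB1.IsAmple (H j))
    (hHH' : ∀ j, Nonempty (CohB1.tensorMod (H j) (H' j) ≅ Coh.structureModule X)) :
    0 < FGA.intNum k X (s + 1) (Fin.cons L' H' : Fin (s + 1) → X.Modules) (Coh.structureModule X) := by
  have := HypSec.isNoetherian k X
  have hL' := isInvertible_inv hLL'
  have hH' : ∀ j, PicF.IsInvertible (H' j) := fun j => isInvertible_inv (hHH' j)
  have hO : Coh.IsCoh (Coh.structureModule X) := CurvesC.UnitCoh.isCoh_unit X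
  have hmono : Mono (mulS t (Coh.structureModule X)) :=
    HodgeSec.mono_mulS hL Fdesc.LocGen.isInvertible_structureModule t ht
  obtain ⟨hcoh, hnum⟩ := Pic13.H956.Numbers.intNum_cut k X (s + 1) hdim.le hL hL' (mc_inv_mul hLL') t
    (Coh.structureModule X) hO hmono H' hH'
  rw [hnum]
  refine PosMain.intNum_pos k X (s + 1) hdim.le H H' hH hHH' _ hcoh ?_
  have hη : genericPoint X ∈ CohB1.genLocus L t :=
    ((genericPoint_spec X).mem_open_set_iff (CohB1.genLocus L t).isOpen).mpr
      (by simpa using VarietyA.TwistExist.genLocus_nonempty hL t ht)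
  obtain ⟨z, hz⟩ : ∃ z : X, z ∉ CohB1.genLocus L t := by
    by_contra hcon
    push Not at hcon
    exact htop (TopologicalSpace.Opens.ext (Set.eq_univ_of_forall hcon))
  rw [PosMain.support_tensor X hL' hL (mc_inv_mul hLL'), support_cokernel_mulS t _ hL hO.2,
    Pic13.H956.Numbers.support_unit, ← Set.compl_eq_univ_sdiff]
  exact Pic13.H956.GenMem.dim_zero k X hL t hη hz s hdim

/-- A module of nonpositive degree with a nonzero section is trivial. -/
theorem isIso_of_section (s : ℕ) (hdim : topologicalKrullDim X = (s + 1 : ℕ))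
    {L L' : X.Modules} (hL : PicF.IsInvertible L)
    (hLL' : Nonempty (CohB1.tensorMod L L' ≅ Coh.structureModule X))
    (t : Coh.structureModule X ⟶ L) (ht : t ≠ 0)
    (H H' : Fin s → X.Modules) (hH : ∀ j, CohB1.IsAmple (H j))
    (hHH' : ∀ j, Nonempty (CohB1.tensorMod (H j) (H' j) ≅ Coh.structureModule X))
    (hdeg : FGA.intNum k X (s + 1) (Fin.cons L' H' : Fin (s + 1) → X.Modules) (Coh.structureModule X) ≤ 0) :
    IsIso t := by
  by_cases htop : CohB1.genLocus L t = ⊤
  · exact isIso_of_genLocus t htop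
  · exact absurd (intNum_pos_of_section k X s hdim hL hLL' t ht htop H H' hH hHH') (not_lt.mpr hdeg)

/-- **S5632**, for ample modules. -/
theorem iso_of_nontrivial (s : ℕ) (hdim : topologicalKrullDim X = (s + 1 : ℕ))
    {L L' : X.Modules} (hL : PicF.IsInvertible L)
    (hLL' : Nonempty (CohB1.tensorMod L L' ≅ Coh.structureModule X))
    (H H' : Fin s → X.Modules) (hH : ∀ j, CohB1.IsAmple (H j))
    (hHH' : ∀ j, Nonempty (CohB1.tensorMod (H j) (H' j) ≅ Coh.structureModule X))
    (hdeg : FGA.intNum k X (s + 1) (Fin.cons L' H' : Fin (s + 1) → X.Modules) (Coh.structureModule X) ≤ 0)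
    (hsec : Nontrivial (Coh.HH X L 0)) : Nonempty (L ≅ Coh.structureModule X) := by
  by_contra hcon
  have h0 : ∀ t : Coh.structureModule X ⟶ L, t = 0 := by
    intro t
    by_contra ht
    have := isIso_of_section k X s hdim hL hLL' t ht H H' hH hHH' hdeg
    exact hcon ⟨(asIso t).symm⟩
  have := subsingleton_of_forall h0
  exact not_subsingleton (Coh.HH X L 0) this

/-- A module of negative degree has no sections. -/
theorem subsingleton_of_neg (s : ℕ) (hdim : topologicalKrullDim X = (s + 1 : ℕ))
    {L L' : X.Modules} (hL : PicF.IsInvertible L)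
    (hLL' : Nonempty (CohB1.tensorMod L L' ≅ Coh.structureModule X))
    (H H' : Fin s → X.Modules) (hH : ∀ j, CohB1.IsAmple (H j))
    (hHH' : ∀ j, Nonempty (CohB1.tensorMod (H j) (H' j) ≅ Coh.structureModule X))
    (hdeg : FGA.intNum k X (s + 1) (Fin.cons L' H' : Fin (s + 1) → X.Modules) (Coh.structureModule X) < 0) :
    Subsingleton (Coh.HH X L 0) := by
  by_contra hcon
  rw [not_subsingleton_iff_nontrivial] at hcon
  obtain ⟨e⟩ := iso_of_nontrivial k X s hdim hL hLL' H H' hH hHH' hdeg.le hcon
  have h1 : mc L' = 1 := by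
    have h2 := mc_mul_inv hLL'
    rwa [mc_eq e, mc_one, one_mul] at h2
  obtain ⟨e'⟩ := (mc_eq_iff (CohB1.tensorMod L' (Coh.structureModule X)) (Coh.structureModule X)).mp (by
    rw [mc_tensor, h1, mc_one, one_mul])
  rw [intNum_cons, intNum_iso k X (s + 1) _ e', sub_self] at hdeg
  exact lt_irrefl _ hdeg

end K243.NoSec
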