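import Groth.Agent.Pic13.K243.Member
import Groth.Agent.Pic13.K243.NoSec
import Groth.Agent.Pic13.K243.Coeffs

/-!
# `h¹` on integral curves in `P^n_K`

`C ⊆ P^n_K` an integral curve, `K` infinite, `M` invertible: `h¹(M(m + l)) ≤ h¹(M(m)) - l` (`h1_drop`).
`h0_zero`: `h⁰(L(m)) = 0` if `deg L + m deg X < 0`.
-/

set_option autoImplicit false
set_option linter.unusedSectionVars false
universe u
open CategoryTheory CategoryTheory.Limits AlgebraicGeometry Opposite TopologicalSpace

namespace K243.Curve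

open Groth.Agent Groth.Agent.Fga Groth.Agent.Fga.PicMon K243.Base K243.Les K243.CutEmb K243.Hilb K243.Member

variable (K : Type u) [Field K] {n : ℕ} {Y : Scheme.{u}} [Y.Over (Spec (CommRingCat.of K))]
  (j : Y ⟶ CohB1.ProjSpace n K) [IsClosedImmersion j]
  (hj : j ≫ CohB1.ProjSpace.toSpec n K = Y ↘ Spec (CommRingCat.of K)) [IsIntegral Y]

/-- A nonzero section of `O_Y(1)`. -/
theorem exists_sec [Infinite K] : ∃ s : Coh.structureModule Y ⟶ O j 1, s ≠ 0 := by
  obtain ⟨a, ha⟩ := Pair.exists_ls K j {genericPoint Y} (Set.finite_singleton _)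
  refine ⟨Pair.ls K j a, fun h => ?_⟩
  have h1 : genericPoint Y ∈ CohB1.genLocus (O j 1) (Pair.ls K j a) := ha rfl
  rw [h, Ega2.FiniteSet.genLocus_zero] at h1
  exact h1

include hj in
theorem h1_drop [Infinite K] (hdim : topologicalKrullDim Y ≤ (1 : ℕ)) {M : Y.Modules} (hM : PicF.IsInvertible M)
    (m : ℤ) (l : ℕ) : hX K j M (m + l) 1 ≤ hX K j M m 1 - l := by
  have := isProper_of j hj
  obtain ⟨s, hs⟩ := exists_sec K j
  have hN := isInvertible_O j 1
  refine trick_iter K j s hM m hN (mc_O j 1) hs hj (m + 1) (fun a _ q hq' => ?_) (by omega) l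
  exact hX_of_dim K _ (isCoh_invertible (isInvertible_res s hM)) 0 (dim_D_lt K s hN hs 0 hdim) _ q (by omega)

/-- `h⁰` of modules of negative degree. -/
theorem h0_zero (hP : IsProper (Y ↘ Spec (CommRingCat.of K))) (s : ℕ) (hdim : topologicalKrullDim Y = (s + 1 : ℕ))
    {L L' : Y.Modules} (hL : PicF.IsInvertible L) (hLL' : Nonempty (CohB1.tensorMod L L' ≅ Coh.structureModule Y))
    (hdeg : FGA.intNum K Y (s + 1) (Fin.cons L' (fun _ => O j (-1)) : Fin (s + 1) → Y.Modules)
      (Coh.structureModule Y) < 0) : hq K 0 L = 0 :=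
  hq_of_subsingleton K (NoSec.subsingleton_of_neg K Y s hdim hL hLL' (fun _ => O j 1) (fun _ => O j (-1))
    (fun _ => isAmple_O j) (fun _ => nonempty_O_mul_neg j 1) hdeg)

end K243.Curve
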