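import Groth.Agent.VarietyA.EulerLES
import Groth.Agent.VarietyA.EulerAdd
import Groth.Agent.Fga.PicMon
import Groth.Agent.S0002

/-!
# Inequalities from the long exact sequence of cohomology

`X` proper over a field, `S : 0 → X₁ → X₂ → X₃ → 0` exact sequence of coherent modules, `hq q F = dim H^q(F)`:
`le_mid`, `le_left`, `le_right`, and the comparison of `H^1` and the surjectivity on `H^0`.
-/

set_option autoImplicit false
universe u
open CategoryTheory CategoryTheory.Limits AlgebraicGeometry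

namespace K243.Les

open Groth.Agent Groth.Agent.VarietyA.EulerLES Groth.Agent.Fga.PicMon

/-- Exactness in the middle bounds the dimension. -/
theorem finrank_le_of_exact {k A B C : Type u} [Field k] [AddCommGroup A] [AddCommGroup B] [AddCommGroup C]
    [Module k A] [Module k B] [Module k C] [Module.Finite k A] [Module.Finite k B] [Module.Finite k C]
    (f : A →ₗ[k] B) (g : B →ₗ[k] C) (h : Function.Exact f g) :
    Module.finrank k B ≤ Module.finrank k A + Module.finrank k C := by
  have h1 := LinearMap.finrank_range_add_finrank_ker g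
  have h2 : LinearMap.ker g = LinearMap.range f := h.linearMap_ker_eq
  have h3 := LinearMap.finrank_range_le f
  have h4 := Submodule.finrank_le (LinearMap.range g)
  rw [h2] at h1
  omega

variable (k : Type u) [Field k] {X : Scheme.{u}} [X.Over (Spec (CommRingCat.of k))]

/-- `dim H^q`. -/
noncomputable def hq (q : ℕ) (F : X.Modules) : ℕ := Module.finrank k (Coh.HH X F q)

theorem hq_iso {F G : X.Modules} (e : F ≅ G) (q : ℕ) : hq k q F = hq k q G := (hmapEquiv k X e q).finrank_eq

theorem hq_mc {F G : X.Modules} (h : mc F = mc G) (q : ℕ) : hq k q F = hq k q G := by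
  obtain ⟨e⟩ := (mc_eq_iff F G).mp h
  exact hq_iso k e q

variable [IsProper (X ↘ Spec (CommRingCat.of k))]

theorem finite_HH {F : X.Modules} (hF : Coh.IsCoh F) (q : ℕ) : Module.Finite k (Coh.HH X F q) :=
  S0002.result k X F hF q

theorem subsingleton_of_hq {F : X.Modules} (hF : Coh.IsCoh F) {q : ℕ} (h : hq k q F = 0) :
    Subsingleton (Coh.HH X F q) := by
  have := finite_HH k hF q
  exact Module.finrank_zero_iff.mp h

omit [IsProper (X ↘ Spec (CommRingCat.of k))] in
theorem hq_of_subsingleton {F : X.Modules} {q : ℕ} (h : Subsingleton (Coh.HH X F q)) : hq k q F = 0 :=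
  Module.finrank_zero_of_subsingleton

variable {S : ShortComplex X.Modules} (hS : S.ShortExact) (h₁ : Coh.IsCoh S.X₁) (h₂ : Coh.IsCoh S.X₂)
  (h₃ : Coh.IsCoh S.X₃)

include hS h₁ h₂ h₃

theorem le_mid (q : ℕ) : hq k q S.X₂ ≤ hq k q S.X₁ + hq k q S.X₃ := by
  have := finite_HH k h₁ q
  have := finite_HH k h₂ q
  have := finite_HH k h₃ q
  exact finrank_le_of_exact _ _ (exactA₂ k S hS q)

theorem le_right (q : ℕ) : hq k q S.X₃ ≤ hq k q S.X₂ + hq k (q + 1) S.X₁ := by
  have := finite_HH k h₁ (q + 1)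
  have := finite_HH k h₂ q
  have := finite_HH k h₃ q
  exact finrank_le_of_exact _ _ (exactA₃ k S hS q (q + 1) rfl)

theorem le_left (q : ℕ) : hq k (q + 1) S.X₁ ≤ hq k q S.X₃ + hq k (q + 1) S.X₂ := by
  have := finite_HH k h₁ (q + 1)
  have := finite_HH k h₂ (q + 1)
  have := finite_HH k h₃ q
  exact finrank_le_of_exact _ _ (exactA₁ k S hS q (q + 1) rfl)

omit h₃ in
/-- If `H^{q+1}(X₁) → H^{q+1}(X₂)` is onto and the dimensions agree then `H^q(X₂) → H^q(X₃)` is onto. -/
theorem surjective_of_hq_le (q : ℕ) (h : Subsingleton (Coh.HH X S.X₃ (q + 1)))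
    (hle : hq k (q + 1) S.X₁ ≤ hq k (q + 1) S.X₂) : Function.Surjective (mapA k S.g q) := by
  have f1 := finite_HH k h₁ (q + 1)
  have f2 := finite_HH k h₂ (q + 1)
  have hsurj : Function.Surjective (mapA k S.f (q + 1)) := by
    intro y
    exact (exactA₂ k S hS (q + 1) y).mp (Subsingleton.elim _ _)
  have h4 := LinearMap.finrank_range_add_finrank_ker (mapA k S.f (q + 1))
  have hker : LinearMap.ker (mapA k S.f (q + 1)) = ⊥ := by
    have h3 : Module.finrank k (LinearMap.range (mapA k S.f (q + 1))) = Module.finrank k (Coh.HH X S.X₂ (q + 1)) := by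
      rw [LinearMap.range_eq_top.mpr hsurj, finrank_top]
    unfold hq at hle
    rw [← Submodule.finrank_eq_zero]
    omega
  intro x
  apply (exactA₃ k S hS q (q + 1) rfl x).mp
  have h5 : deltaΓ S hS q (q + 1) rfl x ∈ LinearMap.ker (mapA k S.f (q + 1)) := by
    rw [LinearMap.mem_ker]
    exact (exactA₁ k S hS q (q + 1) rfl _).mpr ⟨x, rfl⟩
  rw [hker] at h5
  exact h5

omit h₂ h₃ in
/-- If `H^q(X₂) → H^q(X₃)` is onto then `H^{q+1}(X₁) → H^{q+1}(X₂)` is injective. -/
theorem le_of_surjective (q : ℕ) (h₂ : Coh.IsCoh S.X₂) (h : Function.Surjective (mapA k S.g q)) :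
    hq k (q + 1) S.X₁ ≤ hq k (q + 1) S.X₂ := by
  have f1 := finite_HH k h₁ (q + 1)
  have f2 := finite_HH k h₂ (q + 1)
  refine LinearMap.finrank_le_finrank_of_injective (f := mapA k S.f (q + 1)) ?_
  rw [injective_iff_map_eq_zero]
  intro x hx
  obtain ⟨y, hy⟩ := (exactA₁ k S hS q (q + 1) rfl x).mp hx
  obtain ⟨z, hz⟩ := h y
  rw [← hy, ← hz]
  exact (exactA₃ k S hS q (q + 1) rfl _).mpr ⟨z, rfl⟩

end K243.Les
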