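import Groth.Agent.Pic13.K243.ZeroInv
import Groth.Agent.Pic13.K243.Les
import Groth.Agent.Pic13.K243.Hilb
import Groth.Agent.VarietyB.DegCartier
import Groth.Agent.VarietyB.ProjForm
import Groth.Agent.Pic13.H951.PresentX

/-!
# The restriction sequence of an effective divisor

`Y` integral, `s ≠ 0` a section of an invertible module `N`, `ι : D ⟶ Y` its zero scheme, `M` invertible:
`0 → M ⊗ N⁻¹ → M → ι_* ι^* M → 0` (`seq`), with `mc_X₁`, `mc_X₂`, `isoX₃`, `hq_X₃`.
-/

set_option autoImplicit false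
universe u
open CategoryTheory CategoryTheory.Limits AlgebraicGeometry Opposite TopologicalSpace

namespace K243.Cut

open Groth.Agent Groth.Agent.Fga Groth.Agent.Fga.PicMon K243.Base K243.Les

variable {Y : Scheme.{u}} {N : Y.Modules} (s : Coh.structureModule Y ⟶ N) (M : Y.Modules)

/-- The zero scheme. -/
noncomputable abbrev D : Scheme.{u} := (PicF2.zeroScheme N s).subscheme

/-- Its inclusion. -/
noncomputable abbrev ι : D s ⟶ Y := (PicF2.zeroScheme N s).subschemeι

/-- The restriction sequence. -/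
noncomputable def seq : ShortComplex Y.Modules :=
  (VarietyB.DegCartier.idealSeq (PicF2.zeroScheme N s)).map (DCoh.tensorBi.obj M)

theorem seq_shortExact {M : Y.Modules} (hM : PicF.IsInvertible M) : (seq s M).ShortExact :=
  Fga.TwistCoh.shortExact_tensorBi hM _ (VarietyB.DegCartier.idealSeq_shortExact _)

theorem X₁_eq : (seq s M).X₁ = CohB1.tensorMod M (ClSub.idealMod (PicF2.zeroScheme N s)) := rfl

theorem X₂_eq : (seq s M).X₂ = CohB1.tensorMod M (Coh.structureModule Y) := rfl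

theorem X₃_eq : (seq s M).X₃ = CohB1.tensorMod M (ClSub.quotMod (PicF2.zeroScheme N s)) := rfl

theorem mc_X₂ : mc (seq s M).X₂ = mc M := by
  rw [X₂_eq, mc_tensor, mc_one, mul_one]

theorem mc_X₁ [IsIntegral Y] (hN : PicF.IsInvertible N) (hs : s ≠ 0) {P : Y.Modules} (hP : mc N * mc P = 1) :
    mc (seq s M).X₁ = mc M * mc P := by
  have h := ZeroInv.isInverseOf_idealMod hN s hs
  have h1 : mc N * mc (ClSub.idealMod (PicF2.zeroScheme N s)) = 1 := by
    obtain ⟨e⟩ := h
    rw [← mc_tensor, ← mc_one]; exact mc_eq e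
  have h2 : mc (ClSub.idealMod (PicF2.zeroScheme N s)) = mc P := by
    calc mc (ClSub.idealMod (PicF2.zeroScheme N s))
        = mc (ClSub.idealMod (PicF2.zeroScheme N s)) * (mc N * mc P) := by rw [hP, mul_one]
      _ = (mc N * mc (ClSub.idealMod (PicF2.zeroScheme N s))) * mc P := by
        rw [← mul_assoc, mul_comm (mc (ClSub.idealMod _)) (mc N)]
      _ = mc P := by rw [h1, one_mul]
  rw [X₁_eq, mc_tensor, h2]

variable {M} (hM : PicF.IsInvertible M)

/-- The third term. -/
noncomputable def isoX₃ : (seq s M).X₃ ≅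
    (Scheme.Modules.pushforward (ι s)).obj ((Scheme.Modules.pullback (ι s)).obj M) :=
  VarietyB.ProjForm.projIsoUnit (ι s) (Pic13.H951.PresentX.hasBases hM)

include hM

theorem isCoh_X₂ : Coh.IsCoh (seq s M).X₂ :=
  TwistCoh.isCoh_tensor (Hilb.isCoh_invertible hM) Fdesc.LocGen.isInvertible_structureModule

theorem isCoh_X₁ [IsLocallyNoetherian Y] : Coh.IsCoh (seq s M).X₁ :=
  Sga67.CohBasic.isCoh_of_iso (Ega2.Tens.swap _ _)
    (TwistCoh.isCoh_tensor (VarietyB.DegCartier.isCoh_idealMod (PicF2.zeroScheme N s)) hM)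

theorem isCoh_X₃ : Coh.IsCoh (seq s M).X₃ :=
  Sga67.CohBasic.isCoh_of_iso (Ega2.Tens.swap _ _)
    (TwistCoh.isCoh_tensor (VarietyB.DegCartier.isCoh_quotMod (PicF2.zeroScheme N s)) hM)

theorem hq_X₃ (k : Type u) [Field k] [Y.Over (Spec (CommRingCat.of k))] [(D s).Over (Spec (CommRingCat.of k))]
    (hι : ι s ≫ (Y ↘ Spec (CommRingCat.of k)) = D s ↘ Spec (CommRingCat.of k)) (q : ℕ) :
    hq k q (seq s M).X₃ = hq k q ((Scheme.Modules.pullback (ι s)).obj M) := by
  rw [hq_iso k (isoX₃ s hM) q]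
  exact (CurvesC.CurveNum.hhPushₗ k (ι s) hι _ q).finrank_eq.symm

end K243.Cut
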