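import Groth.Agent.Pic13.K243.Les
import Groth.Agent.VarietyB.RegGen
import Groth.Agent.CohqB.SerTw
import Groth.Agent.Fga.MumInputs
import Groth.Agent.Sga67.SerreVB
import Groth.Agent.Fga.TwistCoh
import Groth.Agent.Ega3B.ProjProper

/-!
# Mumford's trick

`P = P^n_k` over any field, `0 → F(-1) → F → G → 0` exact with `G` `m`-regular for `m ≥ μ`.  Then for `m ≥ μ`
`h¹(F(m))` is strictly decreasing until it vanishes (`trick`), so `h¹(F(m + j)) ≤ h¹(F(m)) - j` (`trick_iter`).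
-/

set_option autoImplicit false
universe u
open CategoryTheory CategoryTheory.Limits AlgebraicGeometry

namespace K243.Trick

open Groth.Agent Groth.Agent.VarietyA.EulerLES Groth.Agent.Fga.PicMon Groth.Agent.Fga.TwistGr Groth.Agent.CohqB.SerTw
open K243.Les Groth.Agent.Fdesc.LocGen

section Gen

variable {X : Scheme.{u}}

theorem surj_mapA_iff (k : Type u) [Field k] [X.Over (Spec (CommRingCat.of k))] {F G : X.Modules} (g : F ⟶ G) :
    Function.Surjective (mapA k g 0) ↔ Function.Surjective (g.app ⊤) := by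
  have h : ∀ x : Coh.HH X F 0, CurvesB.HZero.equivAdd G (mapA k g 0 x) = g.app ⊤ (CurvesB.HZero.equivAdd F x) :=
    fun x => CurvesB.HZero.equivAdd_map g x
  constructor
  · intro hs t
    obtain ⟨x, hx⟩ := hs ((CurvesB.HZero.equivAdd G).symm t)
    refine ⟨CurvesB.HZero.equivAdd F x, ?_⟩
    rw [← h, hx, AddEquiv.apply_symm_apply]
  · intro hs x
    obtain ⟨t, ht⟩ := hs (CurvesB.HZero.equivAdd G x)
    refine ⟨(CurvesB.HZero.equivAdd F).symm t, (CurvesB.HZero.equivAdd G).injective ?_⟩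
    rw [h, AddEquiv.apply_symm_apply, ht]

end Gen

variable (k : Type u) [Field k] (n : ℕ)

/-- Twisting by `O(m)`. -/
noncomputable abbrev tO (m : ℤ) : (CohB1.ProjSpace n k).Modules ⥤ (CohB1.ProjSpace n k).Modules :=
  tw (Twist.twistProjSpace n k m)

theorem inv_O (m : ℤ) : PicF.IsInvertible (Twist.twistProjSpace n k m) := Sga67.SerreVB.isInvertible_twist n k m

theorem natur {F G : (CohB1.ProjSpace n k).Modules} (g : F ⟶ G) (j : Fin (n + 1)) (m : ℤ) :
    (tO k n m).map g ≫ (grF G).x j m = (grF F).x j m ≫ (tO k n (m + 1)).map g := by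
  refine hom_ext_tmul _ _ fun U a b => ?_
  have h1 : ((tO k n m).map g).app U (tmul a b) = tmul (g.app U a) b := tw_map_tmul g a b
  have h2 : ((grF G).x j m).app U (tmul (g.app U a) b) = tmul (g.app U a) ((mulVar n k j m).app U b) :=
    tmap_app_tmul G (mulVar n k j m) (g.app U a) b
  have h3 : ((grF F).x j m).app U (tmul a b) = tmul a ((mulVar n k j m).app U b) :=
    tmap_app_tmul F (mulVar n k j m) a b
  have h4 : ((tO k n (m + 1)).map g).app U (tmul a ((mulVar n k j m).app U b)) =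
      tmul (g.app U a) ((mulVar n k j m).app U b) := tw_map_tmul g a _
  change ((grF G).x j m).app U (((tO k n m).map g).app U (tmul a b)) =
    ((tO k n (m + 1)).map g).app U (((grF F).x j m).app U (tmul a b))
  rw [h1, h2, h3, h4]

/-- The image of sections generates in the next degree. -/
theorem surj_succ {F G : (CohB1.ProjSpace n k).Modules} (g : F ⟶ G) (hG : Coh.IsQCoh G) {m : ℤ}
    (hreg : Curv2.IsMRegular k n G m) (hs : Function.Surjective (((tO k n m).map g).app ⊤)) :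
    Function.Surjective (((tO k n (m + 1)).map g).app ⊤) := by
  intro t
  obtain ⟨s, hs'⟩ := VarietyB.RegGen.exists_sum hG hreg t
  choose u hu using fun j => hs (s j)
  refine ⟨∑ j, ((grF F).x j m).app ⊤ (u j), ?_⟩
  have h0 := map_sum (ConcreteCategory.hom (((tO k n (m + 1)).map g).app ⊤))
    (fun j => ((grF F).x j m).app ⊤ (u j)) Finset.univ
  refine h0.trans (Eq.trans ?_ hs')
  refine Finset.sum_congr rfl fun j _ => ?_
  have h1 := congr(($(natur k n g j m)).app ⊤ (u j))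
  rw [← hu j]
  exact h1.symm

variable {k n} {S : ShortComplex (CohB1.ProjSpace n k).Modules} (hS : S.ShortExact)
  (h₁ : Coh.IsCoh S.X₁) (h₂ : Coh.IsCoh S.X₂) (h₃ : Coh.IsCoh S.X₃)
  (hmc : mc S.X₁ = mc S.X₂ * mc (Twist.twistProjSpace n k (-1))) {μ : ℤ}
  (hv : ∀ m : ℤ, μ ≤ m → ∀ q : ℕ, 1 ≤ q → Subsingleton (Coh.HH (CohB1.ProjSpace n k)
    (CohB1.tensorMod S.X₃ (Twist.twistProjSpace n k (m - q))) q))

/-- `h¹(F(m))`. -/
noncomputable def f1 (F : (CohB1.ProjSpace n k).Modules) (m : ℤ) : ℕ :=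
  hq k 1 (CohB1.tensorMod F (Twist.twistProjSpace n k m))

theorem mc_O_add (a b : ℤ) : mc (Twist.twistProjSpace n k a) * mc (Twist.twistProjSpace n k b) =
    mc (Twist.twistProjSpace n k (a + b)) := by
  obtain ⟨e⟩ := Sga67.SerreVB.nonempty_twist_mul n k a b
  rw [← mc_tensor]
  exact mc_eq e

include hmc in
theorem f1_X₁ (m : ℤ) : hq k 1 (CohB1.tensorMod S.X₁ (Twist.twistProjSpace n k m)) = f1 S.X₂ (m - 1) := by
  refine hq_mc k ?_ 1
  rw [mc_tensor, mc_tensor, hmc, mul_assoc, mc_O_add]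
  congr 3
  ring

include hv in
theorem van (m : ℤ) (hm : μ - 1 ≤ m) : Subsingleton (Coh.HH (CohB1.ProjSpace n k)
    (CohB1.tensorMod S.X₃ (Twist.twistProjSpace n k m)) 1) := by
  have h := hv (m + 1) (by omega) 1 le_rfl
  rwa [show m + 1 - ((1 : ℕ) : ℤ) = m by push_cast; ring] at h

include hS h₁ h₂ hmc hv

theorem surj_iff (m : ℤ) (hm : μ - 1 ≤ m) :
    Function.Surjective (((tO k n m).map S.g).app ⊤) ↔ f1 S.X₂ (m - 1) ≤ f1 S.X₂ m := by
  have hP : IsProper (CohB1.ProjSpace n k ↘ Spec (CommRingCat.of k)) := Ega3B.ProjProper.isProper_toSpec n k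
  rw [← surj_mapA_iff k, ← f1_X₁ hmc m]
  constructor
  · intro h
    exact le_of_surjective k (shortExact_tw (inv_O k n m) hS) (Fga.TwistCoh.isCoh_tensor h₁ (inv_O k n m)) 0
      (Fga.TwistCoh.isCoh_tensor h₂ (inv_O k n m)) h
  · intro h
    exact surjective_of_hq_le k (shortExact_tw (inv_O k n m) hS) (Fga.TwistCoh.isCoh_tensor h₁ (inv_O k n m))
      (Fga.TwistCoh.isCoh_tensor h₂ (inv_O k n m)) 0 (van hv m hm) h

include h₃

theorem f1_le (m : ℤ) (hm : μ - 1 ≤ m) : f1 S.X₂ m ≤ f1 S.X₂ (m - 1) := by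
  have hP : IsProper (CohB1.ProjSpace n k ↘ Spec (CommRingCat.of k)) := Ega3B.ProjProper.isProper_toSpec n k
  have h := le_mid k (shortExact_tw (inv_O k n m) hS) (Fga.TwistCoh.isCoh_tensor h₁ (inv_O k n m))
    (Fga.TwistCoh.isCoh_tensor h₂ (inv_O k n m)) (Fga.TwistCoh.isCoh_tensor h₃ (inv_O k n m)) 1
  have h3 : hq k 1 (CohB1.tensorMod S.X₃ (Twist.twistProjSpace n k m)) = 0 := hq_of_subsingleton k (van hv m hm)
  have h4 := f1_X₁ hmc m
  change hq k 1 (CohB1.tensorMod S.X₂ _) ≤ hq k 1 (CohB1.tensorMod S.X₁ _) + hq k 1 (CohB1.tensorMod S.X₃ _) at h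
  rw [h3, h4] at h
  exact h

theorem const_of_surj (m : ℤ) (hm : μ ≤ m) (h : f1 S.X₂ (m - 1) ≤ f1 S.X₂ m) (j : ℕ) :
    f1 S.X₂ (m - 1) ≤ f1 S.X₂ (m + j) ∧ Function.Surjective (((tO k n (m + j)).map S.g).app ⊤) := by
  induction j with
  | zero =>
    have h1 := (surj_iff hS h₁ h₂ hmc hv m (by omega)).mpr h
    have e : m + ((0 : ℕ) : ℤ) = m := by simp
    rw [e]
    exact ⟨h, h1⟩
  | succ j ih =>
    have hreg : Curv2.IsMRegular k n S.X₃ (m + j) := fun q hq _ => hv _ (by omega) q hq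
    have h1 := surj_succ k n S.g h₃.1 hreg ih.2
    have e : m + ((j + 1 : ℕ) : ℤ) = m + j + 1 := by push_cast; ring
    rw [e]
    refine ⟨ih.1.trans ?_, h1⟩
    have h2 := (surj_iff hS h₁ h₂ hmc hv (m + j + 1) (by omega)).mp h1
    rwa [add_sub_cancel_right] at h2

/-- **Mumford's trick**: `h¹` drops until it vanishes. -/
theorem trick (m : ℤ) (hm : μ ≤ m) : f1 S.X₂ m ≤ f1 S.X₂ (m - 1) - 1 := by
  by_cases h : f1 S.X₂ (m - 1) ≤ f1 S.X₂ m
  · obtain ⟨r₀, hr₀⟩ := Fga.MumInputs.serre k n S.X₂ h₂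
    have h1 := (const_of_surj hS h₁ h₂ h₃ hmc hv m hm h (r₀ - m).toNat).1
    have h2 : f1 S.X₂ (m + (r₀ - m).toNat) = 0 := by
      have := hr₀ (m + (r₀ - m).toNat) (by omega) 1 le_rfl
      exact hq_of_subsingleton k this
    have h3 := f1_le hS h₁ h₂ h₃ hmc hv m (by omega)
    omega
  · have h3 := f1_le hS h₁ h₂ h₃ hmc hv m (by omega)
    omega

theorem trick_iter (m : ℤ) (hm : μ - 1 ≤ m) (j : ℕ) : f1 S.X₂ (m + j) ≤ f1 S.X₂ m - j := by
  induction j with
  | zero => simp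
  | succ j ih =>
    have h := trick hS h₁ h₂ h₃ hmc hv (m + j + 1) (by omega)
    rw [add_sub_cancel_right] at h
    have e : m + ((j + 1 : ℕ) : ℤ) = m + j + 1 := by push_cast; ring
    rw [e]
    omega

end K243.Trick
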