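import Groth.Agent.Pic13.K243.Cut
import Groth.Agent.Pic13.K243.Trick
import Groth.Agent.Sga67.HomInvB

/-!
# Hyperplane sections of an embedded integral scheme

`j : Y ⟶ P^n_K` a closed immersion, `Y` integral, `N ≅ O_Y(1)`, `s ≠ 0` a section of `N`, `D` its zero scheme,
`M` invertible on `Y`; `hX` the dimensions of the cohomology of `M(m)`, and on `D` of `M_D(m)`.
`le_mid`, `le_left`, `le_right`, `hf_cut`, `trick_iter`.
-/

set_option autoImplicit false
set_option linter.unusedSectionVars false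
universe u
open CategoryTheory CategoryTheory.Limits AlgebraicGeometry Opposite TopologicalSpace

namespace K243.CutEmb

open Groth.Agent Groth.Agent.Fga Groth.Agent.Fga.PicMon K243.Base K243.Les K243.Hilb

/-- `f^*` on classes. -/
theorem mc_pull_tensor {Y Z : Scheme.{u}} (f : Y ⟶ Z) {A B : Z.Modules} (hA : PicF.IsInvertible A)
    (hB : PicF.IsInvertible B) : mc ((Scheme.Modules.pullback f).obj (CohB1.tensorMod A B)) =
      mc ((Scheme.Modules.pullback f).obj A) * mc ((Scheme.Modules.pullback f).obj B) := by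
  rw [← mc_tensor]
  exact mc_eq (Ega3B.PullTensor.pullTensorIso f hA hB)

theorem mc_pull_congr {Y Z : Scheme.{u}} (f : Y ⟶ Z) {A B : Z.Modules} (h : mc A = mc B) :
    mc ((Scheme.Modules.pullback f).obj A) = mc ((Scheme.Modules.pullback f).obj B) := by
  obtain ⟨e⟩ := (mc_eq_iff A B).mp h
  exact mc_eq ((Scheme.Modules.pullback f).mapIso e)

theorem mc_pull_unit {Y Z : Scheme.{u}} (f : Y ⟶ Z) :
    mc ((Scheme.Modules.pullback f).obj (Coh.structureModule Z)) = 1 := by
  obtain ⟨e⟩ := Ega3B.PullTensor.nonempty_pullUnitIso f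
  rw [← mc_one]; exact mc_eq e

theorem mc_pull_comp {Y Z W : Scheme.{u}} (f : Y ⟶ Z) (g : Z ⟶ W) (A : W.Modules) :
    mc ((Scheme.Modules.pullback f).obj ((Scheme.Modules.pullback g).obj A)) =
      mc ((Scheme.Modules.pullback (f ≫ g)).obj A) :=
  mc_eq ((Scheme.Modules.pullbackComp f g).app A)

theorem euler_congr (K K' : Type u) [Field K] [Field K'] {Y Y' : Scheme.{u}} [Y.Over (Spec (CommRingCat.of K))]
    [Y'.Over (Spec (CommRingCat.of K'))] {F : Y.Modules} {F' : Y'.Modules} (h : ∀ q, hq K q F = hq K' q F') (d : ℕ) :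
    FGA.eulerCharLE K Y F d = FGA.eulerCharLE K' Y' F' d := by
  unfold FGA.eulerCharLE
  refine Finset.sum_congr rfl fun q _ => ?_
  have := h q
  unfold hq at this
  rw [this]

section HX

variable (k : Type u) [Field k] {n : ℕ} {X : Scheme.{u}} [X.Over (Spec (CommRingCat.of k))]
  (i : X ⟶ CohB1.ProjSpace n k)

/-- `h^q(L(m))`. -/
noncomputable def hX (L : X.Modules) (m : ℤ) (q : ℕ) : ℕ := hq k q (Pic13.twistOn k i L m)

theorem hX_congr {L M : X.Modules} (h : mc L = mc M) (m : ℤ) (q : ℕ) : hX k i L m q = hX k i M m q :=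
  hq_mc k (by rw [mc_twistOn, mc_twistOn, h]) q

theorem hX_twist (L : X.Modules) (a m : ℤ) (q : ℕ) : hX k i (Pic13.twistOn k i L a) m q = hX k i L (a + m) q :=
  hq_mc k (by rw [mc_twistOn, mc_twistOn, mc_twistOn, o_add, mul_assoc]) q

theorem hX_push [IsClosedImmersion i] (hi : i ≫ CohB1.ProjSpace.toSpec n k = X ↘ Spec (CommRingCat.of k))
    (F : X.Modules) (m : ℤ) (q : ℕ) :
    hq k q (CohB1.tensorMod ((Scheme.Modules.pushforward i).obj F) (Twist.twistProjSpace n k m)) = hX k i F m q := by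
  rw [← hq_iso k (Pic13.H951.PresentX.pushTwist k i F m) q]
  exact (CurvesC.CurveNum.hhPushₗ k i hi _ q).finrank_eq.symm

end HX

/-- The zero scheme over the base field. -/
noncomputable instance overD {K : Type u} [Field K] {Y : Scheme.{u}} [Y.Over (Spec (CommRingCat.of K))]
    {N : Y.Modules} (s : Coh.structureModule Y ⟶ N) : (Cut.D s).Over (Spec (CommRingCat.of K)) :=
  ⟨Cut.ι s ≫ (Y ↘ Spec (CommRingCat.of K))⟩

theorem ι_over {K : Type u} [Field K] {Y : Scheme.{u}} [Y.Over (Spec (CommRingCat.of K))]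
    {N : Y.Modules} (s : Coh.structureModule Y ⟶ N) :
    Cut.ι s ≫ (Y ↘ Spec (CommRingCat.of K)) = Cut.D s ↘ Spec (CommRingCat.of K) := rfl

variable (K : Type u) [Field K] {n : ℕ} {Y : Scheme.{u}} [Y.Over (Spec (CommRingCat.of K))]
  (j : Y ⟶ CohB1.ProjSpace n K) {N : Y.Modules} (s : Coh.structureModule Y ⟶ N)

/-- The embedding of the section. -/
noncomputable abbrev jD : Cut.D s ⟶ CohB1.ProjSpace n K := Cut.ι s ≫ j

theorem jD_toSpec (hj : j ≫ CohB1.ProjSpace.toSpec n K = Y ↘ Spec (CommRingCat.of K)) :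
    jD K j s ≫ CohB1.ProjSpace.toSpec n K = Cut.D s ↘ Spec (CommRingCat.of K) := by
  rw [Category.assoc, hj]
  rfl

/-- Restriction to `D`. -/
noncomputable abbrev res (M : Y.Modules) : (Cut.D s).Modules := (Scheme.Modules.pullback (Cut.ι s)).obj M

theorem mc_O_jD (d : ℤ) : mc (O (jD K j s) d) = mc (res s (O j d)) := (mc_pull_comp _ _ _).symm

/-- The sequence. -/
noncomputable def T (M : Y.Modules) (m : ℤ) : ShortComplex Y.Modules := Cut.seq s (Pic13.twistOn K j M m)

variable {M : Y.Modules} (hM : PicF.IsInvertible M) (m : ℤ)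

include hM in
theorem isInvertible_res : PicF.IsInvertible (res s M) := Fdesc.LocGen.isInvertible_pullback _ hM

include hM in
theorem T_shortExact : (T K j s M m).ShortExact := Cut.seq_shortExact s (isInvertible_twistOn j hM m)

theorem mc_T₂ : mc (T K j s M m).X₂ = mc (Pic13.twistOn K j M m) := Cut.mc_X₂ s _

theorem mc_T₁ [IsIntegral Y] (hN : PicF.IsInvertible N) (hNO : mc N = o j 1) (hs : s ≠ 0) :
    mc (T K j s M m).X₁ = mc (Pic13.twistOn K j M (m - 1)) := by
  have hP : mc N * mc (O j (-1)) = 1 := by rw [hNO]; exact o_mul_neg j 1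
  rw [T, Cut.mc_X₁ s _ hN hs hP, mc_twistOn, mc_twistOn, mc_O, mul_assoc, ← o_add]
  rfl

theorem mc_T₃ : mc (T K j s M m).X₃ = mc (T K j s M 0).X₃ * o j m := by
  have h : ∀ a, mc (T K j s M a).X₃ = mc (Pic13.twistOn K j M a) * mc (ClSub.quotMod (PicF2.zeroScheme N s)) := by
    intro a
    rw [T, Cut.X₃_eq, mc_tensor]
  rw [h, h, mc_twistOn, mc_twistOn, o_zero, mul_one, mul_right_comm]

include hM in
theorem mc_res : mc (res s (Pic13.twistOn K j M m)) = mc (Pic13.twistOn K (jD K j s) (res s M) m) := by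
  rw [mc_twistOn]
  have h1 : mc (res s (Pic13.twistOn K j M m)) = _ := mc_pull_tensor (Cut.ι s) hM (isInvertible_O j m)
  refine h1.trans ?_
  congr 1
  exact (mc_O_jD K j s m).symm

theorem hq_T₂ (q : ℕ) : hq K q (T K j s M m).X₂ = hX K j M m q := hq_mc K (mc_T₂ K j s m) q

theorem hq_T₁ [IsIntegral Y] (hN : PicF.IsInvertible N) (hNO : mc N = o j 1) (hs : s ≠ 0) (q : ℕ) :
    hq K q (T K j s M m).X₁ = hX K j M (m - 1) q := hq_mc K (mc_T₁ K j s m hN hNO hs) q

include hM in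
theorem hq_T₃ (q : ℕ) : hq K q (T K j s M m).X₃ = hX K (jD K j s) (res s M) m q := by
  rw [T, Cut.hq_X₃ s (isInvertible_twistOn j hM m) K (ι_over s) q]
  exact hq_mc K (mc_res K j s hM m) q

include hM in
theorem coh_T [IsLocallyNoetherian Y] :
    Coh.IsCoh (T K j s M m).X₁ ∧ Coh.IsCoh (T K j s M m).X₂ ∧ Coh.IsCoh (T K j s M m).X₃ :=
  ⟨Cut.isCoh_X₁ s (isInvertible_twistOn j hM m), Cut.isCoh_X₂ s (isInvertible_twistOn j hM m),
    Cut.isCoh_X₃ s (isInvertible_twistOn j hM m)⟩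

section Ineq

variable [IsProper (Y ↘ Spec (CommRingCat.of K))] [IsIntegral Y] (hN : PicF.IsInvertible N) (hNO : mc N = o j 1)
  (hs : s ≠ 0) (q : ℕ)

include hN hNO hM hs

theorem le_mid : hX K j M m q ≤ hX K j M (m - 1) q + hX K (jD K j s) (res s M) m q := by
  have := HypSec.isNoetherian K Y
  obtain ⟨h1, h2, h3⟩ := coh_T K j s hM m
  rw [← hq_T₁ K j s m hN hNO hs, ← hq_T₂ K j s m, ← hq_T₃ K j s hM m]
  exact Les.le_mid K (T_shortExact K j s hM m) h1 h2 h3 q

theorem le_right : hX K (jD K j s) (res s M) m q ≤ hX K j M m q + hX K j M (m - 1) (q + 1) := by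
  have := HypSec.isNoetherian K Y
  obtain ⟨h1, h2, h3⟩ := coh_T K j s hM m
  rw [← hq_T₁ K j s m hN hNO hs, ← hq_T₂ K j s m, ← hq_T₃ K j s hM m]
  exact Les.le_right K (T_shortExact K j s hM m) h1 h2 h3 q

theorem le_left : hX K j M (m - 1) (q + 1) ≤ hX K (jD K j s) (res s M) m q + hX K j M m (q + 1) := by
  have := HypSec.isNoetherian K Y
  obtain ⟨h1, h2, h3⟩ := coh_T K j s hM m
  rw [← hq_T₁ K j s m hN hNO hs, ← hq_T₂ K j s m, ← hq_T₃ K j s hM m]
  exact Les.le_left K (T_shortExact K j s hM m) h1 h2 h3 q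

/-- The Hilbert function of the section. -/
theorem hf_cut (d : ℕ) (hd : topologicalKrullDim Y ≤ d) :
    hf K (jD K j s) d (res s M) = Diff.nab (hf K j d M) := by
  have := HypSec.isNoetherian K Y
  funext m
  obtain ⟨h1, h2, h3⟩ := coh_T K j s hM m
  have hadd := IntAdd.isAdd_euler K Y d hd _ (T_shortExact K j s hM m) h1 h2 h3
  have e1 : FGA.eulerCharLE K Y (T K j s M m).X₁ d = hf K j d M (m - 1) :=
    euler_congr K K (fun q => hq_T₁ K j s m hN hNO hs q) d
  have e2 : FGA.eulerCharLE K Y (T K j s M m).X₂ d = hf K j d M m := euler_congr K K (fun q => hq_T₂ K j s m q) d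
  have e3 : FGA.eulerCharLE K Y (T K j s M m).X₃ d = hf K (jD K j s) d (res s M) m :=
    euler_congr K K (fun q => hq_T₃ K j s hM m q) d
  rw [Diff.nab_apply, ← e1, ← e2, ← e3]
  simp only at hadd
  rw [hadd]
  ring

variable [IsClosedImmersion j] (hj : j ≫ CohB1.ProjSpace.toSpec n K = Y ↘ Spec (CommRingCat.of K))

include hj in
/-- **Mumford's trick**. -/
theorem trick_iter (μ : ℤ) (hv : ∀ m : ℤ, μ ≤ m → ∀ q : ℕ, 1 ≤ q → hX K (jD K j s) (res s M) (m - q) q = 0)
    (hm : μ - 1 ≤ m) (l : ℕ) : hX K j M (m + l) 1 ≤ hX K j M m 1 - l := by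
  have := HypSec.isNoetherian K Y
  have hD : IsProper (Cut.D s ↘ Spec (CommRingCat.of K)) := inferInstanceAs
    (IsProper (Cut.ι s ≫ (Y ↘ Spec (CommRingCat.of K))))
  obtain ⟨h1, h2, h3⟩ := coh_T K j s hM 0
  have hS := Sga67.HomInvB.shortExact_push j (T_shortExact K j s hM 0) h2.1 h3.1
  have hc₁ := Pic13.H951.PresentX.isCoh_push K j h1
  have hc₂ := Pic13.H951.PresentX.isCoh_push K j h2
  have hc₃ := Pic13.H951.PresentX.isCoh_push K j h3
  have hmc : mc ((T K j s M 0).map (Scheme.Modules.pushforward j)).X₁ =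
      mc ((T K j s M 0).map (Scheme.Modules.pushforward j)).X₂ * mc (Twist.twistProjSpace n K (-1)) := by
    rw [← mc_tensor]
    refine Eq.trans ?_ (mc_eq (Pic13.H951.PresentX.pushTwist K j (T K j s M 0).X₂ (-1)))
    obtain ⟨e⟩ := (mc_eq_iff (T K j s M 0).X₁ (Pic13.twistOn K j (T K j s M 0).X₂ (-1))).mp (by
      rw [mc_T₁ K j s 0 hN hNO hs, mc_twistOn j (T K j s M 0).X₂ (-1), mc_T₂ K j s 0, mc_twistOn, mc_twistOn,
        mul_assoc, ← o_add]
      rfl)
    exact mc_eq ((Scheme.Modules.pushforward j).mapIso e)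
  have hsub : ∀ m : ℤ, μ ≤ m → ∀ q : ℕ, 1 ≤ q → Subsingleton (Coh.HH (CohB1.ProjSpace n K)
      (CohB1.tensorMod ((T K j s M 0).map (Scheme.Modules.pushforward j)).X₃ (Twist.twistProjSpace n K (m - q))) q) := by
    intro m hm q hq'
    have hP : IsProper (CohB1.ProjSpace n K ↘ Spec (CommRingCat.of K)) := Ega3B.ProjProper.isProper_toSpec n K
    refine subsingleton_of_hq K (TwistCoh.isCoh_tensor hc₃ (Trick.inv_O K n _)) ?_
    have e1 := hX_push K j hj (T K j s M 0).X₃ (m - q) q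
    refine e1.trans ?_
    rw [← hv m hm q hq', ← hq_T₃ K j s hM]
    exact hq_mc K (by rw [mc_twistOn, mc_T₃ K j s (m - q)]) q
  have h := Trick.trick_iter hS hc₁ hc₂ hc₃ hmc hsub m hm l
  have e : ∀ a : ℤ, Trick.f1 ((T K j s M 0).map (Scheme.Modules.pushforward j)).X₂ a = hX K j M a 1 := by
    intro a
    refine (hX_push K j hj (T K j s M 0).X₂ a 1).trans (hX_congr K j ?_ a 1)
    rw [mc_T₂, mc_twistOn, o_zero, mul_one]
  rw [e, e] at h
  exact h

end Ineq

end K243.CutEmb
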