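import Groth.Agent.Pic13.K243.Coeffs

/-!
# Degrees as differences of Hilbert functions

`deg i s L' = (c₁(L) · c₁(O_X(1))^s)`, `L'` the inverse of `L`: `deg_eq`, `deg_twist`, `top_pos`; `exists_ev`: a function
`ℤ → ℤ` killed by `nab^[r]` is an expansion `ev a`.
-/

set_option autoImplicit false
set_option linter.unusedSectionVars false
universe u v
open CategoryTheory CategoryTheory.Limits AlgebraicGeometry

namespace K243.Deg

open Groth.Agent Groth.Agent.Fga Groth.Agent.Fga.PicMon
open K243.Base K243.Diff K243.Hilb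

theorem cc_succ_neg_one (j : ℕ) : cc (j + 1) (-1) = 0 := by
  simp only [cc]
  have h : (-1 : ℤ) + ((j + 1 : ℕ) : ℤ) = ((j : ℕ) : ℤ) := by push_cast; ring
  rw [h, Ring.choose_natCast, Nat.choose_succ_self]
  rfl

theorem ev_neg_one {r : ℕ} (a : Fin (r + 1) → ℤ) : ev a (-1) = a 0 := by
  simp only [ev]
  rw [Fin.sum_univ_succ]
  simp only [Fin.val_zero, cc_zero, Fin.val_succ, cc_succ_neg_one, mul_zero, Finset.sum_const_zero]
  ring

theorem exists_ev (r : ℕ) (f : ℤ → ℤ) (h : nab^[r] f = 0) : ∃ a : Fin r → ℤ, f = ev a := by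
  induction r generalizing f with
  | zero => exact ⟨Fin.elim0, by rw [ev_zero]; exact h⟩
  | succ r ih =>
    obtain ⟨b, hb⟩ := ih (nab f) (by rw [← Function.iterate_succ_apply]; exact h)
    refine ⟨Fin.cons (f (-1)) b, ?_⟩
    have h1 : nab (f - ev (Fin.cons (f (-1)) b : Fin (r + 1) → ℤ)) = 0 := by
      rw [nab_sub, nab_ev, hb]
      simp only [Fin.cons_succ, sub_self]
    funext m
    have h2 := const_of_nab h1 m (-1)
    rw [Pi.sub_apply, Pi.sub_apply, ev_neg_one, Fin.cons_zero, sub_self] at h2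
    linarith

/-- The coefficients of `L` at a point. -/
theorem nab_iter_ev_succ {r : ℕ} (a : Fin (r + 2) → ℤ) (m : ℤ) :
    nab^[r] (ev a) m = a (Fin.castSucc (Fin.last r)) + a (Fin.last (r + 1)) * (m + 1) := by
  have h3 := nab_iter_ev_add r 2 (fun j : Fin (2 + r) => a ⟨j, by omega⟩)
  have h4 : ev a = ev (fun j : Fin (2 + r) => a ⟨j, by omega⟩) := by
    funext m
    simp only [ev]
    exact Fintype.sum_equiv (finCongr (by omega)) _ _ (fun j => rfl)
  rw [h4, h3]
  simp only [ev, Fin.sum_univ_two]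
  have e1 : (⟨((0 : Fin 2) : ℕ) + r, by omega⟩ : Fin (r + 2)) = Fin.castSucc (Fin.last r) := by
    ext; simp
  have e2 : (⟨((1 : Fin 2) : ℕ) + r, by omega⟩ : Fin (r + 2)) = Fin.last (r + 1) := by
    ext; simp [add_comm]
  simp only [e1, e2]
  simp [cc_zero, cc_one]

variable (k : Type u) [Field k] {n : ℕ} {X : Scheme.{u}} [X.Over (Spec (CommRingCat.of k))]
  (i : X ⟶ CohB1.ProjSpace n k)

/-- `(c₁(L) · c₁(O_X(1))^s)`. -/
noncomputable def deg (s : ℕ) (L' : X.Modules) : ℤ :=
  FGA.intNum k X (s + 1) (Fin.cons L' (fun _ : Fin s => O i (-1)) : Fin (s + 1) → X.Modules) (Coh.structureModule X)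

variable [IsProper (X ↘ Spec (CommRingCat.of k))] (s : ℕ) (hd : topologicalKrullDim X ≤ (s + 1 : ℕ))

include hd in
theorem deg_eq {L L' : X.Modules} (hL : PicF.IsInvertible L)
    (hLL' : Nonempty (CohB1.tensorMod L L' ≅ Coh.structureModule X)) :
    deg k i s L' = nab^[s] (hf k i (s + 1) L) 0 - nab^[s] (hf k i (s + 1) (Coh.structureModule X)) 0 := by
  have hO := Coeffs.isInvertible_unit (X := X)
  have hL' := isInvertible_inv hLL'
  have h1 := intNum_cons k X (s + 1) L' (fun _ : Fin s => O i (-1)) L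
  have h2 : FGA.intNum k X (s + 1) (Fin.cons L' (fun _ : Fin s => O i (-1)) : Fin (s + 1) → X.Modules) L =
      FGA.intNum k X (s + 1) (Fin.cons L' (fun _ : Fin s => O i (-1)) : Fin (s + 1) → X.Modules)
        (Coh.structureModule X) := by
    rw [← intNum_invariant k (s + 1) hd (Fin.cons L' (fun _ : Fin s => O i (-1)) : Fin (s + 1) → X.Modules)
      (fun j => by
        cases j using Fin.cases with
        | zero => exact hL'
        | succ j => exact isInvertible_O i (-1))
      (Coh.structureModule X) (isCoh_invertible hO) (by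
        rw [dim_support_invertible hO]
        exact lt_of_le_of_lt hd (by exact_mod_cast Nat.lt_succ_self (s + 1))) hL]
    exact intNum_congr_mc k (s + 1) _ (by rw [mc_tensor, mc_one, mul_one])
  have h3 : FGA.intNum k X (s + 1) (fun _ : Fin s => O i (-1)) (CohB1.tensorMod L' L) =
      FGA.intNum k X (s + 1) (fun _ : Fin s => O i (-1)) (Coh.structureModule X) :=
    intNum_congr_mc k (s + 1) _ (by rw [mc_tensor, mc_inv_mul hLL', mc_one])
  rw [h2, h3, intNum_const_zero k i, intNum_const_zero k i] at h1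
  exact h1

theorem nab_twist (d : ℕ) (F : X.Modules) (m : ℤ) (t : ℕ) (x : ℤ) :
    nab^[t] (hf k i d (Pic13.twistOn k i F m)) x = nab^[t] (hf k i d F) (m + x) := by
  induction t generalizing x with
  | zero => exact hf_twist k i d F m x
  | succ t ih =>
    rw [Function.iterate_succ_apply', Function.iterate_succ_apply', nab_apply, nab_apply, ih, ih]
    congr 2
    ring

theorem twist_inv {L L' : X.Modules} (hLL' : Nonempty (CohB1.tensorMod L L' ≅ Coh.structureModule X)) (m : ℤ) :
    Nonempty (CohB1.tensorMod (Pic13.twistOn k i L m) (Pic13.twistOn k i L' (-m)) ≅ Coh.structureModule X) := by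
  rw [← mc_eq_iff, mc_tensor, mc_twistOn, mc_twistOn, mul_mul_mul_comm, mc_mul_inv hLL', one_mul, o_mul_neg, mc_one]

include hd in
/-- Degree of the twists. -/
theorem deg_twist {L L' : X.Modules} (hL : PicF.IsInvertible L)
    (hLL' : Nonempty (CohB1.tensorMod L L' ≅ Coh.structureModule X)) (m : ℤ) :
    deg k i s (Pic13.twistOn k i L' (-m)) =
      deg k i s L' + (nab^[s] (hf k i (s + 1) L) m - nab^[s] (hf k i (s + 1) L) 0) := by
  rw [deg_eq k i s hd hL hLL', deg_eq k i s hd (isInvertible_twistOn i hL m) (twist_inv k i hLL' m), nab_twist]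
  rw [add_zero]
  ring

end K243.Deg
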