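import Groth.Agent.Pic13.K243.Quad

/-!
# Iterated generic linear sections

`X ⊆ P^n_k` integral of dimension `r + 2`, `k` infinite.  `Down k i r` is an integral closed subscheme `S ⊆ P^n_K` over an
infinite field `K` with a restriction of invertible modules whose Hilbert functions are the `r`-th differences of those
on `X`; `exists_down`: there is one with `dim S = 2`.
-/

set_option autoImplicit false
set_option linter.unusedSectionVars false
universe u
open CategoryTheory CategoryTheory.Limits AlgebraicGeometry Opposite TopologicalSpace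

namespace K243.Down

open Groth.Agent Groth.Agent.Fga Groth.Agent.Fga.PicMon K243.Base K243.Les K243.CutEmb K243.Hilb K243.Member
open K243.Diff K243.Deg K243.Surface
open Groth.Agent.Pic13.H956.GenExt Groth.Agent.Pic13.H956.GenAlg

/-- Restriction data. -/
structure Down (k : Type u) [Field k] {n : ℕ} {X : Scheme.{u}} [X.Over (Spec (CommRingCat.of k))]
    (i : X ⟶ CohB1.ProjSpace n k) (r d : ℕ) where
  K : Type u
  fld : Field K
  inf : Infinite K
  S : Scheme.{u}
  ov : S.Over (Spec (CommRingCat.of K))
  j : S ⟶ CohB1.ProjSpace n K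
  cl : IsClosedImmersion j
  hj : j ≫ CohB1.ProjSpace.toSpec n K = S ↘ Spec (CommRingCat.of K)
  int : IsIntegral S
  Φ : X.Modules → S.Modules
  inv : ∀ {L}, PicF.IsInvertible L → PicF.IsInvertible (Φ L)
  congr : ∀ {A B}, mc A = mc B → mc (Φ A) = mc (Φ B)
  tensor : ∀ {A B}, PicF.IsInvertible A → PicF.IsInvertible B →
    mc (Φ (CohB1.tensorMod A B)) = mc (Φ A) * mc (Φ B)
  unit : mc (Φ (Coh.structureModule X)) = 1
  twist : ∀ m, mc (Φ (O i m)) = o j m
  hf_eq : ∀ {L}, PicF.IsInvertible L → hf K j d (Φ L) = nab^[r] (hf k i d L)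

theorem exists_down (r : ℕ) : ∀ (d : ℕ) (k : Type u) [Field k] [Infinite k] {n : ℕ} {X : Scheme.{u}}
    [X.Over (Spec (CommRingCat.of k))] (i : X ⟶ CohB1.ProjSpace n k) [IsClosedImmersion i]
    (_ : i ≫ CohB1.ProjSpace.toSpec n k = X ↘ Spec (CommRingCat.of k)) [IsIntegral X]
    (_ : topologicalKrullDim X = (r + 2 : ℕ)) (_ : r + 2 ≤ d),
    ∃ D : Down k i r d, topologicalKrullDim D.S = (2 : ℕ) := by
  induction r with
  | zero =>
    intro d k _ _ n X _ i _ hi _ hdim hd
    exact ⟨{ K := k, fld := inferInstance, inf := inferInstance, S := X, ov := inferInstance, j := i,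
             cl := inferInstance, hj := hi, int := inferInstance, Φ := id, inv := fun h => h, congr := fun h => h,
             tensor := fun _ _ => mc_tensor _ _, unit := mc_one, twist := fun _ => rfl,
             hf_eq := fun _ => rfl }, hdim⟩
  | succ r ih =>
    intro d k _ _ n X _ i _ hi _ hdim hd
    have hP := isProper_of i hi
    have hPG := proper_XG k i hi
    have hIG := integral_XG k i hi
    obtain ⟨t, ht, hint, hD⟩ := exists_member k i hi (r + 1) hdim
    have hPD : IsProper (Cut.D t ↘ Spec (CommRingCat.of (Gen k))) := proper_D (Gen k) t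
    have hjD := jD_toSpec (Gen k) (Ext.iG k i hi) t (Ext.iG_toSpec k i hi)
    obtain ⟨E, hE⟩ := ih d (Gen k) (jj k i hi t) hjD hD (by omega)
    have hdX : topologicalKrullDim X ≤ (d : ℕ) := hdim.le.trans (by exact_mod_cast hd)
    refine ⟨{ K := E.K, fld := E.fld, inf := E.inf, S := E.S, ov := E.ov, j := E.j, cl := E.cl, hj := E.hj,
              int := E.int, Φ := fun L => E.Φ (LD k i t L), inv := fun h => E.inv (isInvertible_res t (inv_up k h)),
              congr := fun h => E.congr (mc_pull_congr _ (mc_pull_congr _ h)), tensor := fun {A B} hA hB => ?_,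
              unit := ?_, twist := fun m => ?_, hf_eq := fun {L} h => ?_ }, hE⟩
    · rw [← E.tensor (isInvertible_res t (inv_up k hA)) (isInvertible_res t (inv_up k hB))]
      refine E.congr ?_
      rw [mc_tensor, ← mc_pull_tensor _ (inv_up k hA) (inv_up k hB)]
      refine mc_pull_congr _ ?_
      rw [mc_tensor]
      exact mc_pull_tensor _ hA hB
    · rw [← E.unit]
      refine E.congr ?_
      rw [mc_one]
      have h6 : mc (up k (Coh.structureModule X)) = mc (Coh.structureModule (XG k X)) := by
        rw [mc_one]; exact mc_pull_unit _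
      exact (mc_pull_congr (Cut.ι t) h6).trans (mc_pull_unit _)
    · rw [← E.twist m]
      refine E.congr ?_
      refine Eq.trans ?_ (mc_O_jD (Gen k) (Ext.iG k i hi) t m).symm
      exact mc_pull_congr _ (Ext.mc_O_iG k i hi m).symm
    · rw [E.hf_eq (isInvertible_res t (inv_up k h)), hf_LD k i hi t ht h d hdX, ← Function.iterate_succ_apply]

end K243.Down
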