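import Groth.Agent.Pic13.K243.Base
import Groth.Agent.Pic13.H956.GenExt
import Groth.Agent.Ega3A.PChart
import Groth.Agent.S0034
import Groth.Agent.Picfga.ChiBC

/-!
# The embedding of `X ×_k k(t)` in `P^n_{k(t)}`

* `iG i hi : XG k X ⟶ P^n_{k(t)}`, a closed immersion over `k(t)` if `i` is; `iG_toSpec`, `isClosedImmersion_iG`.
* `mc_O_iG`: the class of `O(d)` on `XG k X` is that of `pr^* O_X(d)`.
* `finrank_pull`: `h^q` does not change under `pr^*`.
-/

set_option autoImplicit false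
universe u
open CategoryTheory CategoryTheory.Limits AlgebraicGeometry

namespace K243.Ext

open Groth.Agent Groth.Agent.Fga Groth.Agent.Fga.PicMon Groth.Agent.Pic13.H956.GenExt Groth.Agent.Pic13.H956.GenAlg
open K243.Base Groth.Agent.CohqB.ProjBC

variable (k : Type u) [Field k] {n : ℕ} {X : Scheme.{u}} [X.Over (Spec (CommRingCat.of k))]
  (i : X ⟶ CohB1.ProjSpace n k) (hi : i ≫ CohB1.ProjSpace.toSpec n k = X ↘ Spec (CommRingCat.of k))

/-- `P^n_{k(t)} ⟶ P^n_k`. -/
noncomputable abbrev pK (n : ℕ) : CohB1.ProjSpace n (Gen k) ⟶ CohB1.ProjSpace n k := pmap (algebraMap k (Gen k)) n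

theorem isPullback_pK : IsPullback (pK k n) (CohB1.ProjSpace.toSpec n (Gen k)) (CohB1.ProjSpace.toSpec n k) (σ k) :=
  isPullback_pmap (algebraMap k (Gen k)) n

include hi in
theorem comm : (pr k X ≫ i) ≫ CohB1.ProjSpace.toSpec n k = (XG k X ↘ Spec (CommRingCat.of (Gen k))) ≫ σ k := by
  rw [Category.assoc, hi]
  exact (isPullback k X).w

/-- The embedding of `X ×_k k(t)`. -/
noncomputable def iG : XG k X ⟶ CohB1.ProjSpace n (Gen k) :=
  (isPullback_pK k (n := n)).lift (pr k X ≫ i) (XG k X ↘ Spec (CommRingCat.of (Gen k))) (comm k i hi)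

theorem iG_pK : iG k i hi ≫ pK k n = pr k X ≫ i := (isPullback_pK k (n := n)).lift_fst _ _ _

theorem iG_toSpec : iG k i hi ≫ CohB1.ProjSpace.toSpec n (Gen k) = XG k X ↘ Spec (CommRingCat.of (Gen k)) :=
  (isPullback_pK k (n := n)).lift_snd _ _ _

theorem isPullback_iG : IsPullback (pr k X) (iG k i hi) i (pK k n) := by
  refine IsPullback.of_bot (h₃₁ := σ k) (v₂₁ := CohB1.ProjSpace.toSpec n (Gen k)) (v₂₂ := CohB1.ProjSpace.toSpec n k)
    ?_ (iG_pK k i hi).symm (isPullback_pK k)
  rw [iG_toSpec, hi]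
  exact isPullback k X

instance isClosedImmersion_iG [IsClosedImmersion i] : IsClosedImmersion (iG k i hi) :=
  MorphismProperty.of_isPullback (isPullback_iG k i hi) ‹IsClosedImmersion i›

theorem mc_O_iG (d : ℤ) : mc (O (iG k i hi) d) = mc ((Scheme.Modules.pullback (pr k X)).obj (O i d)) := by
  have e1 := (Scheme.Modules.pullback (iG k i hi)).mapIso
    (Ega3A.PChart.pullTwistIso (algebraMap k (Gen k)) n d)
  have e2 := (Scheme.Modules.pullbackComp (iG k i hi) (pK k n)).app (Twist.twistProjSpace n k d)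
  have e3 := (Scheme.Modules.pullbackCongr (iG_pK k i hi)).app (Twist.twistProjSpace n k d)
  have e4 := (Scheme.Modules.pullbackComp (pr k X) i).app (Twist.twistProjSpace n k d)
  exact mc_eq (e1.symm ≪≫ e2 ≪≫ e3 ≪≫ e4.symm)

theorem finrank_pull [CompactSpace X] [QuasiSeparatedSpace X] (F : X.Modules) (hF : Coh.IsQCoh F) (q : ℕ) :
    Module.finrank (Gen k) (Coh.HH (XG k X) ((Scheme.Modules.pullback (pr k X)).obj F) q) =
      Module.finrank k (Coh.HH X F q) := by
  obtain ⟨e⟩ := S0034.result k (Gen k) X (XG k X) (pr k X) (isPullback k X) F q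
  rw [← e.finrank_eq, Module.finrank_baseChange]

end K243.Ext
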