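import Groth.Agent.Pic13.K243.PrimeAlg
import Groth.Agent.Pic13.H956.GenMem
import Groth.Agent.Pi1C.ZeroScheme
import Groth.Agent.Ega1.ReducedSub
import Groth.Agent.VarietyA.TwistExist

/-!
# The zero scheme of the generic member of a regular pencil is integral

`X` integral and proper over `K`, `s₀, s₁` sections of an invertible module `N`, `s₁ ≠ 0` and `s₀` regular modulo `s₁`
(`RegPair`).  The zero scheme of `s₀ + t s₁` on `X ×_K K(t)` is reduced (`isReduced_zero`) and, if its support is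
irreducible, integral (`isIntegral_zero`).
-/

set_option autoImplicit false
universe u
open CategoryTheory CategoryTheory.Limits AlgebraicGeometry Opposite TopologicalSpace

namespace K243.GenInt

open Groth.Agent Groth.Agent.Fdesc.LocGen Groth.Agent.Pic13.H956.GenExt Groth.Agent.Pic13.H956.GenAlg
open Groth.Agent.Pic13.H956.GenSec

/-- `s₀` is regular modulo `s₁`. -/
def RegPair {X : Scheme.{u}} {N : X.Modules} (s₀ s₁ : Coh.structureModule X ⟶ N) : Prop :=
  ∀ (U : X.Opens), IsAffineOpen U → ∀ e : Γ(N, U), IsGen e → ∀ a₀ a₁ : Γ(X, U), sec s₀ U = a₀ • e →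
    sec s₁ U = a₁ • e → ∀ c : Γ(X, U), a₁ ∣ a₀ * c → a₁ ∣ c

variable (k : Type u) [Field k] (X : Scheme.{u}) [X.Over (Spec (CommRingCat.of k))]
  {N : X.Modules}

/-- The zero scheme of the generic member. -/
noncomputable abbrev zs (s₀ s₁ : Coh.structureModule X ⟶ N) : (XG k X).IdealSheafData :=
  PicF2.zeroScheme ((Scheme.Modules.pullback (pr k X)).obj N) (genSec k s₀ s₁)

theorem sec_ne_zero [IsIntegral X] (hN : PicF.IsInvertible N) (s : Coh.structureModule X ⟶ N) (hs : s ≠ 0)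
    {U : X.Opens} [Nonempty U] {e : Γ(N, U)} (he : IsGen e) {a : Γ(X, U)} (ha : sec s U = a • e) : a ≠ 0 := by
  rintro rfl
  have h1 := genLocus_inf_eq s he ha
  have h2 := VarietyA.TwistExist.genLocus_nonempty hN s hs
  rw [Scheme.basicOpen_zero] at h1
  obtain ⟨x, hx⟩ := h2
  obtain ⟨⟨y, hy⟩⟩ := (inferInstance : Nonempty U)
  have hη1 : genericPoint X ∈ CohB1.genLocus N s :=
    ((genericPoint_spec X).mem_open_set_iff (CohB1.genLocus N s).isOpen).mpr ⟨x, trivial, hx⟩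
  have hη2 : genericPoint X ∈ U := ((genericPoint_spec X).mem_open_set_iff U.isOpen).mpr ⟨y, trivial, hy⟩
  have h3 : genericPoint X ∈ CohB1.genLocus N s ⊓ U := ⟨hη1, hη2⟩
  rw [h1] at h3
  exact h3

theorem ideal_top_or_prime [IsIntegral X] (hN : PicF.IsInvertible N) (s₀ s₁ : Coh.structureModule X ⟶ N)
    (hs₁ : s₁ ≠ 0) (hreg : RegPair s₀ s₁) {U : X.Opens} (hU : IsAffineOpen U) [hne : Nonempty U] {e : Γ(N, U)}
    (he : IsGen e) :
    (zs k X s₀ s₁).ideal ⟨pr k X ⁻¹ᵁ U, hU.preimage (pr k X)⟩ = ⊤ ∨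
      ((zs k X s₀ s₁).ideal ⟨pr k X ⁻¹ᵁ U, hU.preimage (pr k X)⟩).IsPrime := by
  obtain ⟨a₀, ha₀⟩ := he.exists_eq (sec s₀ U)
  obtain ⟨a₁, ha₁⟩ := he.exists_eq (sec s₁ U)
  set a : Γ(XG k X, pr k X ⁻¹ᵁ U) := (pr k X).app U a₀ + ores le_top (tt k X) * (pr k X).app U a₁ with ha
  have hsec : sec (genSec k s₀ s₁) (pr k X ⁻¹ᵁ U) = a • pullSec (pr k X) e := by
    rw [sec_genSec, Ega2.Weight.sec_pullHom, Ega2.Weight.sec_pullHom, ha₀, ha₁, pullSec_smul, pullSec_smul, ha,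
      add_smul, mul_smul]
  have hI : (zs k X s₀ s₁).ideal ⟨pr k X ⁻¹ᵁ U, hU.preimage (pr k X)⟩ = Ideal.span {a} :=
    Pi1C.ZeroScheme.ideal_eq_span (genSec k s₀ s₁) (isInvertible_pullback _ hN)
      ⟨pr k X ⁻¹ᵁ U, hU.preimage (pr k X)⟩ (he.pullSec (pr k X)) hsec
  rw [hI]
  have hdom : IsDomain Γ(X, U) := inferInstance
  have h1 := sec_ne_zero X hN s₁ hs₁ he ha₁
  have h2 := PrimeAlg.top_or_prime_pushout (isPushout_app k X hU) a₀ a₁ h1 (hreg U hU e he a₀ a₁ ha₀ ha₁)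
  exact h2

theorem exists_cover {X : Scheme.{u}} {N : X.Modules} (hN : PicF.IsInvertible N) :
    ∃ (U : X → X.Opens) (_ : ∀ x, IsAffineOpen (U x)) (_ : ∀ x, x ∈ U x) (e : ∀ x, Γ(N, U x)), ∀ x, IsGen (e x) := by
  choose U hU hx _ e he using fun x : X => Pi1C.ZeroScheme.exists_affine_isGen hN ⊤ x trivial
  exact ⟨U, hU, hx, e, he⟩

theorem radical_eq [IsIntegral X] (hN : PicF.IsInvertible N) (s₀ s₁ : Coh.structureModule X ⟶ N)
    (hs₁ : s₁ ≠ 0) (hreg : RegPair s₀ s₁) : (zs k X s₀ s₁).radical = zs k X s₀ s₁ := by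
  obtain ⟨U, hU, hx, e, he⟩ := exists_cover hN
  refine Scheme.IdealSheafData.ext_of_iSup_eq_top (fun x => ⟨pr k X ⁻¹ᵁ U x, (hU x).preimage (pr k X)⟩) ?_ fun x => ?_
  · rw [eq_top_iff]
    intro z _
    exact Opens.mem_iSup.mpr ⟨pr k X z, hx _⟩
  · have hne : Nonempty (U x) := ⟨⟨x, hx x⟩⟩
    change ((zs k X s₀ s₁).ideal ⟨pr k X ⁻¹ᵁ U x, (hU x).preimage (pr k X)⟩).radical = _
    rcases ideal_top_or_prime k X hN s₀ s₁ hs₁ hreg (hU x) (he x) with h | h
    · rw [h, Ideal.radical_top]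
    · exact h.radical

theorem isReduced_zero [IsIntegral X] (hN : PicF.IsInvertible N) (s₀ s₁ : Coh.structureModule X ⟶ N)
    (hs₁ : s₁ ≠ 0) (hreg : RegPair s₀ s₁) : IsReduced (zs k X s₀ s₁).subscheme := by
  rw [← radical_eq k X hN s₀ s₁ hs₁ hreg]
  exact Ega1.ReducedSub.isReduced_subscheme_radical _

theorem isIntegral_zero [IsIntegral X] (hN : PicF.IsInvertible N) (s₀ s₁ : Coh.structureModule X ⟶ N)
    (hs₁ : s₁ ≠ 0) (hreg : RegPair s₀ s₁)
    (hirr : IsIrreducible (CohB1.genLocus _ (genSec k s₀ s₁) : Set (XG k X))ᶜ) :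
    IsIntegral (zs k X s₀ s₁).subscheme := by
  have := isReduced_zero k X hN s₀ s₁ hs₁ hreg
  have hirr' : IrreducibleSpace (zs k X s₀ s₁).subscheme := by
    have h1 : IsIrreducible (Set.range (zs k X s₀ s₁).subschemeι) := by
      rw [Scheme.IdealSheafData.range_subschemeι]
      have h2 : ((zs k X s₀ s₁).support : Set (XG k X)) = (CohB1.genLocus _ (genSec k s₀ s₁) : Set (XG k X))ᶜ := by
        ext y
        exact Pi1C.ZeroScheme.mem_support_iff (genSec k s₀ s₁) (isInvertible_pullback _ hN) y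
      rw [h2]
      exact hirr
    have := Subtype.irreducibleSpace h1
    exact (zs k X s₀ s₁).subschemeι.isClosedEmbedding.isEmbedding.toHomeomorph.irreducibleSpace_iff.mpr this
  exact isIntegral_of_irreducibleSpace_of_isReduced _

theorem range_zero (hN : PicF.IsInvertible N) (s₀ s₁ : Coh.structureModule X ⟶ N) :
    Set.range (zs k X s₀ s₁).subschemeι = (CohB1.genLocus _ (genSec k s₀ s₁) : Set (XG k X))ᶜ := by
  rw [Scheme.IdealSheafData.range_subschemeι]
  ext y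
  exact Pi1C.ZeroScheme.mem_support_iff (genSec k s₀ s₁) (isInvertible_pullback _ hN) y

end K243.GenInt
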