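import Groth.Agent.Pic13.K243.Bound

/-!
# Lower bounds for self-intersections

`unif_square`: on an integral surface over an infinite field `(c₁(L)²)` is bounded below when the coefficients of `L` are
bounded.  `unif_square_top`: on an integral `X ⊆ P^n_k` of dimension `s + 2` the number `(c₁(L)² c₁(O(1))^s)` is bounded
below when the three top coefficients of `L` are bounded.
-/

set_option autoImplicit false
set_option linter.unusedSectionVars false
universe u
open CategoryTheory CategoryTheory.Limits AlgebraicGeometry Opposite TopologicalSpace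

namespace K243.Lower

open Groth.Agent Groth.Agent.Fga Groth.Agent.Fga.PicMon K243.Base K243.Les K243.CutEmb K243.Hilb K243.Member
open K243.Diff K243.Deg K243.Surface K243.Quad K243.Bound

section Surf

variable (k : Type u) [Field k] [Infinite k] {n : ℕ} {X : Scheme.{u}} [X.Over (Spec (CommRingCat.of k))]
  (i : X ⟶ CohB1.ProjSpace n k) [IsClosedImmersion i]
  (hi : i ≫ CohB1.ProjSpace.toSpec n k = X ↘ Spec (CommRingCat.of k)) [IsIntegral X]
  (hdim : topologicalKrullDim X = (2 : ℕ))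

include hi in
theorem isMRegular_of_hX {L : X.Modules} (hL : PicF.IsInvertible L) (m : ℤ)
    (h : ∀ q : ℕ, 1 ≤ q → hX k i L (m - q) q = 0) : Pic13.IsMRegular k i L m := by
  have hP := isProper_of i hi
  intro q hq'
  exact subsingleton_of_hq k (isCoh_twistOn k i (isCoh_invertible hL) _) (h q hq')

include hi hdim in
theorem unif_square (B : ℕ) : ∃ C : ℕ, ∀ L L' : X.Modules, PicF.IsInvertible L →
    Nonempty (CohB1.tensorMod L L' ≅ Coh.structureModule X) → ∀ a : Fin 3 → ℤ, hf k i 2 L = ev a →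
      (∀ j, |a j| ≤ B) →
        -(C : ℤ) ≤ FGA.intNum k X 2 (Matrix.vecCons L' (fun _ : Fin 1 => L')) (Coh.structureModule X) := by
  have hP := isProper_of i hi
  have hN := HypSec.isNoetherian k X
  have hsep : X.IsSeparated := ⟨by
    have : terminal.from X = (X ↘ Spec (CommRingCat.of k)) ≫ terminal.from _ := Subsingleton.elim _ _
    rw [this]; infer_instance⟩
  have hO := Coeffs.isInvertible_unit (X := X)
  obtain ⟨e, he⟩ := exists_coeff k i 2 hdim.le hO
  have he2 := top_pos k i hi hdim hO e he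
  obtain ⟨N, hN⟩ := unif_vanish k i hi hdim B
  set T : ℕ := N + 3 with hT
  refine ⟨5 * B * T + 2 * (e 1).natAbs * T + (e 2).natAbs * (T * T), fun L L' hL hLL' a ha hB => ?_⟩
  have hL' := isInvertible_inv hLL'
  have hreg : Pic13.IsMRegular k i L ((N + 2 : ℕ) : ℤ) := by
    refine isMRegular_of_hX k i hi hL _ fun q hq' => ?_
    rcases Nat.lt_or_ge 2 q with h | h
    · exact hX_of_dim k i (isCoh_invertible hL) 2 hdim.le _ q h
    · exact hN L L' hL hLL' a ha hB _ (by push_cast; omega) q hq'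
  have hamp := ample_of_reg k i hL hreg
  set P := CohB1.tensorMod (O i 1) (Pic13.twistOn k i L ((N + 2 : ℕ) : ℤ)) with hPdef
  set P' := CohB1.tensorMod (O i (-1)) (Pic13.twistOn k i L' (-((N + 2 : ℕ) : ℤ))) with hP'def
  have hPinv : PicF.IsInvertible P :=
    Fdesc.LocGen.isInvertible_tensorMod (isInvertible_O i 1) (isInvertible_twistOn i hL _)
  have hPP' : Nonempty (CohB1.tensorMod P P' ≅ Coh.structureModule X) := by
    rw [← mc_eq_iff, mc_tensor, hPdef, hP'def, mc_tensor, mc_tensor, mc_twistOn, mc_twistOn, mul_mul_mul_comm,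
      mul_mul_mul_comm (mc L), mc_mul_inv hLL', one_mul, mc_O, mc_O, o_mul_neg, o_mul_neg, one_mul, mc_one]
  have hpos : 0 < FGA.intNum k X 2 (Matrix.vecCons P' (fun _ : Fin 1 => P')) (Coh.structureModule X) := by
    refine PosMain.intNum_pos k X 2 hdim.le (fun _ => P) _ (fun _ => hamp) (fun j => ?_) _
      (CurvesC.UnitCoh.isCoh_unit X) ?_
    · fin_cases j
      · exact hPP'
      · exact hPP'
    · rw [Pic13.H956.Numbers.support_unit]
      exact ((Homeomorph.Set.univ X).isHomeomorph.topologicalKrullDim_eq).trans hdim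
  have hqP := quad k i hdim.le hPinv hPP' 0
  have hq := quad k i hdim.le hL hLL' (-(T : ℤ))
  rw [hqP] at hpos
  have e1 : hf k i 2 P 0 = ev a T := by
    have h1 : hf k i 2 P = hf k i 2 (Pic13.twistOn k i L T) := by
      refine hf_congr k i 2 ?_
      rw [hPdef, mc_tensor, mc_twistOn, mc_twistOn, mc_O, mul_left_comm, ← o_add]
      congr 2
      rw [hT]; push_cast; ring
    rw [h1, hf_twist, add_zero, ha]
  have e2 : hf k i 2 P' 0 = hf k i 2 L' (-(T : ℤ)) := by
    have h1 : hf k i 2 P' = hf k i 2 (Pic13.twistOn k i L' (-(T : ℤ))) := by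
      refine hf_congr k i 2 ?_
      rw [hP'def, mc_tensor, mc_twistOn, mc_twistOn, mc_O, mul_left_comm, ← o_add]
      congr 2
      rw [hT]; push_cast; ring
    rw [h1, hf_twist, add_zero]
  rw [e1, e2, he] at hpos
  rw [ha, he] at hq
  set x := hf k i 2 L' (-(T : ℤ)) with hx
  set q := FGA.intNum k X 2 (Matrix.vecCons L' (fun _ : Fin 1 => L')) (Coh.structureModule X) with hqq
  rw [ev_three, ev_three] at hpos hq
  have c0 := two_cc_two 0
  have c1 := two_cc_two (T : ℤ)
  have c2 := two_cc_two (-(T : ℤ))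
  have hB1 := abs_le.mp (hB 1)
  have hB2 := abs_le.mp (hB 2)
  have f1 : cc 2 (T : ℤ) = cc 2 (-(T : ℤ)) + 3 * T := by linarith
  have f0 : cc 2 0 = 1 := by linarith
  have f2 : 2 * cc 2 (-(T : ℤ)) = T * T - 3 * T + 2 := by rw [c2]; ring
  have key : 0 < q + 2 * a 1 * T + 3 * a 2 * T - 2 * e 1 * T + e 2 * (T * T - 3 * T) := by
    have g1 : q = a 0 + a 1 * (-(T : ℤ) + 1) + a 2 * cc 2 (-(T : ℤ)) -
      2 * (e 0 + e 1 * (-(T : ℤ) + 1) + e 2 * cc 2 (-(T : ℤ))) + x := hq
    have g2 : 0 < a 0 + a 1 * ((T : ℤ) + 1) + a 2 * cc 2 (T : ℤ) - 2 * (e 0 + e 1 * (0 + 1) + e 2 * cc 2 0) + x := hpos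
    rw [f1, f0] at g2
    have g3 : e 2 * (2 * cc 2 (-(T : ℤ))) = e 2 * (T * T - 3 * T + 2) := by rw [f2]
    nlinarith
  have hT0 : (0 : ℤ) ≤ T := Int.natCast_nonneg T
  have he1 : -(((e 1).natAbs : ℕ) : ℤ) ≤ e 1 := by omega
  have he2' : e 2 = (((e 2).natAbs : ℕ) : ℤ) := by omega
  have w1 : 2 * a 1 * T ≤ 2 * B * T := by nlinarith
  have w2 : 3 * a 2 * T ≤ 3 * B * T := by nlinarith
  have w3 : -(2 * e 1 * T) ≤ 2 * (((e 1).natAbs : ℕ) : ℤ) * T := by nlinarith
  have w4 : e 2 * (T * T - 3 * T) ≤ (((e 2).natAbs : ℕ) : ℤ) * (T * T) := by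
    rw [← he2']
    nlinarith
  push_cast
  push_cast at w3 w4
  linarith

end Surf

section Top

variable (k : Type u) [Field k] {n : ℕ} {X : Scheme.{u}} [X.Over (Spec (CommRingCat.of k))]
  (i : X ⟶ CohB1.ProjSpace n k)

/-- `(c₁(L)² c₁(O(1))^s)` through differences of Hilbert functions. -/
theorem square_eq (d s : ℕ) (L' : X.Modules) :
    FGA.intNum k X d (Matrix.vecCons L' (Matrix.vecCons L' (fun _ : Fin s => O i (-1)))) (Coh.structureModule X) =
      nab^[s] (hf k i d (Coh.structureModule X)) 0 - 2 * nab^[s] (hf k i d L') 0 +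
        nab^[s] (hf k i d (CohB1.tensorMod L' L')) 0 := by
  have e1 : ∀ F : X.Modules, FGA.intNum k X d (Matrix.vecCons L' (fun _ : Fin s => O i (-1))) F =
      nab^[s] (hf k i d F) 0 - nab^[s] (hf k i d (CohB1.tensorMod L' F)) 0 := by
    intro F
    have h := intNum_cons k X d L' (fun _ : Fin s => O i (-1)) F
    rw [intNum_const_zero k i, intNum_const_zero k i] at h
    exact h
  have h := intNum_cons k X d L' (Matrix.vecCons L' (fun _ : Fin s => O i (-1))) (Coh.structureModule X)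
  refine h.trans ?_
  rw [e1, e1]
  have h1 : hf k i d (CohB1.tensorMod L' (Coh.structureModule X)) = hf k i d L' :=
    hf_congr k i d (by rw [mc_tensor, mc_one, mul_one])
  have h2 : hf k i d (CohB1.tensorMod L' (CohB1.tensorMod L' (Coh.structureModule X))) =
      hf k i d (CohB1.tensorMod L' L') :=
    hf_congr k i d (by rw [mc_tensor, mc_tensor, mc_one, mul_one, mc_tensor])
  rw [h1, h2]
  ring

variable [Infinite k] [IsClosedImmersion i]
  (hi : i ≫ CohB1.ProjSpace.toSpec n k = X ↘ Spec (CommRingCat.of k)) [IsIntegral X]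
  (s : ℕ) (hdim : topologicalKrullDim X = (s + 2 : ℕ))

theorem nab_three (a : Fin (s + 3) → ℤ) : nab^[s] (ev a) =
    ev (fun j : Fin 3 => a ⟨j + s, by omega⟩) := by
  have h3 := nab_iter_ev_add s 3 (fun j : Fin (3 + s) => a ⟨j, by omega⟩)
  have h4 : ev a = ev (fun j : Fin (3 + s) => a ⟨j, by omega⟩) := by
    funext m
    simp only [ev]
    exact Fintype.sum_equiv (finCongr (by omega)) _ _ (fun j => rfl)
  rw [h4, h3]

include hi hdim in
theorem unif_square_top (B : ℕ) : ∃ C : ℕ, ∀ L L' : X.Modules, PicF.IsInvertible L →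
    Nonempty (CohB1.tensorMod L L' ≅ Coh.structureModule X) → ∀ a : Fin (s + 3) → ℤ, hf k i (s + 2) L = ev a →
      (∀ j : Fin 3, |a ⟨j + s, by omega⟩| ≤ B) →
        -(C : ℤ) ≤ FGA.intNum k X (s + 2) (Matrix.vecCons L' (Matrix.vecCons L' (fun _ : Fin s => O i (-1))))
          (Coh.structureModule X) := by
  obtain ⟨D, hD⟩ := Down.exists_down s (s + 2) k i hi hdim le_rfl
  let _ := D.fld
  have := D.inf
  let _ := D.ov
  have := D.cl
  have := D.int
  have hPS := isProper_of D.j D.hj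
  have hO := Coeffs.isInvertible_unit (X := X)
  obtain ⟨C, hC⟩ := unif_square D.K D.j D.hj hD B
  refine ⟨C, fun L L' hL hLL' a ha hB => ?_⟩
  have hL' := isInvertible_inv hLL'
  have hD2 : topologicalKrullDim D.S ≤ ((s + 2 : ℕ) : WithBot ℕ∞) := hD.le.trans (by exact_mod_cast Nat.le_add_left 2 s)
  have hinv : Nonempty (CohB1.tensorMod (D.Φ L) (D.Φ L') ≅ Coh.structureModule D.S) := by
    rw [← mc_eq_iff, mc_tensor, ← D.tensor hL hL', mc_one, ← D.unit]
    exact D.congr (mc_eq hLL'.some)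
  have hff : ∀ {M : X.Modules}, PicF.IsInvertible M → hf D.K D.j 2 (D.Φ M) = nab^[s] (hf k i (s + 2) M) := by
    intro M hM
    rw [hf_bound D.K D.j hD.le hD2, D.hf_eq hM]
  have h1 := hC (D.Φ L) (D.Φ L') (D.inv hL) hinv (fun j : Fin 3 => a ⟨j + s, by omega⟩)
    (by rw [hff hL, ha, nab_three]) hB
  refine h1.trans (le_of_eq ?_)
  rw [square_eq]
  have h0 : (fun _ : Fin 1 => D.Φ L') = (Matrix.vecCons (D.Φ L') (fun _ : Fin 0 => O D.j (-1))) := by
    funext j
    fin_cases j
    rfl
  rw [h0, square_eq]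
  have g1 : hf D.K D.j 2 (Coh.structureModule D.S) = nab^[s] (hf k i (s + 2) (Coh.structureModule X)) := by
    rw [← hff hO]
    exact hf_congr D.K D.j 2 (by rw [D.unit, mc_one])
  have g2 : hf D.K D.j 2 (CohB1.tensorMod (D.Φ L') (D.Φ L')) = nab^[s] (hf k i (s + 2) (CohB1.tensorMod L' L')) := by
    rw [← hff (Fdesc.LocGen.isInvertible_tensorMod hL' hL')]
    exact hf_congr D.K D.j 2 (by rw [D.tensor hL' hL', mc_tensor])
  simp only [Function.iterate_zero, id_eq]
  rw [g1, g2, hff hL']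

end Top

end K243.Lower
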