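import Groth.Agent.Pic13.K243.CutEmb
import Groth.Agent.Pic13.K243.Common
import Groth.Agent.Pic13.K243.Ext

/-!
# Integral generic linear sections

`X ⊆ P^n_k` integral closed of dimension `r + 2`, `k` infinite: there is a nonzero section `t` of `pr^* O_X(1)` on
`X ×_k k(t)` whose zero scheme is integral of dimension `r + 1` (`exists_member`).  `hX_pull`, `hf_pull`: invariance
under `pr^*`.  `dim_D_lt`: zero schemes of nonzero sections have smaller dimension.
-/

set_option autoImplicit false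
set_option linter.unusedSectionVars false
universe u
open CategoryTheory CategoryTheory.Limits AlgebraicGeometry Opposite TopologicalSpace

namespace K243.Member

open Groth.Agent Groth.Agent.Fga Groth.Agent.Fga.PicMon K243.Base K243.Les K243.CutEmb K243.Hilb
open Groth.Agent.Pic13.H956.GenExt Groth.Agent.Pic13.H956.GenAlg Groth.Agent.Pic13.H956.GenSec

instance infinite_gen (k : Type u) [Field k] [Infinite k] : Infinite (Gen k) :=
  Infinite.of_injective (algebraMap k (Gen k)) (algebraMap k (Gen k)).injective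

section Zero

variable (K : Type u) [Field K] {Y : Scheme.{u}} [Y.Over (Spec (CommRingCat.of K))]
  [IsProper (Y ↘ Spec (CommRingCat.of K))] {N : Y.Modules} (s : Coh.structureModule Y ⟶ N)

theorem range_ι (hN : PicF.IsInvertible N) : Set.range (Cut.ι s) = (CohB1.genLocus N s : Set Y)ᶜ := by
  rw [Scheme.IdealSheafData.range_subschemeι]
  ext y
  exact Pi1C.ZeroScheme.mem_support_iff s hN y

theorem dim_D (hN : PicF.IsInvertible N) :
    topologicalKrullDim (Cut.D s) = topologicalKrullDim ((CohB1.genLocus N s : Set Y)ᶜ : Set Y) := by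
  rw [← range_ι s hN]
  exact ((Cut.ι s).isClosedEmbedding.isEmbedding.toHomeomorph).isHomeomorph.topologicalKrullDim_eq

include K in
theorem genericPoint_mem [IsIntegral Y] (hN : PicF.IsInvertible N) (hs : s ≠ 0) :
    genericPoint Y ∈ CohB1.genLocus N s := by
  obtain ⟨z, hz⟩ := VarietyA.TwistExist.genLocus_nonempty hN s hs
  exact ((genericPoint_spec Y).mem_open_set_iff (CohB1.genLocus N s).isOpen).mpr ⟨z, trivial, hz⟩

include K in
theorem dim_D_lt [IsIntegral Y] (hN : PicF.IsInvertible N) (hs : s ≠ 0) (d : ℕ)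
    (hd : topologicalKrullDim Y ≤ (d + 1 : ℕ)) : topologicalKrullDim (Cut.D s) ≤ (d : ℕ) := by
  rw [dim_D s hN]
  have hcl : IsClosed (CohB1.genLocus N s : Set Y)ᶜ := (CohB1.genLocus N s).isOpen.isClosed_compl
  have hne : (CohB1.genLocus N s : Set Y)ᶜ ≠ Set.univ := by
    intro h
    have h1 : genericPoint Y ∈ (CohB1.genLocus N s : Set Y)ᶜ := by rw [h]; trivial
    exact h1 (genericPoint_mem K s hN hs)
  have huniv : topologicalKrullDim (Set.univ : Set Y) < ((d + 1 + 1 : ℕ) : WithBot ℕ∞) := by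
    have h1 : topologicalKrullDim (Set.univ : Set Y) ≤ topologicalKrullDim Y :=
      Topology.IsInducing.subtypeVal.topologicalKrullDim_le
    exact lt_of_le_of_lt (h1.trans hd) (by exact_mod_cast Nat.lt_succ_self (d + 1))
  exact IntNum0.withBot_le_of_lt_succ (DimLt.topologicalKrullDim_lt (A := Set.univ)
    (irreducibleSpace_def Y |>.mp inferInstance) hcl (Set.subset_univ _) hne huniv)

instance proper_D : IsProper (Cut.D s ↘ Spec (CommRingCat.of K)) :=
  inferInstanceAs (IsProper (Cut.ι s ≫ (Y ↘ Spec (CommRingCat.of K))))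

/-- Vanishing above the dimension. -/
theorem hX_of_dim {n : ℕ} (j : Y ⟶ CohB1.ProjSpace n K) {F : Y.Modules} (hF : Coh.IsCoh F) (d : ℕ)
    (hd : topologicalKrullDim Y ≤ (d : ℕ)) (m : ℤ) (p : ℕ) (hp : d < p) : hX K j F m p = 0 := by
  have := HypSec.isNoetherian K Y
  refine hq_of_subsingleton K (HodgeSec.subsingleton_HH_of_support K (isCoh_twistOn K j hF m) d ?_ p hp)
  exact (Topology.IsInducing.subtypeVal.topologicalKrullDim_le).trans hd

end Zero

variable (k : Type u) [Field k] {n : ℕ} {X : Scheme.{u}} [X.Over (Spec (CommRingCat.of k))]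
  (i : X ⟶ CohB1.ProjSpace n k) [IsClosedImmersion i]
  (hi : i ≫ CohB1.ProjSpace.toSpec n k = X ↘ Spec (CommRingCat.of k))

/-- The sections of `pr^* O_X(1)`. -/
abbrev Sec : Type _ := Coh.structureModule (XG k X) ⟶ (Scheme.Modules.pullback (pr k X)).obj (O i 1)

theorem inv_N : PicF.IsInvertible ((Scheme.Modules.pullback (pr k X)).obj (O i 1)) :=
  Fdesc.LocGen.isInvertible_pullback (pr k X) (isInvertible_O i 1)

theorem mc_N : mc ((Scheme.Modules.pullback (pr k X)).obj (O i 1)) = o (Ext.iG k i hi) 1 := (Ext.mc_O_iG k i hi 1).symm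

include hi in
theorem exists_member [IsIntegral X] [Infinite k] (r : ℕ) (hdim : topologicalKrullDim X = (r + 2 : ℕ)) :
    ∃ t : Sec k i, t ≠ 0 ∧ IsIntegral (Cut.D t) ∧ topologicalKrullDim (Cut.D t) = (r + 1 : ℕ) := by
  have := isProper_of i hi
  have hN := isInvertible_O i 1
  have hN' := inv_N k i
  obtain ⟨a₀, a₁, -, -, hη₁, hne, hreg, -, hcodim⟩ := Pair.exists_pair k i ∅ Set.finite_empty
  obtain ⟨x₀, h₀, h₁⟩ := Common.exists_common_zero k i r hdim (Pair.ls k i a₀) (Pair.ls k i a₁) hη₁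
  have haff := Pair.isAffineOpen_ls k i a₁
  have hirr := Pic13.H956.GenMem.isIrreducible_zero k X hN (Pair.ls k i a₀) (Pair.ls k i a₁) haff hη₁ hcodim h₀ h₁
  have hint := GenInt.isIntegral_zero k X hN (Pair.ls k i a₀) (Pair.ls k i a₁) hne hreg hirr
  obtain ⟨-, z, hz⟩ := isPreirreducible_inter k hN (Pair.ls k i a₀) (Pair.ls k i a₁) haff hη₁
  refine ⟨genSec k (Pair.ls k i a₀) (Pair.ls k i a₁), ?_, hint, ?_⟩
  · intro h
    rw [h, Ega2.FiniteSet.genLocus_zero] at hz
    exact hz
  · have hη : genericPoint (XG k X) ∈ CohB1.genLocus _ (genSec k (Pair.ls k i a₀) (Pair.ls k i a₁)) :=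
      ((genericPoint_spec (XG k X)).mem_open_set_iff (CohB1.genLocus _ _).isOpen).mpr ⟨z, trivial, hz⟩
    obtain ⟨z₀, hz₀⟩ := hirr.nonempty
    rw [dim_D _ hN']
    exact Pic13.H956.GenMem.dim_zero (Gen k) (XG k X) hN' (genSec k (Pair.ls k i a₀) (Pair.ls k i a₁)) hη hz₀
      (r + 1) ((dim_XG k X).trans hdim)

/-- `pr^*`. -/
noncomputable abbrev up (L : X.Modules) : (XG k X).Modules := (Scheme.Modules.pullback (pr k X)).obj L

theorem mc_twist_up {L : X.Modules} (hL : PicF.IsInvertible L) (m : ℤ) :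
    mc (Pic13.twistOn (Gen k) (Ext.iG k i hi) (up k L) m) = mc (up k (Pic13.twistOn k i L m)) := by
  refine Eq.trans ?_ (mc_pull_tensor (pr k X) hL (isInvertible_O i m)).symm
  rw [mc_twistOn]
  congr 1
  exact Ext.mc_O_iG k i hi m

include hi in
theorem compact_X : CompactSpace X ∧ QuasiSeparatedSpace X := by
  have := isProper_of i hi
  have := HypSec.isNoetherian k X
  exact ⟨inferInstance, inferInstance⟩

theorem hX_pull {L : X.Modules} (hL : PicF.IsInvertible L) (m : ℤ) (q : ℕ) :
    hX (Gen k) (Ext.iG k i hi) (up k L) m q = hX k i L m q := by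
  have := (compact_X k i hi).1
  have := (compact_X k i hi).2
  have h1 : hX (Gen k) (Ext.iG k i hi) (up k L) m q = hq (Gen k) q (up k (Pic13.twistOn k i L m)) :=
    hq_mc (Gen k) (mc_twist_up k i hi hL m) q
  rw [h1]
  exact Ext.finrank_pull k _ (isCoh_invertible (isInvertible_twistOn i hL m)).1 q

theorem hf_pull {L : X.Modules} (hL : PicF.IsInvertible L) (d : ℕ) :
    hf (Gen k) (Ext.iG k i hi) d (up k L) = hf k i d L := by
  funext m
  exact euler_congr (Gen k) k (fun q => hX_pull k i hi hL m q) d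

end K243.Member
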