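import Groth.Agent.Pic13.K243.NilStep

/-!
# Nilpotent immersions: the restriction map of Picard schemes over a dense open

`exists_open`: for a surjective closed immersion of proper schemes over an integral Noetherian base.
-/

set_option autoImplicit false
universe w u

open CategoryTheory CategoryTheory.Limits AlgebraicGeometry Opposite
open Groth.Agent.Ega3A.PicDiv Groth.Agent.Ega3A.PicEtSh Groth.Agent.Grpsch.PicGrp
open Groth.Agent.Ega3A.PicSheaf Groth.Agent.Ega3A.PicRep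
open Groth.Agent.Pic13.H964.Defs Groth.Agent.Pic13.H508.SqMT
open Groth.Agent.Fga.RigGrp (toCl toCl_injective isInvertibleCl_toCl exists_toCl toCl_pull)
open K243.AffRes K243.NilStep

namespace K243.NilFinal

/-- `IsRelPic` in terms of Picard groups. -/
theorem repPic_of_isRelPic {X S : Scheme.{u}} {f : X ⟶ S} {P : Over S}
    {φ : ∀ T : Over S, PicF.Cl (PicF.XT f T) → (T ⟶ P)} (h : PicRel.IsRelPic f P φ) :
    RepPic f P (fun T c => φ T (toCl c)) where
  nat g c := Groth.Agent.Ega3A.PicLocBase.nat' h g c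
  surj {T} g := by
    obtain ⟨𝒰, c, hc⟩ := Groth.Agent.Ega3A.PicLocBase.exists_local h g
    exact ⟨𝒰, fun i => ⟨c i, hc i⟩⟩
  inj {T c c'} hcc := (Groth.Agent.Ega3A.PicLocBase.locEq_iff h c c').2 hcc

theorem lft_of_good {X S : Scheme.{u}} {f : X ⟶ S} {V W : S.Opens} (hW : W ≤ V) (h : Good (pullback.snd f V.ι))
    {P : Over W.toScheme} {φ : ∀ T : Over W.toScheme, Pic (PicF.XT (pullback.snd f W.ι) T) → (T ⟶ P)}
    (hP : RepPic (pullback.snd f W.ι) P φ) : LocallyOfFiniteType P.hom := by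
  obtain ⟨P₁, hP₁, -, hl, -⟩ := h
  obtain ⟨φ₁, h₁⟩ := exists_repPic _ hP₁
  have h2 := rep_baseChange h₁ (S.homOfLE hW)
  have H1 : IsPullback (pullback.fst (pullback.snd f V.ι) (S.homOfLE hW) ≫ pullback.fst f V.ι)
      (pullback.snd (pullback.snd f V.ι) (S.homOfLE hW)) f W.ι := by
    have := (IsPullback.of_hasPullback (pullback.snd f V.ι) (S.homOfLE hW)).paste_horiz
      (IsPullback.of_hasPullback f V.ι)
    rwa [S.homOfLE_ι] at this
  have h3 := rep_ofIso (f₁ := pullback.snd f W.ι) h2 (H1.isoPullback).symm H1.isoPullback_inv_snd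
    H1.isoPullback_hom_snd
  obtain ⟨e, -⟩ := exists_iso h3 hP
  have i1 : IsIso e.inv.left := inferInstanceAs (IsIso ((Over.forget _).map e.inv))
  have i2 : LocallyOfFiniteType (Red.bc (S.homOfLE hW) P₁).hom :=
    inferInstanceAs (LocallyOfFiniteType (pullback.snd P₁.hom (S.homOfLE hW)))
  rw [← Over.w e.inv]
  infer_instance

/-- The restriction map is generically affine. -/
theorem genAff_of_surjective' {S : Scheme.{u}} [IsNoetherian S] [IsIntegral S]
    {X₀ X : Scheme.{u}} (i : X₀ ⟶ X) [IsClosedImmersion i] [Surjective i] (f : X ⟶ S) [IsProper f] :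
    GenAff i f := by
  obtain ⟨U, hU, hne⟩ : ∃ U : S.Opens, IsAffineOpen U ∧ (U : Set S).Nonempty := by
    obtain ⟨_, ⟨U, hU, rfl⟩, hx, -⟩ := S.isBasis_affineOpens.exists_subset_of_mem_open
      (Set.mem_univ (genericPoint S)) isOpen_univ
    exact ⟨U, hU, ⟨_, hx⟩⟩
  have h1 : IsAffine U.toScheme := hU
  have h2 : Nonempty U := ⟨⟨_, hne.some_mem⟩⟩
  have h3 : IsIntegral U.toScheme := isIntegral_of_isOpenImmersion U.ι
  have h4 : IsNoetherian U.toScheme := {}
  have H : IsPullback (bm i f U.ι) (pullback.fst (i ≫ f) U.ι) (pullback.fst f U.ι) i := by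
    refine (IsPullback.of_bot ?_ (bm_fst i f U.ι).symm (IsPullback.of_hasPullback f U.ι)).flip
    rw [bm_snd]
    exact IsPullback.of_hasPullback (i ≫ f) U.ι
  have c1 : IsClosedImmersion (bm i f U.ι) := MorphismProperty.of_isPullback H.flip inferInstance
  have c2 : Surjective (bm i f U.ι) := MorphismProperty.of_isPullback H.flip inferInstance
  exact genAff_shrink i f U H (genAff_of_surjective _ _)

/-- **Nilpotent immersions.** -/
theorem exists_open {S : Scheme.{u}} [IsNoetherian S] [IsIntegral S]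
    {X₀ X : Scheme.{u}} (i : X₀ ⟶ X) [IsClosedImmersion i] [Surjective i] (f : X ⟶ S) [IsProper f] :
    ∃ V : S.Opens, (V : Set S).Nonempty ∧ AffRes (bm i f V.ι) (bm_snd i f V.ι) ∧
      (∀ (P : Over V.toScheme) (φ : ∀ T : Over V.toScheme, Pic (PicF.XT (pullback.snd f V.ι) T) → (T ⟶ P)),
        RepPic (pullback.snd f V.ι) P φ → LocallyOfFiniteType P.hom) ∧
      (∀ (P : Over V.toScheme) (φ : ∀ T : Over V.toScheme, Pic (PicF.XT (pullback.snd (i ≫ f) V.ι) T) → (T ⟶ P)),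
        RepPic (pullback.snd (i ≫ f) V.ι) P φ → LocallyOfFiniteType P.hom) := by
  obtain ⟨V₀, h₀, H₀⟩ := genAff_of_surjective' i f
  obtain ⟨V₁, h₁, H₁⟩ := genGood f
  obtain ⟨V₂, h₂, H₂⟩ := genGood (i ≫ f)
  refine ⟨V₀ ⊓ V₁ ⊓ V₂, nonempty_preirreducible_inter (V₀ ⊓ V₁).isOpen V₂.isOpen
    (nonempty_preirreducible_inter V₀.isOpen V₁.isOpen h₀ h₁) h₂,
    affRes_of_le (inf_le_left.trans inf_le_left : V₀ ⊓ V₁ ⊓ V₂ ≤ V₀) H₀, fun P φ hP => ?_, fun P φ hP => ?_⟩
  · exact lft_of_good (inf_le_left.trans inf_le_right : V₀ ⊓ V₁ ⊓ V₂ ≤ V₁) H₁ hP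
  · exact lft_of_good (inf_le_right : V₀ ⊓ V₁ ⊓ V₂ ≤ V₂) H₂ hP

end K243.NilFinal
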