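import Groth.Agent.Pic13.K243.AffRes
import Groth.Agent.Pic13.H948.GenNil
import Groth.Agent.Pic13.H964.Final

/-!
# Square-zero thickenings: the restriction map of Picard schemes is generically affine

* `exists_K`: the closed subscheme `K` of `P₀` of the classes which lift étale-locally;
* `pre_baseChange`: base change of the exact sequence, with the map to `K`;
* `affRes_of_sit`: over a nonempty open of a good base the restriction map is affine.
-/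

set_option autoImplicit false
universe w u

open CategoryTheory CategoryTheory.Limits AlgebraicGeometry Opposite MonoidalCategory CartesianMonoidalCategory MonObj
open Groth.Agent.Ega3A.PicDiv Groth.Agent.Ega3A.PicEtSh Groth.Agent.Grpsch.PicGrp
open Groth.Agent.Ega3A.PicSheaf Groth.Agent.Ega3A.PicRep Groth.Agent.Picfga.OverRep
open Groth.Agent.Pic13.H547 Groth.Agent.Pic13.H547.RelRep Groth.Agent.Pic13.H964.Defs
open Groth.Agent.Pic13.H508.GenPre Groth.Agent.Pic13.H602.Rig Groth.Agent.Pic13.H126.NilSit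
open Groth.Agent.Pic13.H943 Groth.Agent.Pic13.H508.SqMT Groth.Agent.Pic13.H948 Groth.Agent.Pic13.H508
open Groth.Agent.Pic13.H948.NilK K243.AffRes Groth.Agent.Divis.IdealComap Groth.Agent.Fcompl.H545.SysBasic
open Groth.Agent.Ega3A.PicLocBase (tr tr_pu tr_injective tr_surjective locEq_tr_iff ecovLift ecovLift_w ecovMap
  fromMap)
open Groth.Agent.Sga3B.BcPts (bcEquiv bcEquiv_comp comp_bcEquiv bcEquiv_symm_comp comp_bcEquiv_symm bcEquiv_mul
  bcMulEquiv)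

namespace K243.NilStep

/-- **The scheme `K`**, with the closed immersion into `P₀`. -/
theorem exists_K {X₀ X S : Scheme.{u}} (f : X ⟶ S) (i : X₀ ⟶ X) (P₀ : Over S)
    {φ : ∀ T : Over S, Pic (PicF.XT (i ≫ f) T) → (T ⟶ P₀)} (hφ : RepPic (i ≫ f) P₀ φ)
    (hobs : ∀ (V : Over S) [IsAffine V.left] (c₀ : Pic (PicF.XT (i ≫ f) V)), ∃ (A : Over S) (a : A ⟶ V),
      IsClosedImmersion a.left ∧ ∀ (T : Over S) [IsAffine T.left] (v : T ⟶ V),
        (∃ c : Pic (PicF.XT f T), Groth.Agent.Grpsch.PicGrp.pull (wT f i T) c = pu (i ≫ f) v c₀) ↔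
          ∃ g : T ⟶ A, g ≫ a = v)
    {W : Over S} (ρ : ∀ T : Over S, (T ⟶ W) → Pic (PicF.XT f T))
    (natρ : ∀ {T T' : Over S} (g : T' ⟶ T) (r : T ⟶ W), ρ T' (g ≫ r) = pu f g (ρ T r))
    (hρ : ∀ (T : Over S) [IsAffine T.left] (r : T ⟶ W), Groth.Agent.Grpsch.PicGrp.pull (wT f i T) (ρ T r) = 1)
    (hs : ∀ (T : Over S) [IsAffine T.left] (c : Pic (PicF.XT f T)),
      Groth.Agent.Grpsch.PicGrp.pull (wT f i T) c = 1 → ∃ r : T ⟶ W, ρ T r = c) :
    ∃ (K : Over S) (ι' : K ⟶ P₀) (π : ∀ T : Over S, Pic (PicF.XT f T) → (T ⟶ K)), IsClosedImmersion ι'.left ∧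
      (∀ (T : Over S) (c : Pic (PicF.XT f T)), π T c ≫ ι' = φ T (NilK.r f i T c)) ∧
      (∀ {T T' : Over S} (g : T' ⟶ T) (c : Pic (PicF.XT f T)), π T' (pu f g c) = g ≫ π T c) ∧
      (∀ {T : Over S} (g : T ⟶ K), ∃ 𝒰 : ECov T, ∀ i, ∃ c : Pic (PicF.XT f (𝒰.V i)), π _ c = 𝒰.j i ≫ g) ∧
      (∀ {T : Over S} (c : Pic (PicF.XT f T)) (r : T ⟶ W), π T (c * ρ T r) = π T c) ∧
      (∀ {T : Over S} (c c' : Pic (PicF.XT f T)), π T c = π T c' → ∃ 𝒰 : ECov T, ∀ i, ∃ r : 𝒰.V i ⟶ W,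
        LocEq f _ (pu f (𝒰.j i) c') (pu f (𝒰.j i) c * ρ _ r)) := by
  obtain ⟨K, ι', hι', hK⟩ := Groth.Agent.Pic13.H953.ClosedSub.exists_closed' (P₀ := P₀) (L := L φ)
    (fun g a h => L_bc hφ g a h) (fun 𝒰 a h => L_loc 𝒰 a h) (by
    intro κ
    obtain ⟨𝒰, h𝒰⟩ := hφ.surj (𝟙 P₀)
    obtain ⟨k, v, hv⟩ := 𝒰.covers κ
    obtain ⟨c, hc⟩ := h𝒰 k
    rw [Category.comp_id] at hc
    obtain ⟨B, hB, hvB, -⟩ := exists_isAffineOpen_mem_and_subset (X := (𝒰.V k).left) (x := v) (U := ⊤) trivial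
    let V : Over S := Over.mk (B.ι ≫ (𝒰.V k).hom)
    let m : V ⟶ 𝒰.V k := Over.homMk B.ι rfl
    have hV : IsAffine V.left := hB
    obtain ⟨A, a, ha, haA⟩ := hobs V (pu (i ≫ f) m c)
    have hm : Mono a := by
      have h1 : Mono a.left := inferInstance
      exact (Over.forget S).mono_of_mono_map h1
    refine ⟨V, A, m ≫ 𝒰.j k, a, hV, ?_, ⟨⟨v, hvB⟩, ?_⟩, ha,
      L_chart hφ (m ≫ 𝒰.j k) (pu (i ≫ f) m c) (by rw [hφ.nat, hc]) a haA⟩
    · change Etale (B.ι ≫ (𝒰.j k).left)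
      infer_instance
    · change (B.ι ≫ (𝒰.j k).left) ⟨v, hvB⟩ = κ
      rw [Scheme.Hom.comp_apply]
      exact hv)
  have hm : Mono ι' := by
    have h1 : Mono ι'.left := inferInstance
    exact (Over.forget S).mono_of_mono_map h1
  choose π hπ using fun (T : Over S) (c : Pic (PicF.XT f T)) => (hK T (φ T (NilK.r f i T c))).1 (L_self φ T c)
  refine ⟨K, ι', π, hι', hπ, ?_, ?_, ?_, ?_⟩
  · intro T T' g c
    rw [← cancel_mono ι', hπ, r_pu, hφ.nat, Category.assoc, hπ]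
  · intro T g
    obtain ⟨𝒰, h𝒰⟩ := (hK T (g ≫ ι')).2 ⟨g, rfl⟩
    refine ⟨𝒰, fun k => ?_⟩
    obtain ⟨c, hc⟩ := h𝒰 k
    refine ⟨c, ?_⟩
    rw [← cancel_mono ι', hπ, hc, Category.assoc]
  · intro T c w
    rw [← cancel_mono ι', hπ, hπ]
    apply RepPic.eq_of_locEq hφ
    obtain ⟨𝒲, hW, -⟩ := GenNilOf.exists_affine_refine (triv T)
    refine ⟨𝒲, fun l => ?_⟩
    have := hW l
    rw [← r_pu, ← r_pu, map_mul, map_mul, ← natρ]
    have h1 : NilK.r f i _ (ρ _ (𝒲.j l ≫ w)) = 1 := hρ _ _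
    rw [h1, _root_.mul_one]
  · intro T c c' hcc
    have h1 : LocEq (i ≫ f) T (NilK.r f i T c) (NilK.r f i T c') := by
      apply hφ.inj
      rw [← hπ, ← hπ, hcc]
    obtain ⟨𝒰, h𝒰⟩ := h1
    obtain ⟨𝒲, hW, h𝒲⟩ := GenNilOf.exists_affine_refine 𝒰
    refine ⟨𝒲, fun l => ?_⟩
    obtain ⟨k, s, hsk⟩ := h𝒲 l
    have := hW l
    have h2 : NilK.r f i _ ((pu f (𝒲.j l) c)⁻¹ * pu f (𝒲.j l) c') = 1 := by
      rw [map_mul, map_inv, r_pu, r_pu, ← hsk, pu_comp, pu_comp, h𝒰, inv_mul_cancel]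
    obtain ⟨w, hw⟩ := hs _ _ h2
    refine ⟨w, LocEq.of_eq ?_⟩
    rw [hw, mul_inv_cancel_left]

section bc

variable {X S : Scheme.{u}} {f : X ⟶ S} {K W U : Over S} [GrpObj W] {h : U ⟶ W}
  {π : ∀ T : Over S, Pic (PicF.XT f T) → (T ⟶ K)} {ρ : ∀ T : Over S, (T ⟶ W) → Pic (PicF.XT f T)}

/-- Base change of the exact sequence, with the formula for the map to `K`. -/
theorem pre_baseChange (P : Pre f h π ρ) {S' : Scheme.{u}} (a : S' ⟶ S) :
    ∃ (ρ' : ∀ T : Over S', (T ⟶ Red.bc a W) → Pic (PicF.XT (pullback.snd f a) T)),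
      Pre (pullback.snd f a) ((Over.pullback a).map h : Red.bc a U ⟶ Red.bc a W)
        (fun T c => bcEquiv a T K (π _ (tr a T c))) ρ' := by
  classical
  let ρ' : ∀ T : Over S', (T ⟶ Red.bc a W) → Pic (PicF.XT (pullback.snd f a) T) := fun T r =>
    Function.surjInv (tr_surjective a T) (ρ _ ((bcEquiv a T W).symm r))
  have hρ' : ∀ (T : Over S') (r : T ⟶ Red.bc a W), tr a T (ρ' T r) = ρ _ ((bcEquiv a T W).symm r) :=
    fun T r => Function.surjInv_eq _ _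
  refine ⟨ρ', ?_⟩
  refine { natπ := ?_, surjπ := ?_, natρ := ?_, ker := ?_, actπ := ?_, trans := ?_ }
  · intro T T' g c
    rw [tr_pu, P.natπ, comp_bcEquiv]
  · intro T g
    obtain ⟨𝒰, h𝒰⟩ := P.surjπ ((bcEquiv a T K).symm g)
    refine ⟨ecovLift a 𝒰, fun i => ?_⟩
    obtain ⟨c, hc⟩ := h𝒰 i
    obtain ⟨d, hd⟩ := tr_surjective (f := f) a ((ecovLift a 𝒰).V i)
      (pu f (fromMap a (𝒰.V i) _ (ecovLift_w a 𝒰 i)) c)
    refine ⟨d, ?_⟩
    apply (bcEquiv a _ K).symm.injective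
    rw [Equiv.symm_apply_apply, hd, P.natπ, hc, comp_bcEquiv_symm, ← Category.assoc, map_ecovLift]
  · intro T T' g r
    rw [← locEq_tr_iff, hρ', tr_pu, hρ', comp_bcEquiv_symm]
    exact P.natρ _ _
  · intro T x y
    rw [← locEq_tr_iff, hρ', hρ', P.ker]
    constructor
    · rintro ⟨𝒰, h𝒰⟩
      refine ⟨ecovLift a 𝒰, fun i => ?_⟩
      obtain ⟨r, hr⟩ := h𝒰 i
      refine ⟨bcEquiv a _ U (fromMap a (𝒰.V i) _ (ecovLift_w a 𝒰 i) ≫ r), ?_⟩
      apply (bcMulEquiv a _ W).symm.injective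
      rw [map_mul]
      change (bcEquiv a _ W).symm _ = (bcEquiv a _ W).symm _ * (bcEquiv a _ W).symm _
      rw [comp_bcEquiv_symm a ((ecovLift a 𝒰).j i) x, comp_bcEquiv_symm a ((ecovLift a 𝒰).j i) y, bcEquiv_symm_comp,
        Equiv.symm_apply_apply, map_ecovLift, Category.assoc, hr, Category.assoc, Category.assoc, MonObj.comp_mul]
    · rintro ⟨𝒰, h𝒰⟩
      refine ⟨ecovMap a 𝒰, fun i => ?_⟩
      obtain ⟨r, hr⟩ := h𝒰 i
      refine ⟨(bcEquiv a _ U).symm r, ?_⟩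
      have h1 := congrArg (bcMulEquiv a _ W).symm hr
      rw [map_mul] at h1
      change (bcEquiv a _ W).symm _ = (bcEquiv a _ W).symm _ * (bcEquiv a _ W).symm _ at h1
      rw [comp_bcEquiv_symm a (𝒰.j i) x, comp_bcEquiv_symm a (𝒰.j i) y, bcEquiv_symm_comp] at h1
      exact h1
  · intro T c r
    have h1 : tr a T (c * ρ' T r) = tr a T c * tr a T (ρ' T r) := map_mul _ _ _
    rw [h1, hρ', P.actπ]
  · intro T c c' hc
    obtain ⟨𝒰, h𝒰⟩ := P.trans _ _ ((bcEquiv a T K).injective hc)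
    refine ⟨ecovLift a 𝒰, fun i => ?_⟩
    obtain ⟨r, hr⟩ := h𝒰 i
    let m := fromMap a (𝒰.V i) _ (ecovLift_w a 𝒰 i)
    refine ⟨bcEquiv a _ W (m ≫ r), ?_⟩
    have h1 : ∀ z z' : Pic (PicF.XT (pullback.snd f a) ((ecovLift a 𝒰).V i)),
      tr a _ (z * z') = tr a _ z * tr a _ z' := fun z z' => map_mul _ _ _
    rw [← locEq_tr_iff, h1, tr_pu, tr_pu, hρ', Equiv.symm_apply_apply, map_ecovLift, pu_comp, pu_comp]
    refine (hr.pull m).trans ?_
    rw [map_mul]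
    exact (LocEq.refl _).mul (P.natρ m r).symm

end bc

/-- The map `X₀ ×_S S' ⟶ X ×_S S'`. -/
noncomputable def bm {X₀ X S S' : Scheme.{u}} (i : X₀ ⟶ X) (f : X ⟶ S) (a : S' ⟶ S) :
    pullback (i ≫ f) a ⟶ pullback f a :=
  pullback.lift (pullback.fst (i ≫ f) a ≫ i) (pullback.snd (i ≫ f) a)
    (by rw [Category.assoc, pullback.condition])

lemma bm_fst {X₀ X S S' : Scheme.{u}} (i : X₀ ⟶ X) (f : X ⟶ S) (a : S' ⟶ S) :
    bm i f a ≫ pullback.fst f a = pullback.fst (i ≫ f) a ≫ i := pullback.lift_fst _ _ _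

lemma bm_snd {X₀ X S S' : Scheme.{u}} (i : X₀ ⟶ X) (f : X ⟶ S) (a : S' ⟶ S) :
    bm i f a ≫ pullback.snd f a = pullback.snd (i ≫ f) a := pullback.lift_snd _ _ _

/-- Over a good base. -/
theorem affRes_of_sit {X₀ X S : Scheme.{u}}
    (i : X₀ ⟶ X) (f : X ⟶ S) [IsAffine S] [IsLocallyNoetherian S] [IsIntegral S] (hsq : i.ker ^ 2 = ⊥)
    (hN : NSit i f) (hCF : CF f) (hCF₀ : CF (i ≫ f)) (hG : Good (i ≫ f)) :
    ∃ V : S.Opens, (V : Set S).Nonempty ∧ AffRes (bm i f V.ι) (bm_snd i f V.ι) := by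
  obtain ⟨RX⟩ := UnitGrp.exists_rep f hCF
  obtain ⟨R₀⟩ := UnitGrp.exists_rep (i ≫ f) hCF₀
  obtain ⟨W, _, _, _, _, q, _, ρ, natρ, hρ, hs, hker, hker1⟩ := Groth.Agent.Pic13.H126.NilRep.exists_rep hN hsq R₀
  obtain ⟨P₀, hP₀, _, _, hAF⟩ := hG
  obtain ⟨φ₀, hφ₀⟩ := exists_repPic (i ≫ f) hP₀
  obtain ⟨K, ι', π, hι', hπι, natπ, surjπ, actπ, trans⟩ := exists_K f i P₀ hφ₀
    (fun V _ c₀ => Groth.Agent.Pic13.H243.NilObs.exists_obs hN hsq V c₀) ρ natρ hρ hs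
  obtain ⟨V, ⟨s, hs⟩, hV⟩ := Groth.Agent.Pic13.H602.NilQ.exists_hQ' f i RX R₀ q hker1
  obtain ⟨Q⟩ := hV V le_rfl
  obtain ⟨ρ', P'⟩ := pre_baseChange (GenNilOf.pre_of f q natρ hker natπ surjπ actπ trans) V.ι
  have hQ := P'.data Q
  have a1 := Q.smooth_p
  have a2 := Q.surj_p
  have a3 := Q.affine_G
  obtain ⟨P, φ, r, hP, hr, hcomp⟩ := hQ.exists_affine_over
  refine ⟨V, ⟨s, hs⟩, P, Red.bc V.ι P₀, φ, _, r ≫ (Over.pullback V.ι).map ι', hP, rep_baseChange hφ₀ V.ι,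
    fun T c => ?_, ?_⟩
  · rw [← Category.assoc, hcomp, ← bcEquiv_comp, hπι]
    congr 2
    rw [pw, tr, tr, NilK.r, ← pull_comp, ← pull_comp]
    exact congrArg (fun z => Groth.Agent.Grpsch.PicGrp.pull z c)
      (mT_eT i rfl V.ι (bm i f V.ι) (bm_snd i f V.ι) (bm_fst i f V.ι) T)
  · have : IsClosedImmersion ((Over.pullback V.ι).map ι').left :=
      MorphismProperty.of_isPullback (isPullback_map_left V.ι ι').flip hι'
    rw [Over.comp_left]
    infer_instance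

/-- The restriction map is generically affine. -/
def GenAff {X₀ X S : Scheme.{u}} (i : X₀ ⟶ X) (f : X ⟶ S) : Prop :=
  ∃ V : S.Opens, (V : Set S).Nonempty ∧ AffRes (bm i f V.ι) (bm_snd i f V.ι)

/-- A restriction map over a smaller base, through cartesian squares. -/
theorem affRes_trans {X₀ X S T₁ T₂ A₁ B₁ : Scheme.{u}} {i : X₀ ⟶ X} {f : X ⟶ S} {t₁ : T₁ ⟶ S}
    {fA : A₁ ⟶ T₁} {fB : B₁ ⟶ T₁} {q₁ : A₁ ⟶ B₁} {h₁ : q₁ ≫ fB = fA} (H : AffRes q₁ h₁)
    {vA : A₁ ⟶ X₀} {vB : B₁ ⟶ X} (HA : IsPullback vA fA (i ≫ f) t₁) (HB : IsPullback vB fB f t₁)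
    (w₁ : q₁ ≫ vB = vA ≫ i) (t₂ : T₂ ⟶ S) (a : T₂ ⟶ T₁) (ha : a ≫ t₁ = t₂) :
    AffRes (bm i f t₂) (bm_snd i f t₂) := by
  have hA : pullback.fst (i ≫ f) t₂ ≫ i ≫ f = (pullback.snd (i ≫ f) t₂ ≫ a) ≫ t₁ := by
    rw [Category.assoc, ha, pullback.condition]
  have hB : pullback.fst f t₂ ≫ f = (pullback.snd f t₂ ≫ a) ≫ t₁ := by
    rw [Category.assoc, ha, pullback.condition]
  have HA' : IsPullback (HA.lift _ _ hA) (pullback.snd (i ≫ f) t₂) fA a := by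
    refine IsPullback.of_right (t := HA) ?_ (HA.lift_snd _ _ _)
    rw [HA.lift_fst, ha]
    exact IsPullback.of_hasPullback _ _
  have HB' : IsPullback (HB.lift _ _ hB) (pullback.snd f t₂) fB a := by
    refine IsPullback.of_right (t := HB) ?_ (HB.lift_snd _ _ _)
    rw [HB.lift_fst, ha]
    exact IsPullback.of_hasPullback _ _
  refine H.of_isPullback HA' HB' ?_
  apply HB.hom_ext
  · rw [Category.assoc, HB.lift_fst, bm_fst, Category.assoc, w₁, HA.lift_fst_assoc]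
  · rw [Category.assoc, HB.lift_snd, ← Category.assoc, bm_snd, Category.assoc, h₁, HA.lift_snd]

/-- Over a smaller open. -/
theorem affRes_of_le {X₀ X S : Scheme.{u}} {i : X₀ ⟶ X} {f : X ⟶ S} {V W : S.Opens} (hW : W ≤ V)
    (H : AffRes (bm i f V.ι) (bm_snd i f V.ι)) : AffRes (bm i f W.ι) (bm_snd i f W.ι) :=
  affRes_trans H (IsPullback.of_hasPullback _ _) (IsPullback.of_hasPullback _ _) (bm_fst i f V.ι) W.ι
    (S.homOfLE hW) (S.homOfLE_ι hW)

/-- Shrinking the base, with a base change `i'` of `i`. -/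
theorem genAff_shrink {X₀ X S : Scheme.{u}} (i : X₀ ⟶ X) (f : X ⟶ S) (V : S.Opens) {X₀' : Scheme.{u}}
    {g₀ : X₀' ⟶ X₀} {i' : X₀' ⟶ pullback f V.ι} (H : IsPullback i' g₀ (pullback.fst f V.ι) i)
    (h : GenAff i' (pullback.snd f V.ι)) : GenAff i f := by
  obtain ⟨V', hV', h⟩ := h
  refine ⟨V.ι ''ᵁ V', ?_, ?_⟩
  · obtain ⟨x, hx⟩ := hV'
    exact ⟨V.ι x, ⟨x, hx, rfl⟩⟩
  have H1 := (IsPullback.of_hasPullback (pullback.snd f V.ι) V'.ι).paste_horiz
    (IsPullback.of_hasPullback f V.ι)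
  have H2 : IsPullback g₀ (i' ≫ pullback.snd f V.ι) (i ≫ f) V.ι :=
    H.flip.paste_vert (IsPullback.of_hasPullback f V.ι)
  have H3 := (IsPullback.of_hasPullback (i' ≫ pullback.snd f V.ι) V'.ι).paste_horiz H2
  have hw : (V.ι.isoImage V').inv ≫ V'.ι ≫ V.ι = (V.ι ''ᵁ V').ι := by
    rw [Iso.inv_comp_eq]
    exact (V.ι.isoImage_hom_ι V').symm
  refine affRes_trans h H3 H1 ?_ _ (V.ι.isoImage V').inv hw
  rw [← Category.assoc, bm_fst, Category.assoc, Category.assoc, H.w]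

/-- Generic representability. -/
theorem genGood {X S : Scheme.{u}} [IsNoetherian S] [IsIntegral S] (f : X ⟶ S) [IsProper f] : GenGood f :=
  Groth.Agent.Pic13.H964.Final.genGood_of
    (fun i f _ _ _ _ _ h1 h2 => Groth.Agent.Pic13.H948.GenNil.genGood_nil i f h1 h2) f

/-- **Square-zero thickenings.** -/
theorem genAff_sq {X₀ X S : Scheme.{u}} (i : X₀ ⟶ X) (f : X ⟶ S) [IsAffine S] [IsNoetherian S] [IsIntegral S]
    [IsProper f] [IsClosedImmersion i] (hsq : i.ker ^ 2 = ⊥) : GenAff i f := by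
  obtain ⟨V, hV, hVa, X₀', g₀, i', H, hsq', hN, hCF, hCF₀, hG⟩ :=
    Groth.Agent.Pic13.H932.NilShrink.exists_sit i f hsq (genGood (i ≫ f))
  have a1 : IsAffine V.toScheme := hVa
  have a2 : Nonempty V.toScheme := by
    obtain ⟨x, hx⟩ := hV
    exact ⟨⟨x, hx⟩⟩
  have a3 : IsIntegral V.toScheme := inferInstance
  have a4 : IsLocallyNoetherian V.toScheme := inferInstance
  exact genAff_shrink i f V H (affRes_of_sit i' (pullback.snd f V.ι) hsq' hN hCF hCF₀ hG)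

theorem genAff_comp {X₀ X₁ X S : Scheme.{u}} [IrreducibleSpace S] (i : X₀ ⟶ X₁) (j : X₁ ⟶ X) (f : X ⟶ S)
    (h : GenAff j f) (h' : GenAff i (j ≫ f)) : GenAff (i ≫ j) f := by
  obtain ⟨V, hV, h⟩ := h
  obtain ⟨V', hV', h'⟩ := h'
  refine ⟨V ⊓ V', nonempty_preirreducible_inter V.isOpen V'.isOpen hV hV', ?_⟩
  have h1 := affRes_of_le (inf_le_left : V ⊓ V' ≤ V) h
  have h2 := affRes_of_le (inf_le_right : V ⊓ V' ≤ V') h'
  have h3 := h1.comp h2 (by rw [Category.assoc, bm_snd, bm_snd])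
  have HA : IsPullback (pullback.fst ((i ≫ j) ≫ f) (V ⊓ V').ι) (pullback.snd ((i ≫ j) ≫ f) (V ⊓ V').ι)
      (i ≫ j ≫ f) (V ⊓ V').ι := by
    rw [← Category.assoc i j f]
    exact IsPullback.of_hasPullback _ _
  refine h3.of_iso HA.isoPullback (Iso.refl _) HA.isoPullback_hom_snd (Category.id_comp _) ?_
  rw [Iso.refl_hom, Category.comp_id]
  have e1 : (HA.isoPullback.hom ≫ bm i (j ≫ f) (V ⊓ V').ι ≫ bm j f (V ⊓ V').ι) ≫ pullback.fst f (V ⊓ V').ι =
      pullback.fst ((i ≫ j) ≫ f) (V ⊓ V').ι ≫ i ≫ j := by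
    simp only [Category.assoc, bm_fst]
    have e3 : bm i (j ≫ f) (V ⊓ V').ι ≫ pullback.fst (j ≫ f) (V ⊓ V').ι ≫ j =
        pullback.fst (i ≫ j ≫ f) (V ⊓ V').ι ≫ i ≫ j :=
      (Category.assoc _ _ _).symm.trans ((congrArg (fun z => z ≫ j) (bm_fst i (j ≫ f) (V ⊓ V').ι)).trans
        (Category.assoc _ _ _))
    rw [e3]
    exact HA.isoPullback_hom_fst_assoc _
  have e2 : (HA.isoPullback.hom ≫ bm i (j ≫ f) (V ⊓ V').ι ≫ bm j f (V ⊓ V').ι) ≫ pullback.snd f (V ⊓ V').ι =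
      pullback.snd ((i ≫ j) ≫ f) (V ⊓ V').ι := by
    simp only [Category.assoc, bm_snd]
    exact HA.isoPullback_hom_snd
  apply pullback.hom_ext
  · exact (bm_fst _ _ _).trans e1.symm
  · exact (bm_snd _ _ _).trans e2.symm

theorem genAff_of_isIso {X₀ X S : Scheme.{u}} (i : X₀ ⟶ X) (f : X ⟶ S) [IsIso i] [IsNoetherian S] [IsIntegral S]
    [IsProper f] : GenAff i f := by
  obtain ⟨V, hV, P, hP, -⟩ := genGood f
  have : IsIso (bm i f V.ι) := by
    have H : IsPullback (bm i f V.ι) (pullback.fst (i ≫ f) V.ι) (pullback.fst f V.ι) i := by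
      refine (IsPullback.of_bot ?_ (bm_fst i f V.ι).symm (IsPullback.of_hasPullback f V.ι)).flip
      rw [bm_snd]
      exact IsPullback.of_hasPullback (i ≫ f) V.ι
    exact H.isIso_fst_of_isIso
  exact ⟨V, hV, AffRes.of_isIso _ _ ⟨P, hP⟩⟩

/-- Nilpotent thickenings, for a power of two. -/
theorem genAff_pow_two_pow {S : Scheme.{u}} [IsAffine S] [IsNoetherian S] [IsIntegral S]
    (k : ℕ) : ∀ {X : Scheme.{u}} (f : X ⟶ S) [IsProper f] (N : X.IdealSheafData), N ^ (2 ^ k) = ⊥ →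
      GenAff N.subschemeι f := by
  induction k with
  | zero =>
    intro X f _ N hN
    rw [pow_zero, pow_one] at hN
    subst hN
    exact genAff_of_isIso _ f
  | succ k ih =>
    intro X f _ N hN
    have h1 := ih f (N ^ 2) (by rw [← pow_mul, ← pow_succ']; exact hN)
    have hle : N ^ 2 ≤ N := by
      rw [pow_two]
      intro U
      exact Ideal.mul_le_left
    let i := Scheme.IdealSheafData.inclusion hle
    have hi : i ≫ (N ^ 2).subschemeι = N.subschemeι := Scheme.IdealSheafData.inclusion_subschemeι hle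
    have hcl : IsClosedImmersion i := by
      have : IsClosedImmersion (i ≫ (N ^ 2).subschemeι) := by rw [hi]; infer_instance
      exact IsClosedImmersion.of_comp i (N ^ 2).subschemeι
    rw [← hi]
    refine genAff_comp i _ f h1 (genAff_sq i ((N ^ 2).subschemeι ≫ f) ?_)
    have h1 : IsClosedImmersion (i ≫ (N ^ 2).subschemeι) := by rw [hi]; infer_instance
    have h2 := comap_ker_comp i (N ^ 2).subschemeι
    rw [hi, Scheme.IdealSheafData.ker_subschemeι] at h2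
    rw [← h2, ← comap_pow]
    have h3 := comap_ker_self (N ^ 2).subschemeι
    rwa [Scheme.IdealSheafData.ker_subschemeι] at h3

/-- **Closed immersions which are surjective.** -/
theorem genAff_of_surjective {S : Scheme.{u}} [IsAffine S] [IsNoetherian S] [IsIntegral S]
    {X₀ X : Scheme.{u}} (i : X₀ ⟶ X) [IsClosedImmersion i] [Surjective i] (f : X ⟶ S) [IsProper f] :
    GenAff i f := by
  have hN : IsLocallyNoetherian X := LocallyOfFiniteType.isLocallyNoetherian f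
  have hc : CompactSpace X := QuasiCompact.compactSpace_of_compactSpace f
  have hN' : IsNoetherian X := {}
  obtain ⟨k, hk⟩ := Groth.Agent.Pic13.H595.GeoBasic.exists_pow_eq_bot i.ker
    (Groth.Agent.Pic13.H595.GeoBasic.ideal_le_nilradical i)
  have h := genAff_pow_two_pow k f i.ker (hk _ Nat.lt_two_pow_self.le)
  have hci : IsClosedImmersion (i.toImage ≫ i.imageι) := by rw [Scheme.Hom.toImage_imageι]; infer_instance
  have hiso : IsIso i.toImage := inferInstance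
  have hp : IsProper (i.imageι ≫ f) := inferInstance
  have h2 := genAff_comp i.toImage i.imageι f h (genAff_of_isIso _ _)
  rwa [Scheme.Hom.toImage_imageι] at h2

end K243.NilStep
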