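import Mathlib.Tactic
import Mathlib.Algebra.BigOperators.Fin

/-!
# The arithmetic of the Castelnuovo–Mumford bound on a surface
-/

set_option autoImplicit false

namespace K243.Num

open Finset

theorem gauss_aux (b N : ℕ) : 2 * ∑ j ∈ range N, (b - (j + 1)) + (b - N) * ((b - N) - 1) ≤ b * (b - 1) := by
  induction N with
  | zero => simp
  | succ N ih =>
    rw [Finset.sum_range_succ]
    rcases Nat.lt_or_ge N b with h | h
    · obtain ⟨d, rfl⟩ := Nat.exists_eq_add_of_lt h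
      have e1 : N + d + 1 - N = d + 1 := by omega
      have e2 : N + d + 1 - (N + 1) = d := by omega
      rw [e1] at ih
      rw [e2]
      have e3 : (d + 1) * (d + 1 - 1) = d * (d - 1) + 2 * d := by
        cases d with
        | zero => rfl
        | succ d => simp only [Nat.add_sub_cancel]; ring
      rw [e3] at ih
      linarith
    · have e1 : b - N = 0 := by omega
      have e2 : b - (N + 1) = 0 := by omega
      rw [e1] at ih
      rw [e2]
      simpa using ih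

theorem gauss (b N : ℕ) : 2 * ∑ j ∈ range N, (b - (j + 1)) ≤ b * (b - 1) :=
  (Nat.le_add_right _ _).trans (gauss_aux b N)

variable (g e c c0 : ℤ → ℕ) (a0 a1 : ℤ)
  (h_mid : ∀ m, g m ≤ g (m - 1) + c m)
  (h_left0 : ∀ m, g (m - 1) ≤ c0 m + g m)
  (h_left1 : ∀ m, e (m - 1) ≤ c m + e m)
  (hc0 : ∀ m, m ≤ -1 → c0 m = 0)
  (hc : (c (-1) : ℤ) = -a1)
  (hdrop : ∀ (m : ℤ) (l : ℕ), c (m + l) ≤ c m - l)
  (he : ∃ N : ℤ, ∀ m, N ≤ m → e m = 0)
  (hχ : (e (-1) : ℤ) - g (-1) = a0)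

include hdrop in
theorem c_le (j : ℕ) : c j ≤ c (-1) - (j + 1) := by
  have := hdrop (-1) (j + 1)
  have h2 : (-1 : ℤ) + ((j + 1 : ℕ) : ℤ) = j := by push_cast; ring
  rwa [h2] at this

include hc hdrop in
theorem sum_c_le (N : ℕ) : 2 * (∑ j ∈ range N, (c j : ℤ)) ≤ a1 * (a1 + 1) := by
  have h1 : ∑ j ∈ range N, c j ≤ ∑ j ∈ range N, (c (-1) - (j + 1)) :=
    Finset.sum_le_sum fun j _ => c_le c hdrop j
  have h2 := gauss (c (-1)) N
  have h3 : 2 * ∑ j ∈ range N, c j ≤ c (-1) * (c (-1) - 1) := by omega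
  have h4 : ((c (-1) * (c (-1) - 1) : ℕ) : ℤ) = a1 * (a1 + 1) := by
    rcases Nat.eq_zero_or_pos (c (-1)) with h | h
    · have : a1 = 0 := by rw [h] at hc; simpa using hc.symm
      rw [h, this]; simp
    · rw [Nat.cast_mul, Nat.cast_sub h, hc]
      push_cast
      ring
  have h5 : ((2 * ∑ j ∈ range N, c j : ℕ) : ℤ) ≤ ((c (-1) * (c (-1) - 1) : ℕ) : ℤ) := by exact_mod_cast h3
  rw [h4] at h5
  push_cast at h5
  exact h5

include hc hdrop in
theorem c_zero (m : ℤ) (hm : -a1 - 1 ≤ m) : c m = 0 := by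
  have h0 : 0 ≤ -a1 := by rw [← hc]; positivity
  obtain ⟨l, hl⟩ : ∃ l : ℕ, m = -1 + (l : ℕ) := ⟨(m + 1).toNat, by omega⟩
  have h1 := hdrop (-1) l
  rw [← hl] at h1
  have h2 : c (-1) ≤ l := by
    have : (c (-1) : ℤ) ≤ (l : ℤ) := by rw [hc]; omega
    exact_mod_cast this
  omega

include h_left1 hc hdrop he in
theorem e_zero (m : ℤ) (hm : -a1 - 2 ≤ m) : e m = 0 := by
  obtain ⟨N, hN⟩ := he
  have key : ∀ (l : ℕ) (m : ℤ), -a1 - 2 ≤ m → N ≤ m + l → e m = 0 := by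
    intro l
    induction l with
    | zero => intro m _ h; exact hN m (by simpa using h)
    | succ l ih =>
      intro m hm h
      have h1 := h_left1 (m + 1)
      rw [add_sub_cancel_right, c_zero c a1 hc hdrop (m + 1) (by omega),
        ih (m + 1) (by omega) (by push_cast at h; omega)] at h1
      omega
  exact key (N - m).toNat m hm (by omega)

include h_left1 hc hdrop he in
theorem e_le : 2 * (e (-1) : ℤ) ≤ a1 * (a1 + 1) := by
  obtain ⟨N, hN⟩ := he
  have key : ∀ l : ℕ, e (-1) ≤ (∑ j ∈ range l, c j) + e ((l : ℤ) - 1) := by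
    intro l
    induction l with
    | zero => simp
    | succ l ih =>
      rw [Finset.sum_range_succ]
      have h1 := h_left1 (l : ℤ)
      have h2 : (((l + 1 : ℕ) : ℤ) - 1) = l := by push_cast; ring
      rw [h2]
      omega
  have h1 := key (N + 1).toNat
  rw [hN (((N + 1).toNat : ℤ) - 1) (by omega), add_zero] at h1
  have h2 := sum_c_le c a1 hc hdrop (N + 1).toNat
  have h3 : (e (-1) : ℤ) ≤ ∑ j ∈ range (N + 1).toNat, (c j : ℤ) := by exact_mod_cast h1
  linarith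

include h_left0 hc0 in
theorem g_neg (m : ℤ) (hm : m ≤ -1) : g m ≤ g (-1) := by
  obtain ⟨l, hl⟩ : ∃ l : ℕ, m = -1 - (l : ℕ) := ⟨(-1 - m).toNat, by omega⟩
  subst hl
  clear hm
  induction l with
  | zero => simp
  | succ l ih =>
    have h1 := h_left0 (-1 - (l : ℕ))
    rw [hc0 _ (by omega)] at h1
    have h2 : (-1 : ℤ) - ((l + 1 : ℕ) : ℤ) = -1 - (l : ℤ) - 1 := by push_cast; ring
    rw [h2]
    omega

include h_mid hc hdrop in
theorem g_pos (l : ℕ) : 2 * (g ((l : ℤ) - 1) : ℤ) ≤ 2 * (g (-1) : ℤ) + a1 * (a1 + 1) := by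
  have key : ∀ l : ℕ, g ((l : ℤ) - 1) ≤ g (-1) + ∑ j ∈ range l, c j := by
    intro l
    induction l with
    | zero => simp
    | succ l ih =>
      rw [Finset.sum_range_succ]
      have h1 := h_mid (l : ℤ)
      have h2 : (((l + 1 : ℕ) : ℤ) - 1) = l := by push_cast; ring
      rw [h2]
      omega
  have h2 := sum_c_le c a1 hc hdrop l
  have h3 : (g ((l : ℤ) - 1) : ℤ) ≤ g (-1) + ∑ j ∈ range l, (c j : ℤ) := by exact_mod_cast key l
  linarith

include h_mid h_left0 h_left1 hc0 hc hdrop he hχ in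
theorem main :
    (∀ m, (g m : ℤ) ≤ a1 * (a1 + 1) - a0) ∧ 2 * a0 ≤ a1 * (a1 + 1) ∧ 0 ≤ -a1 ∧ 0 ≤ a1 * (a1 + 1) ∧
      (∀ m, -a1 - 2 ≤ m → e m = 0) ∧ (∀ m, -a1 - 1 ≤ m → c m = 0) := by
  have h0 : 0 ≤ -a1 := by rw [← hc]; positivity
  have h1 := e_le e c a1 h_left1 hc hdrop he
  have hpos : 0 ≤ a1 * (a1 + 1) := by
    have := sum_c_le c a1 hc hdrop 0
    simpa using this
  refine ⟨fun m => ?_, ?_, h0, hpos, e_zero e c a1 h_left1 hc hdrop he, c_zero c a1 hc hdrop⟩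
  · rcases le_or_gt m (-1) with hm | hm
    · have h2 := g_neg g c0 h_left0 hc0 m hm
      have h3 : (g m : ℤ) ≤ g (-1) := by exact_mod_cast h2
      linarith
    · obtain ⟨l, hl⟩ : ∃ l : ℕ, m = (l : ℤ) - 1 := ⟨(m + 1).toNat, by omega⟩
      subst hl
      have h2 := g_pos g c a1 h_mid hc hdrop l
      linarith
  · have h3 : (0 : ℤ) ≤ g (-1) := by positivity
    linarith

end K243.Num
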