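import Groth.Agent.Pic13.K243.GenInt
import Groth.Agent.Pic13.K243.LinForms
import Groth.Agent.Pic13.K243.Base
import Groth.Agent.Pic13.H956.TwoSec
import Groth.Agent.VarietyB.DegCartier
import Groth.Agent.Dix.IdealModSec

/-!
# Regular pencils of linear sections

`i : X ⟶ P^n_k`, `ls i a` the section of `O_X(1)` attached to a linear form `a`.
* `exists_ls`: over an infinite field some linear form does not vanish at finitely many given points.
* `regPair_of_mono`: `s₀` is regular modulo `s₁` if multiplication by `s₀` is injective on `O_X / s₁`.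
* `exists_pair`: `X` integral: `a₀, a₁` with `ls i a₁ ≠ 0`, `RegPair`, `D_+(a₁)` affine and common zeros of codimension `≥ 2`.
-/

set_option autoImplicit false
universe u
open CategoryTheory CategoryTheory.Limits AlgebraicGeometry Opposite TopologicalSpace

namespace K243.Pair

open Groth.Agent Groth.Agent.Fga Groth.Agent.Fdesc Groth.Agent.Fdesc.LocGen Groth.Agent.Ega2.VeryAmpleAmple
open K243.Base K243.GenInt

variable (k : Type u) [Field k] {n : ℕ} {X : Scheme.{u}} (i : X ⟶ CohB1.ProjSpace n k)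

/-- The section of `O_X(1)` attached to a linear form. -/
noncomputable def ls (a : CohB1.polyGrading n k 1) : Coh.structureModule X ⟶ O i 1 :=
  Ega2.Weight.pullHom i (homOf (LinForms.gs k n a))

theorem mem_genLocus_ls (a : CohB1.polyGrading n k 1) (x : X) :
    x ∈ CohB1.genLocus (O i 1) (ls k i a) ↔ a ∉ LinForms.W k n (i x) := by
  rw [ls, Ega2.Weight.genLocus_pullHom _ (Sga67.SerreVB.isInvertible_twist n k 1), LinForms.genLocus_gs]
  exact Iff.rfl

theorem isAffineOpen_ls [IsAffineHom i] (a : CohB1.polyGrading n k 1) :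
    IsAffineOpen (CohB1.genLocus (O i 1) (ls k i a)) := by
  rw [ls, Ega2.Weight.genLocus_pullHom _ (Sga67.SerreVB.isInvertible_twist n k 1), LinForms.genLocus_gs]
  have h : @IsAffineOpen (CohB1.ProjSpace n k) (Proj.basicOpen (CohB1.polyGrading n k) a.1) :=
    Proj.isAffineOpen_basicOpen (CohB1.polyGrading n k) a.1 a.2 one_pos
  exact h.preimage i

theorem W_ne_top (x : ProjectiveSpectrum (CohB1.polyGrading n k)) : LinForms.W k n x ≠ ⊤ := by
  obtain ⟨j, hj⟩ := exists_notMem_X x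
  intro h
  apply hj
  have : (Xv j : CohB1.polyGrading n k 1) ∈ LinForms.W k n x := by rw [h]; trivial
  exact this

theorem exists_ls [Infinite k] (S : Set X) (hS : S.Finite) :
    ∃ a : CohB1.polyGrading n k 1, S ⊆ CohB1.genLocus (O i 1) (ls k i a) := by
  have := hS.to_subtype
  by_contra hcon
  push Not at hcon
  have h1 : ∀ a : CohB1.polyGrading n k 1, ∃ x : S, a ∈ LinForms.W k n (i x.1) := by
    intro a
    obtain ⟨x, hx, hx'⟩ := Set.not_subset.mp (hcon a)
    refine ⟨⟨x, hx⟩, ?_⟩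
    by_contra h
    exact hx' ((mem_genLocus_ls k i a x).mpr h)
  obtain ⟨x, hx⟩ := Subspace.exists_eq_top_of_iUnion_eq_univ (p := fun x : S => LinForms.W k n (i x.1))
    (Set.eq_univ_of_forall fun a => Set.mem_iUnion.mpr (h1 a))
  exact W_ne_top k _ hx

/-- `s₀` is regular modulo `s₁` if it acts injectively on `O_X / s₁`. -/
theorem regPair_of_mono {N : X.Modules} (hN : PicF.IsInvertible N) (s₀ s₁ : Coh.structureModule X ⟶ N)
    (h : Mono (RegSec.mulS s₀ (ClSub.quotMod (PicF2.zeroScheme N s₁)))) : RegPair s₀ s₁ := by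
  intro U hU e he a₀ a₁ ha₀ ha₁ c hc
  set I := PicF2.zeroScheme N s₁ with hI
  have hIU : I.ideal ⟨U, hU⟩ = Ideal.span {a₁} := Pi1C.ZeroScheme.ideal_eq_span s₁ hN ⟨U, hU⟩ he ha₁
  have hker : ∀ b : Γ(X, U), (ClSub.toSubscheme I).app U b = 0 ↔ a₁ ∣ b := by
    intro b
    rw [← Ideal.mem_span_singleton, ← hIU, ← I.ker_subschemeι_app ⟨U, hU⟩]
    exact Iff.rfl
  have hinj := VarietyB.ExactLoc.app_injective_of_mono (RegSec.mulS s₀ (ClSub.quotMod I)) U
  rw [← hker]
  apply hinj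
  rw [map_zero, RegSec.mulS_app, ha₀, smul_tmul, ← tmul_smul]
  have h1 : a₀ • ((ClSub.toSubscheme I).app U c) = (ClSub.toSubscheme I).app U (a₀ * c) :=
    ((ClSub.toSubscheme I).app_smul a₀ c).symm
  rw [h1, (hker _).mpr hc]
  have := tmul_smul (0 : Γ(X, U)) e (0 : Γ(ClSub.quotMod I, U))
  rw [zero_smul, zero_smul] at this
  exact this

variable [X.Over (Spec (CommRingCat.of k))] [IsProper (X ↘ Spec (CommRingCat.of k))] [IsIntegral X]

/-- Regular pencils exist. -/
theorem exists_pair [Infinite k] [IsAffineHom i] (S : Set X) (hS : S.Finite) :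
    ∃ a₀ a₁ : CohB1.polyGrading n k 1,
      S ⊆ CohB1.genLocus (O i 1) (ls k i a₁) ∧
      genericPoint X ∈ CohB1.genLocus (O i 1) (ls k i a₀) ∧
      genericPoint X ∈ CohB1.genLocus (O i 1) (ls k i a₁) ∧ ls k i a₁ ≠ 0 ∧
      RegPair (ls k i a₀) (ls k i a₁) ∧
      Mono (RegSec.mulS (ls k i a₀) (ClSub.quotMod (PicF2.zeroScheme (O i 1) (ls k i a₁)))) ∧
      ∀ x, x ∉ CohB1.genLocus _ (ls k i a₀) → x ∉ CohB1.genLocus _ (ls k i a₁) →
        ∃ y, y ⤳ x ∧ y ≠ x ∧ y ≠ genericPoint X := by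
  have hX := HypSec.isNoetherian k X
  obtain ⟨a₁, ha₁⟩ := exists_ls k i (insert (genericPoint X) S) (hS.insert _)
  have hη₁ : genericPoint X ∈ CohB1.genLocus (O i 1) (ls k i a₁) := ha₁ (Set.mem_insert _ _)
  have hne : ls k i a₁ ≠ 0 := by
    intro h
    rw [h, Ega2.FiniteSet.genLocus_zero] at hη₁
    exact hη₁
  set I := PicF2.zeroScheme (O i 1) (ls k i a₁) with hI
  have hC : Coh.IsCoh (ClSub.quotMod I) := VarietyB.DegCartier.isCoh_quotMod I
  obtain ⟨P, hPfin, hP, hPx⟩ := Pic13.H956.TwoSec.exists_generic_points (X := X)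
    (CohB1.genLocus _ (ls k i a₁) : Set X)ᶜ (CohB1.genLocus _ (ls k i a₁)).isOpen.isClosed_compl
  obtain ⟨a₀, ha₀⟩ := exists_ls k i (insert (genericPoint X) (AssSch.Ass (ClSub.quotMod I) ∪ P))
    ((SubFilt.finite_ass hC |>.union hPfin).insert _)
  have hη₀ : genericPoint X ∈ CohB1.genLocus (O i 1) (ls k i a₀) := ha₀ (Set.mem_insert _ _)
  have hmono : Mono (RegSec.mulS (ls k i a₀) (ClSub.quotMod I)) := by
    refine RegSec.mulS_mono _ _ hC ?_ fun x hx => ha₀ (Or.inr (Or.inl hx))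
    exact (Sga67.CohBasic.isCoh_kernel _ hC
      (Sga67.CohBasic.isCoh_of_iso (Ega2.Tens.swap _ _) (TwistCoh.isCoh_tensor hC (isInvertible_O i 1))).1).1
  refine ⟨a₀, a₁, fun x hx => ha₁ (Set.mem_insert_of_mem _ hx), hη₀, hη₁, hne,
    regPair_of_mono (isInvertible_O i 1) _ _ hmono, hmono, fun x hx₀ hx₁ => ?_⟩
  obtain ⟨p, hp, hpx⟩ := hPx x hx₁
  refine ⟨p, hpx, ?_, ?_⟩
  · rintro rfl
    exact hx₀ (ha₀ (Or.inr (Or.inr hp)))
  · rintro rfl
    exact (hP _ hp).1 hη₁

end K243.Pair
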