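import Groth.Agent.Fga.RegSec
import Groth.Agent.VarietyA.H0Equiv
import Groth.Agent.Fga.TwistCoh
import Groth.Agent.S0002
import Groth.Agent.VarietyB.ExactLoc
import Mathlib.LinearAlgebra.Eigenspace.Triangularizable
import Mathlib.GroupTheory.CosetCover

/-!
# Pencils of sections

* `mulH0 k s G`: multiplication by a global section `s` of `L` on `H⁰`, as a linear map `H⁰(G) → H⁰(L ⊗ G)`.
* `pencil`: `k` algebraically closed; if all nonzero combinations of `s, s'` multiply injectively on `G` and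
  `H⁰(G) ≠ 0` then `h⁰(G) + 1 ≤ h⁰(L ⊗ G)`.
* `exists_pair`: choice of a pencil avoiding finitely many subspaces of codimension at least two.
-/

set_option autoImplicit false
universe u
open CategoryTheory CategoryTheory.Limits AlgebraicGeometry Opposite

namespace K243.Pencil

open Groth.Agent Groth.Agent.Fga.RegSec Groth.Agent.Fdesc.LocGen

variable (k : Type u) [Field k] {X : Scheme.{u}} [X.Over (Spec (CommRingCat.of k))]

/-- The global function attached to a scalar. -/
noncomputable def gl (c : k) : Γ(X, ⊤) := Coh.toGlobal (X ↘ Spec (CommRingCat.of k)) c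

/-- `H⁰` as global sections. -/
noncomputable def e0 (M : X.Modules) : Coh.HH X M 0 ≃+ Γ(M, ⊤) := VarietyA.H0Equiv.hZeroEquiv M

theorem e0_smul (M : X.Modules) (c : k) (x : Coh.HH X M 0) : e0 M (c • x) = gl (X := X) k c • e0 M x :=
  VarietyA.H0Equiv.hZeroEquiv_smul M (Coh.toGlobal (X ↘ Spec (CommRingCat.of k)) c) x

theorem e0_symm_smul (M : X.Modules) (c : k) (t : Γ(M, ⊤)) :
    (e0 M).symm (gl (X := X) k c • t) = c • (e0 M).symm t := by
  apply (e0 M).injective
  rw [e0_smul, AddEquiv.apply_symm_apply, AddEquiv.apply_symm_apply]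

variable {L : X.Modules}

/-- Multiplication by a global section on `H⁰`. -/
noncomputable def mulH0 (s : Γ(L, ⊤)) (G : X.Modules) :
    Coh.HH X G 0 →ₗ[k] Coh.HH X (CohB1.tensorMod L G) 0 where
  toFun x := (e0 (CohB1.tensorMod L G)).symm (tmul s (e0 G x))
  map_add' x y := by
    rw [map_add, tmul_add, map_add]
  map_smul' c x := by
    rw [e0_smul, tmul_smul, e0_symm_smul, RingHom.id_apply]

theorem mulH0_apply (s : Γ(L, ⊤)) (G : X.Modules) (x : Coh.HH X G 0) :
    e0 (CohB1.tensorMod L G) (mulH0 k s G x) = tmul s (e0 G x) :=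
  AddEquiv.apply_symm_apply _ _

theorem mulH0_injective (s : Γ(L, ⊤)) (G : X.Modules) [Mono (mulS (homOf s) G)] :
    Function.Injective (mulH0 k s G) := by
  rw [injective_iff_map_eq_zero]
  intro x hx
  apply (e0 G).injective
  have h1 := mulH0_apply k s G x
  rw [hx, map_zero] at h1
  have h2 : (mulS (homOf s) G).app ⊤ (e0 G x) = 0 := by
    rw [mulS_app, sec_homOf, res_refl, ← h1]
  have h3 := VarietyB.ExactLoc.app_injective_of_mono (mulS (homOf s) G) ⊤
  rw [map_zero]
  exact h3 (h2.trans (map_zero _).symm)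

theorem mulH0_sub (s s' : Γ(L, ⊤)) (c : k) (G : X.Modules) (x : Coh.HH X G 0) :
    mulH0 k (s' - gl (X := X) k c • s) G x = mulH0 k s' G x - c • mulH0 k s G x := by
  apply (e0 (CohB1.tensorMod L G)).injective
  rw [map_sub, e0_smul, mulH0_apply, mulH0_apply, mulH0_apply, eq_sub_iff_add_eq, ← smul_tmul, ← add_tmul,
    sub_add_cancel]

/-- **The pencil argument.** -/
theorem pencil [IsAlgClosed k] (s s' : Γ(L, ⊤)) (G : X.Modules)
    [Module.Finite k (Coh.HH X G 0)] [Module.Finite k (Coh.HH X (CohB1.tensorMod L G) 0)]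
    (h : Mono (mulS (homOf s) G)) (h' : ∀ c : k, Mono (mulS (homOf (s' - gl (X := X) k c • s)) G))
    [hnt : Nontrivial (Coh.HH X G 0)] :
    Module.finrank k (Coh.HH X G 0) + 1 ≤ Module.finrank k (Coh.HH X (CohB1.tensorMod L G) 0) := by
  by_contra hcon
  have h1 := mulH0_injective k s G
  have hle := LinearMap.finrank_le_finrank_of_injective h1
  have heq : Module.finrank k (Coh.HH X G 0) = Module.finrank k (Coh.HH X (CohB1.tensorMod L G) 0) := by omega
  let e := LinearMap.linearEquivOfInjective (mulH0 k s G) h1 heq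
  obtain ⟨c, hc⟩ := Module.End.exists_eigenvalue (e.symm.toLinearMap ∘ₗ mulH0 k s' G)
  obtain ⟨v, hv⟩ := hc.exists_hasEigenvector
  have h2 : e.symm (mulH0 k s' G v) = c • v := hv.apply_eq_smul
  have h3 : mulH0 k s' G v = c • mulH0 k s G v := by
    rw [LinearEquiv.symm_apply_eq, map_smul] at h2
    exact h2
  have h4 : mulH0 k (s' - gl (X := X) k c • s) G v = 0 := by rw [mulH0_sub, h3, sub_self]
  have := h' c
  exact hv.2 (mulH0_injective k (s' - gl (X := X) k c • s) G (h4.trans (map_zero _).symm))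

/-- Choice of a pencil. -/
theorem exists_pair {k V ι : Type*} [Field k] [Infinite k] [AddCommGroup V] [Module k V] [Finite ι]
    (W : ι → Submodule k V) (hW : ∀ i v, W i ⊔ Submodule.span k {v} ≠ ⊤) :
    ∃ v v' : V, ∀ i, v ∉ W i ∧ ∀ c : k, v' - c • v ∉ W i := by
  have h1 : ∃ v, ∀ i, v ∉ W i := by
    by_contra hcon
    push Not at hcon
    obtain ⟨i, hi⟩ := Subspace.exists_eq_top_of_iUnion_eq_univ (p := W)
      (Set.eq_univ_of_forall fun v => Set.mem_iUnion.mpr (hcon v))
    exact hW i 0 (by rw [hi]; exact top_sup_eq _)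
  obtain ⟨v, hv⟩ := h1
  have h2 : ∃ v', ∀ i, v' ∉ W i ⊔ Submodule.span k {v} := by
    by_contra hcon
    push Not at hcon
    obtain ⟨i, hi⟩ := Subspace.exists_eq_top_of_iUnion_eq_univ (p := fun i => W i ⊔ Submodule.span k {v})
      (Set.eq_univ_of_forall fun v => Set.mem_iUnion.mpr (hcon v))
    exact hW i v hi
  obtain ⟨v', hv'⟩ := h2
  refine ⟨v, v', fun i => ⟨hv i, fun c hc => hv' i ?_⟩⟩
  have h3 : v' = (v' - c • v) + c • v := by rw [sub_add_cancel]
  rw [h3]
  exact Submodule.add_mem_sup hc (Submodule.smul_mem _ _ (Submodule.mem_span_singleton_self v))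

end K243.Pencil
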