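import Groth.Agent.Pic13.H956.GenPush
import Mathlib.Tactic.LinearCombination
import Mathlib.Algebra.Polynomial.AlgebraMap
import Mathlib.RingTheory.Localization.FractionRing

/-!
# The generic member of a regular pencil: algebra

`F` a domain over `K`, `a₀, a₁ ∈ F` with `a₁ ≠ 0` and `a₀` a nonzerodivisor modulo `a₁`: the ideal of `F ⊗ K(t)`
generated by `a₀ ⊗ 1 + a₁ ⊗ t` is the unit ideal or prime (`top_or_prime`, `top_or_prime_pushout`).
-/

set_option autoImplicit false

universe u v

namespace K243.PrimeAlg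

open TensorProduct Polynomial Groth.Agent.Pic13.H956.GenAlg

theorem dvd_of_dvd_pow_mul {R : Type*} [CommRing R] {a₀ a₁ : R} (hreg : ∀ c, a₁ ∣ a₀ * c → a₁ ∣ c) (d : ℕ) (c : R)
    (h : a₁ ∣ a₀ ^ d * c) : a₁ ∣ c := by
  induction d with
  | zero => simpa using h
  | succ d ih =>
    apply ih
    apply hreg
    rwa [← mul_assoc, ← pow_succ']

theorem mem_span_of_aeval {R : Type*} [CommRing R] [IsDomain R] (a₀ a₁ : R)
    (hreg : ∀ c, a₁ ∣ a₀ * c → a₁ ∣ c) (x : FractionRing R) (hx : algebraMap R (FractionRing R) a₁ * x =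
      -algebraMap R (FractionRing R) a₀) (n : ℕ) (f : R[X]) (hn : f.natDegree < n)
    (hf : aeval x f = 0) : f ∈ Ideal.span {C a₀ + C a₁ * X} := by
  induction n generalizing f with
  | zero => omega
  | succ n ih =>
    have hinj := IsFractionRing.injective R (FractionRing R)
    rcases Nat.eq_zero_or_pos f.natDegree with hd | hd
    · obtain ⟨c, rfl⟩ : ∃ c, f = C c := ⟨_, eq_C_of_natDegree_eq_zero hd⟩
      rw [aeval_C, ← map_zero (algebraMap R (FractionRing R))] at hf
      rw [hinj hf, map_zero]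
      exact zero_mem _
    · set d := f.natDegree with hdd
      have h2 : ∑ i ∈ Finset.range (d + 1), f.coeff i * (a₁ ^ (d - i) * (-a₀) ^ i) = 0 := by
        apply hinj
        rw [map_zero, map_sum]
        have h3 : ∀ i ∈ Finset.range (d + 1), algebraMap R (FractionRing R) (f.coeff i * (a₁ ^ (d - i) * (-a₀) ^ i)) =
            algebraMap R (FractionRing R) a₁ ^ d * (algebraMap R (FractionRing R) (f.coeff i) * x ^ i) := by
          intro i hi
          have hi' : i ≤ d := Nat.lt_succ_iff.mp (Finset.mem_range.mp hi)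
          have h4 : algebraMap R (FractionRing R) a₁ ^ d =
              algebraMap R (FractionRing R) a₁ ^ (d - i) * algebraMap R (FractionRing R) a₁ ^ i := by
            rw [← pow_add, Nat.sub_add_cancel hi']
          rw [map_mul, map_mul, map_pow, map_pow, map_neg, ← hx, mul_pow, h4]
          ring
        rw [Finset.sum_congr rfl h3, ← Finset.mul_sum]
        have h5 : ∑ i ∈ Finset.range (d + 1), algebraMap R (FractionRing R) (f.coeff i) * x ^ i = aeval x f := by
          rw [aeval_eq_sum_range]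
          exact Finset.sum_congr rfl fun i _ => (Algebra.smul_def _ _).symm
        rw [h5, hf, mul_zero]
      have h6 : a₁ ∣ f.coeff d := by
        apply dvd_of_dvd_pow_mul hreg d
        rw [Finset.sum_range_succ] at h2
        have h7 : a₁ ∣ ∑ i ∈ Finset.range d, f.coeff i * (a₁ ^ (d - i) * (-a₀) ^ i) := by
          refine Finset.dvd_sum fun i hi => ?_
          have hi' : i < d := Finset.mem_range.mp hi
          have h8 : a₁ ∣ a₁ ^ (d - i) := dvd_pow_self _ (by omega)
          exact ((h8.mul_right _).mul_left _)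
        have h9 : a₁ ∣ f.coeff d * (a₁ ^ (d - d) * (-a₀) ^ d) := by
          have h10 : f.coeff d * (a₁ ^ (d - d) * (-a₀) ^ d) =
              -∑ i ∈ Finset.range d, f.coeff i * (a₁ ^ (d - i) * (-a₀) ^ i) := by
            linear_combination h2
          rw [h10]
          exact h7.neg_right
        rw [Nat.sub_self, pow_zero, one_mul, neg_pow] at h9
        have h11 : a₀ ^ d * f.coeff d = (-1) ^ d * (f.coeff d * ((-1) ^ d * a₀ ^ d)) := by
          have h12 : ((-1 : R) ^ d * (-1) ^ d) = 1 := by rw [← mul_pow]; simp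
          linear_combination (-(a₀ ^ d * f.coeff d)) * h12
        rw [h11]
        exact h9.mul_left _
      obtain ⟨g, hg⟩ := h6
      have h13 : f = (f - C g * X ^ (d - 1) * (C a₀ + C a₁ * X)) + C g * X ^ (d - 1) * (C a₀ + C a₁ * X) := by ring
      rw [h13]
      refine add_mem (ih _ ?_ ?_) (Ideal.mul_mem_left _ _ (Ideal.mem_span_singleton_self _))
      · have h14 : (f - C g * X ^ (d - 1) * (C a₀ + C a₁ * X)).natDegree < d := by
          have hd1 : d - 1 + 1 = d := by omega
          have h15 : C g * X ^ (d - 1) * (C a₀ + C a₁ * X) = C (g * a₀) * X ^ (d - 1) + C (a₁ * g) * X ^ d := by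
            rw [map_mul, map_mul]
            conv_rhs => rw [← hd1, pow_succ]
            simp only [Nat.add_sub_cancel]
            ring
          rw [h15]
          have hne : 0 < d := hd
          suffices h17 : (f - (C (g * a₀) * X ^ (d - 1) + C (a₁ * g) * X ^ d)).natDegree ≤ d - 1 by omega
          rw [natDegree_le_iff_coeff_eq_zero]
          intro N hN
          have hN' : d ≤ N := by omega
          rw [coeff_sub, coeff_add, coeff_C_mul_X_pow, coeff_C_mul_X_pow]
          rcases Nat.eq_or_lt_of_le hN' with h16 | h16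
          · rw [← h16, if_neg (by omega), if_pos rfl, zero_add, hg, sub_self]
          · rw [if_neg (by omega), if_neg (by omega), add_zero, sub_zero]
            exact coeff_eq_zero_of_natDegree_lt h16
        omega
      · have h18 : aeval x (C a₀ + C a₁ * X) = 0 := by
          rw [map_add, map_mul, aeval_C, aeval_C, aeval_X, hx, add_neg_cancel]
        rw [map_sub, map_mul, h18, hf, mul_zero, sub_zero]

theorem isPrime_span {R : Type*} [CommRing R] [IsDomain R] (a₀ a₁ : R) (h1 : a₁ ≠ 0)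
    (hreg : ∀ c, a₁ ∣ a₀ * c → a₁ ∣ c) : (Ideal.span ({C a₀ + C a₁ * X} : Set R[X])).IsPrime := by
  have h1' : algebraMap R (FractionRing R) a₁ ≠ 0 := by
    rw [Ne, map_eq_zero_iff _ (IsFractionRing.injective R (FractionRing R))]
    exact h1
  set x : FractionRing R := -algebraMap R (FractionRing R) a₀ / algebraMap R (FractionRing R) a₁ with hxdef
  have hx : algebraMap R (FractionRing R) a₁ * x = -algebraMap R (FractionRing R) a₀ := by
    rw [hxdef, mul_div_cancel₀ _ h1']
  have heq : Ideal.span ({C a₀ + C a₁ * X} : Set R[X]) = RingHom.ker (aeval x : R[X] →ₐ[R] FractionRing R).toRingHom := by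
    apply le_antisymm
    · rw [Ideal.span_singleton_le_iff_mem, RingHom.mem_ker]
      change aeval x (C a₀ + C a₁ * X) = 0
      rw [map_add, map_mul, aeval_C, aeval_C, aeval_X, hx, add_neg_cancel]
    · intro f hf
      exact mem_span_of_aeval a₀ a₁ hreg x hx _ f (Nat.lt_succ_self _) hf
  rw [heq]
  exact RingHom.ker_isPrime _

variable (k : Type u) [Field k]

theorem top_or_prime (F : Type v) [CommRing F] [Algebra k F] [IsDomain F] (a₀ a₁ : F) (h1 : a₁ ≠ 0)
    (hreg : ∀ c, a₁ ∣ a₀ * c → a₁ ∣ c) :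
    Ideal.span {a₀ ⊗ₜ[k] (1 : Gen k) + a₁ ⊗ₜ[k] t k} = ⊤ ∨
      (Ideal.span {a₀ ⊗ₜ[k] (1 : Gen k) + a₁ ⊗ₜ[k] t k}).IsPrime := by
  let _ : Algebra (F ⊗[k] k[X]) (F ⊗[k] Gen k) := (toLoc k F).toRingHom.toAlgebra
  have hloc := isLocalization k F
  set M : Submonoid (F ⊗[k] k[X]) := (nonZeroDivisors k[X]).map
      (Algebra.TensorProduct.includeRight (R := k) (A := F)) with hM
  set x : F ⊗[k] k[X] := a₀ ⊗ₜ[k] (1 : k[X]) + a₁ ⊗ₜ[k] (X : k[X]) with hx
  have hprime : (Ideal.span {x}).IsPrime := by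
    have h2 : (polyEquivTensor k F).toRingEquiv (C a₀ + C a₁ * X) = x := by
      change polyEquivTensor k F (C a₀ + C a₁ * X) = x
      rw [hx, map_add, map_mul, polyEquivTensor_apply, polyEquivTensor_apply, polyEquivTensor_apply]
      simp
    have h3 : Ideal.span {x} = Ideal.map (polyEquivTensor k F).toRingEquiv (Ideal.span {C a₀ + C a₁ * X}) := by
      rw [Ideal.map_span, Set.image_singleton, h2]
    rw [h3]
    have := isPrime_span a₀ a₁ h1 hreg
    exact Ideal.map_isPrime_of_equiv _
  have hmap : (Ideal.span {x}).map (algebraMap (F ⊗[k] k[X]) (F ⊗[k] Gen k)) =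
      Ideal.span {a₀ ⊗ₜ[k] (1 : Gen k) + a₁ ⊗ₜ[k] t k} := by
    rw [Ideal.map_span, Set.image_singleton]
    congr 2
    rw [hx, map_add]
    simp [RingHom.algebraMap_toAlgebra, toLoc, t]
  by_cases hd : Disjoint (M : Set (F ⊗[k] k[X])) (Ideal.span {x} : Ideal (F ⊗[k] k[X]))
  · right
    rw [← hmap]
    exact IsLocalization.isPrime_of_isPrime_disjoint M (F ⊗[k] Gen k) _ hprime hd
  · left
    rw [← hmap]
    by_contra hne
    exact hd ((IsLocalization.map_algebraMap_ne_top_iff_disjoint M (F ⊗[k] Gen k) _).mp hne)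

open CategoryTheory CategoryTheory.Limits

variable {k}

theorem top_or_prime_pushout {A P : CommRingCat.{u}} {a : CommRingCat.of k ⟶ A} {inl : A ⟶ P}
    {inr : CommRingCat.of (Gen k) ⟶ P}
    (h : IsPushout a (CommRingCat.ofHom (algebraMap k (Gen k))) inl inr) [IsDomain A] (a₀ a₁ : A) (h1 : a₁ ≠ 0)
    (hreg : ∀ c, a₁ ∣ a₀ * c → a₁ ∣ c) :
    Ideal.span {inl a₀ + inr (t k) * inl a₁} = ⊤ ∨ (Ideal.span {inl a₀ + inr (t k) * inl a₁}).IsPrime := by
  obtain ⟨_, e, h1', h2⟩ := Groth.Agent.Pic13.H956.GenPush.exists_equiv h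
  have h3 : inl a₀ + inr (t k) * inl a₁ = e (a₀ ⊗ₜ[k] (1 : Gen k) + a₁ ⊗ₜ[k] t k) := by
    have h4 : a₁ ⊗ₜ[k] t k = ((1 : A) ⊗ₜ[k] t k) * (a₁ ⊗ₜ[k] (1 : Gen k)) := by
      rw [Algebra.TensorProduct.tmul_mul_tmul, one_mul, mul_one]
    rw [map_add, h1', h4, map_mul, h1', h2]
  have h4 : Ideal.span {inl a₀ + inr (t k) * inl a₁} =
      Ideal.map (e : (A ⊗[k] Gen k) →+* P) (Ideal.span {a₀ ⊗ₜ[k] (1 : Gen k) + a₁ ⊗ₜ[k] t k}) := by
    rw [Ideal.map_span, Set.image_singleton, h3]
    rfl
  rcases top_or_prime k A a₀ a₁ h1 hreg with h5 | h5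
  · left
    rw [h4, h5, Ideal.map_top]
  · right
    rw [h4]
    exact Ideal.map_isPrime_of_equiv e

end K243.PrimeAlg
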