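import Groth.Agent.CohqA.AffineBaseChange

/-!
# Schemes with a module, and morphisms between them

`Pr`: pairs `(X, M)`; a morphism `(Y, N) ⟶ (X, M)` is `g : Y ⟶ X` with `M ⟶ g_* N`.

* `sec`: pullback of sections along a morphism of pairs; `ext_sec`, `comp_sec`, `sec_res`;
* `Cart`: `N` is the pullback of `M`; `Cart.exists_lift`, `Cart.comp_iff`;
* `up`, `pushA`: direct images.
-/

set_option autoImplicit false
universe u

open CategoryTheory CategoryTheory.Limits AlgebraicGeometry Opposite TopologicalSpace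

namespace K243.QcArr

open Groth.Agent.CohqA.PullbackUniv Groth.Agent.CohqA.PullbackAffine Groth.Agent.CohqA.PullbackSections
  Groth.Agent.CohqA.AffineBaseChange Groth.Agent.CohqA.PullbackQCoh

/-- A scheme with a module. -/
structure Pr where
  /-- the scheme -/
  X : Scheme.{u}
  /-- the module -/
  M : X.Modules

/-- A morphism of schemes with a morphism `M ⟶ g_* N`. -/
structure Arr (A B : Pr.{u}) where
  /-- the morphism of schemes -/
  base : A.X ⟶ B.X
  /-- the morphism of modules -/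
  map : B.M ⟶ (Scheme.Modules.pushforward base).obj A.M

namespace Arr

variable {A B : Pr.{u}}

/-- Pullback of sections. -/
noncomputable def sec (f : Arr A B) (U : B.X.Opens) (W : A.X.Opens) (e : W ≤ f.base ⁻¹ᵁ U) (s : Γ(B.M, U)) :
    Γ(A.M, W) := secMap f.base f.map U W e s

theorem sec_add (f : Arr A B) {U : B.X.Opens} {W : A.X.Opens} (e : W ≤ f.base ⁻¹ᵁ U) (s t : Γ(B.M, U)) :
    f.sec U W e (s + t) = f.sec U W e s + f.sec U W e t := map_add _ _ _

theorem sec_smul (f : Arr A B) {U : B.X.Opens} {W : A.X.Opens} (e : W ≤ f.base ⁻¹ᵁ U) (r : Γ(B.X, U))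
    (s : Γ(B.M, U)) : f.sec U W e (r • s) = (f.base.appLE U W e).hom r • f.sec U W e s :=
  secMap_smul f.base f.map U W e r s

theorem sec_self (f : Arr A B) (U : B.X.Opens) (s : Γ(B.M, U)) :
    f.sec U (f.base ⁻¹ᵁ U) le_rfl s = f.map.app U s := map_self' A.M le_rfl _

theorem res_sec (f : Arr A B) {U : B.X.Opens} {W W' : A.X.Opens} (e : W ≤ f.base ⁻¹ᵁ U) (h : W' ≤ W)
    (s : Γ(B.M, U)) : A.M.presheaf.map (homOfLE h).op (f.sec U W e s) = f.sec U W' (h.trans e) s :=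
  map_map' A.M h e _

theorem sec_res (f : Arr A B) {U U' : B.X.Opens} {W : A.X.Opens} (h : U' ≤ U) (e : W ≤ f.base ⁻¹ᵁ U')
    (s : Γ(B.M, U)) : f.sec U' W e (B.M.presheaf.map (homOfLE h).op s) =
      f.sec U W (e.trans (f.base.preimage_mono h)) s := by
  have h1 : f.map.app U' (B.M.presheaf.map (homOfLE h).op s) =
      A.M.presheaf.map (homOfLE (f.base.preimage_mono h)).op (f.map.app U s) := app_map f.map h s
  change A.M.presheaf.map (homOfLE e).op (f.map.app U' (B.M.presheaf.map (homOfLE h).op s)) = _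
  rw [h1]
  exact map_map' A.M e (f.base.preimage_mono h) _

theorem ext_sec {f g : Arr A B} (hb : f.base = g.base)
    (h : ∀ (U : B.X.Opens) (W : A.X.Opens) (e : W ≤ f.base ⁻¹ᵁ U) (e' : W ≤ g.base ⁻¹ᵁ U) (s : Γ(B.M, U)),
      f.sec U W e s = g.sec U W e' s) : f = g := by
  obtain ⟨b, m⟩ := f
  obtain ⟨b', m'⟩ := g
  obtain rfl : b = b' := hb
  congr 1
  apply Scheme.Modules.hom_ext
  intro U
  ext s
  have h1 := h U (b ⁻¹ᵁ U) le_rfl le_rfl s
  rwa [sec_self, sec_self] at h1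

theorem sec_congr {f g : Arr A B} (h : f = g) (U : B.X.Opens) (W : A.X.Opens) (e : W ≤ f.base ⁻¹ᵁ U)
    (e' : W ≤ g.base ⁻¹ᵁ U) (s : Γ(B.M, U)) : f.sec U W e s = g.sec U W e' s := by
  subst h
  rfl

end Arr

noncomputable instance : Category Pr.{u} where
  Hom A B := Arr A B
  id A := ⟨𝟙 _, (Scheme.Modules.pushforwardId A.X).inv.app A.M⟩
  comp {A B C} f g := ⟨f.base ≫ g.base, compMap g.map f.map⟩
  id_comp {A B} f := by
    refine Arr.ext_sec (Category.id_comp _) fun U W e e' s => ?_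
    change A.M.presheaf.map (homOfLE e).op _ = A.M.presheaf.map (homOfLE e').op _
    rfl
  comp_id {A B} f := by
    refine Arr.ext_sec (Category.comp_id _) fun U W e e' s => ?_
    change A.M.presheaf.map (homOfLE e).op _ = A.M.presheaf.map (homOfLE e').op _
    rfl
  assoc {A B C D} f g h := by
    refine Arr.ext_sec (Category.assoc _ _ _) fun U W e e' s => ?_
    change A.M.presheaf.map (homOfLE e).op _ = A.M.presheaf.map (homOfLE e').op _
    rfl

variable {A B C : Pr.{u}}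

@[simp] theorem base_id (A : Pr.{u}) : Arr.base (𝟙 A) = 𝟙 A.X := rfl

@[simp] theorem base_comp (f : A ⟶ B) (g : B ⟶ C) : Arr.base (f ≫ g) = Arr.base f ≫ Arr.base g := rfl

theorem comp_sec (f : A ⟶ B) (g : B ⟶ C) {U : C.X.Opens} {V : B.X.Opens} {W : A.X.Opens}
    (e : W ≤ (Arr.base (f ≫ g)) ⁻¹ᵁ U) (e₁ : V ≤ (Arr.base g) ⁻¹ᵁ U) (e₂ : W ≤ (Arr.base f) ⁻¹ᵁ V) (s : Γ(C.M, U)) :
    Arr.sec (f ≫ g) U W e s = Arr.sec f V W e₂ (Arr.sec g U V e₁ s) := by
  have h1 : Arr.sec (f ≫ g) U W e s =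
      Arr.sec f ((Arr.base g) ⁻¹ᵁ U) W e (g.map.app U s) := rfl
  rw [h1]
  exact (Arr.sec_res f e₁ e₂ (g.map.app U s)).symm

/-- The module of the source is the pullback of the module of the target. -/
def Cart (f : A ⟶ B) : Prop := IsUniv (Arr.base f) (Arr.map f)

theorem Cart.comp_iff {g : B ⟶ C} (hg : Cart g) (f : A ⟶ B) : Cart (f ≫ g) ↔ Cart f :=
  isUniv_compMap_iff hg f.map

theorem Cart.comp {f : A ⟶ B} {g : B ⟶ C} (hf : Cart f) (hg : Cart g) : Cart (f ≫ g) := (hg.comp_iff f).2 hf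

theorem Cart.exists_lift {g : B ⟶ C} (hg : Cart g) (ζ : A ⟶ C) (h : A.X ⟶ B.X)
    (hh : h ≫ Arr.base g = Arr.base ζ) : ∃ f : A ⟶ B, Arr.base f = h ∧ f ≫ g = ζ := by
  obtain ⟨zb, zm⟩ := ζ
  obtain rfl : h ≫ Arr.base g = zb := hh
  obtain ⟨b, hb⟩ := (bijective_compMap h g.map hg A.M).2 zm
  refine ⟨⟨h, b⟩, rfl, ?_⟩
  change (⟨h ≫ g.base, compMap g.map b⟩ : Arr A C) = _
  congr 1

theorem Cart.hom_ext {g : B ⟶ C} (hg : Cart g) {f f' : A ⟶ B} (hb : Arr.base f = Arr.base f')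
    (h : f ≫ g = f' ≫ g) : f = f' := by
  obtain ⟨b, m⟩ := f
  obtain ⟨b', m'⟩ := f'
  obtain rfl : b = b' := hb
  have h1 : compMap g.map m = compMap g.map m' := by
    have h2 : (⟨b ≫ g.base, compMap g.map m⟩ : Arr A C) = ⟨b ≫ g.base, compMap g.map m'⟩ := h
    injection h2
  congr 1
  exact (bijective_compMap b g.map hg A.M).1 h1

/-- The pullback. -/
noncomputable def pb {Y X : Scheme.{u}} (g : Y ⟶ X) (M : X.Modules) :
    (⟨Y, (Scheme.Modules.pullback g).obj M⟩ : Pr.{u}) ⟶ ⟨X, M⟩ := ⟨g, pbUnit g M⟩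

@[simp] theorem base_pb {Y X : Scheme.{u}} (g : Y ⟶ X) (M : X.Modules) : Arr.base (pb g M) = g := rfl

theorem cart_pb {Y X : Scheme.{u}} (g : Y ⟶ X) (M : X.Modules) : Cart (pb g M) := isUniv_pbUnit g M

/-- A morphism of modules on the same scheme. -/
noncomputable def fix {X : Scheme.{u}} {M N : X.Modules} (φ : M ⟶ N) : (⟨X, N⟩ : Pr.{u}) ⟶ ⟨X, M⟩ :=
  ⟨𝟙 X, φ ≫ (Scheme.Modules.pushforwardId X).inv.app N⟩

@[simp] theorem base_fix {X : Scheme.{u}} {M N : X.Modules} (φ : M ⟶ N) : Arr.base (fix φ) = 𝟙 X := rfl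

theorem fix_sec {X : Scheme.{u}} {M N : X.Modules} (φ : M ⟶ N) {U W : X.Opens} (e : W ≤ (𝟙 X : X ⟶ X) ⁻¹ᵁ U)
    (e' : W ≤ U) (s : Γ(M, U)) :
    Arr.sec (fix φ) U W e s = N.presheaf.map (homOfLE e').op (φ.app U s) := rfl

theorem cart_fix {X : Scheme.{u}} {M N : X.Modules} (φ : M ⟶ N) [IsIso φ] : Cart (fix φ) := by
  have h1 : Cart (𝟙 (⟨X, N⟩ : Pr.{u})) := by
    intro P
    have h : (fun ψ : N ⟶ P => (Scheme.Modules.pushforwardId X).inv.app N ≫
        (Scheme.Modules.pushforward (𝟙 X)).map ψ) =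
        fun ψ : N ⟶ P => ψ ≫ (Scheme.Modules.pushforwardId X).inv.app P :=
      funext fun ψ => ((Scheme.Modules.pushforwardId X).inv.naturality ψ).symm
    change Function.Bijective (fun ψ : N ⟶ P => (Scheme.Modules.pushforwardId X).inv.app N ≫
        (Scheme.Modules.pushforward (𝟙 X)).map ψ)
    rw [h]
    constructor
    · intro a b hab
      exact (cancel_mono ((Scheme.Modules.pushforwardId X).inv.app P)).1 hab
    · intro ψ
      refine ⟨ψ ≫ (Scheme.Modules.pushforwardId X).hom.app P, ?_⟩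
      change (ψ ≫ (Scheme.Modules.pushforwardId X).hom.app P) ≫ (Scheme.Modules.pushforwardId X).inv.app P = ψ
      rw [Category.assoc, Iso.hom_inv_id_app]
      exact Category.comp_id _
  exact IsUniv.iso_comp (g := 𝟙 X) h1 φ

/-- Two cartesian morphisms over the same morphism. -/
theorem exists_iso {Y : Scheme.{u}} {N N' : Y.Modules} {B : Pr.{u}} {f : (⟨Y, N⟩ : Pr.{u}) ⟶ B}
    {f' : (⟨Y, N'⟩ : Pr.{u}) ⟶ B} (hf : Cart f) (hf' : Cart f') (hb : Arr.base f = Arr.base f') :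
    ∃ e : N ≅ N', fix e.hom ≫ f = f' ∧ fix e.inv ≫ f' = f := by
  obtain ⟨b, m⟩ := f
  obtain ⟨b', m'⟩ := f'
  obtain rfl : b = b' := hb
  obtain ⟨e, h1, h2⟩ := IsUniv.exists_iso (a := m) (a' := m') hf hf'
  refine ⟨e, ?_, ?_⟩
  · refine Arr.ext_sec (Category.id_comp _) fun U W q q' s => ?_
    have h3 := congr(($h1).app U s)
    change N'.presheaf.map (homOfLE q).op (e.hom.app _ (m.app U s)) = N'.presheaf.map (homOfLE q').op (m'.app U s)
    rw [← h3]
    rfl
  · refine Arr.ext_sec (Category.id_comp _) fun U W q q' s => ?_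
    have h3 := congr(($h2).app U s)
    change N.presheaf.map (homOfLE q).op (e.inv.app _ (m'.app U s)) = N.presheaf.map (homOfLE q').op (m.app U s)
    rw [← h3]
    rfl

end K243.QcArr
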