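import Groth.Agent.Pic13.K243.QcDat
import Groth.Agent.Pic13.H969.Bridge
import Groth.Agent.FGA.K275.PushBC
import Groth.Agent.Ega3A.PicRep

/-!
# Boundedness of the invertible kernels of a family

* `mem_base_of_geom`: a coherent module flat over the base with invertible geometric fibre is invertible near the fibre;
* `exists_compact`: the classes of the invertible kernels in a family lie in a compact subset of the Picard scheme.
-/

set_option autoImplicit false
universe w u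

open CategoryTheory CategoryTheory.Limits AlgebraicGeometry Opposite TopologicalSpace

namespace K243.QcBdd

open Groth.Agent.CohqA.PullbackUniv Groth.Agent.CohqA.PullbackSections Groth.Agent.CohqA.PullbackAffine
  Groth.Agent.CohqA.AffineBaseChange Groth.Agent.Pic13.H504 K243.QcArr K243.QcKer K243.QcGen K243.QcDat
  Groth.Agent.Fdesc.LocGen Groth.Agent.Pic13.H969.Bridge
  Groth.Agent.Ega3A.PicDiv Groth.Agent.Ega3A.PicEtSh Groth.Agent.Grpsch.PicGrp Groth.Agent.Ega3A.PicRep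

/-- If the fibre of a flat coherent family at a field-valued point is invertible, the point lies in `base`. -/
theorem mem_base_of_geom {Y T : Scheme.{u}} [IsLocallyNoetherian Y] (μ : Y ⟶ T) (hcl : IsClosedMap μ)
    (K : Y.Modules) (hK : Coh.IsCoh K) (Ω : Type u) [Field Ω] (t : Spec (CommRingCat.of Ω) ⟶ T) {F : Scheme.{u}}
    {i : F ⟶ Y} {p : F ⟶ Spec (CommRingCat.of Ω)} (H : IsPullback i p μ t)
    (hfl : ∀ y : Y, μ y = t (IsLocalRing.closedPoint Ω) → FlatMod.IsFlatOverAt μ K y)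
    (hinv : PicF.IsInvertible ((Scheme.Modules.pullback i).obj K)) :
    t (IsLocalRing.closedPoint Ω) ∈ base K μ hcl := by
  rw [mem_base_iff]
  intro y hy
  let s : T := t (IsLocalRing.closedPoint Ω)
  let ψ : T.residueField s ⟶ CommRingCat.of Ω := Scheme.descResidueField (Scheme.stalkClosedPointTo t)
  have hψ : Spec.map ψ ≫ T.fromSpecResidueField s = t :=
    Scheme.descResidueField_stalkClosedPointTo_fromSpecResidueField Ω T t
  have H₀ := IsPullback.of_hasPullback μ (T.fromSpecResidueField s)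
  let i₀ := pullback.fst μ (T.fromSpecResidueField s)
  have hw : i ≫ μ = (p ≫ Spec.map ψ) ≫ T.fromSpecResidueField s := by rw [Category.assoc, hψ, H.w]
  let j : F ⟶ pullback μ (T.fromSpecResidueField s) := pullback.lift i (p ≫ Spec.map ψ) hw
  have hj : j ≫ i₀ = i := pullback.lift_fst _ _ _
  have Hj : IsPullback j p (pullback.snd μ (T.fromSpecResidueField s)) (Spec.map ψ) := by
    refine IsPullback.of_right (h₁₂ := i₀) (v₁₃ := μ) (h₂₂ := T.fromSpecResidueField s) ?_ (pullback.lift_snd _ _ _) H₀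
    rw [hj, hψ]
    exact H
  have f1 : Flat (Spec.map ψ) := by
    rw [Flat.SpecMap_iff]
    algebraize [ψ.hom]
    let _ : Field (T.residueField s) := inferInstance
    exact (inferInstance : Module.Flat (T.residueField s) Ω)
  have f2 : Surjective (Spec.map ψ) := by
    refine ⟨fun z => ⟨IsLocalRing.closedPoint Ω, ?_⟩⟩
    exact Subsingleton.elim (α := PrimeSpectrum (T.residueField s)) _ _
  have f3 : Flat j := MorphismProperty.of_isPullback Hj.flip f1
  have f4 : Surjective j := MorphismProperty.of_isPullback Hj.flip f2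
  have f5 : QuasiCompact j := MorphismProperty.of_isPullback Hj.flip (inferInstanceAs (QuasiCompact (Spec.map ψ)))
  have hinv₀ : PicF.IsInvertible ((Scheme.Modules.pullback i₀).obj K) := by
    refine K275.PushBC.isInvertible_of_single j _ ?_ ?_
    · exact Groth.Agent.FormalA.PullbackQC.isQCoh_pullback i₀ K hK.1
    · refine Groth.Agent.Pic13.H138.AlgEquiv.isInvertible_of_iso ?_ hinv
      exact ((Scheme.Modules.pullbackComp j i₀).app K ≪≫ (Scheme.Modules.pullbackCongr hj).app K).symm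
  obtain ⟨x, hx, -⟩ := Scheme.Pullback.exists_preimage_pullback (f := μ) (g := T.fromSpecResidueField s) y
    (IsLocalRing.closedPoint (T.residueField s)) (by
      rw [hy, Scheme.fromSpecResidueField_apply])
  have hx' : i₀ x = y := hx
  subst hx'
  exact Groth.Agent.Pic13.H969.StalkFree.exists_isGen_of_fibre _ H₀ K hK x (hfl _ hy) hinv₀


section affine

theorem appTop_comp {R : CommRingCat.{u}} {B : Scheme.{u}} [IsAffine B] (q : Γ(B, ⊤) ⟶ R) (a : Γ(B, ⊤)) :
    (Spec.map q ≫ B.isoSpec.inv).appTop.hom a = (Scheme.ΓSpecIso R).inv.hom (q.hom a) := by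
  rw [Scheme.Hom.comp_appTop, CommRingCat.comp_apply, Groth.Agent.CohqA.PullbackAffine.isoSpec_inv_appTop]
  exact (congr($(Scheme.ΓSpecIso_inv_naturality q).hom a)).symm

theorem exists_map_eq {R : CommRingCat.{u}} {B : Scheme.{u}} [IsAffine B] (t : Spec R ⟶ B) :
    ∃ ρ : Γ(B, ⊤) ⟶ R, Spec.map ρ ≫ B.isoSpec.inv = t :=
  ⟨Spec.preimage (t ≫ B.isoSpec.hom), by rw [Spec.map_preimage, Category.assoc, Iso.hom_inv_id, Category.comp_id]⟩

theorem inv_eq_zero_iff {R : CommRingCat.{u}} (a : R) : (Scheme.ΓSpecIso R).inv.hom a = 0 ↔ a = 0 := by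
  constructor
  · intro h
    have h1 := congrArg (Scheme.ΓSpecIso R).hom.hom h
    rw [map_zero, ← CommRingCat.comp_apply, Iso.inv_hom_id] at h1
    exact h1
  · rintro rfl
    exact map_zero _

/-- The closed subscheme given by an ideal. -/
noncomputable def cl {B : Scheme.{u}} [IsAffine B] (I : Ideal Γ(B, ⊤)) :
    Spec (CommRingCat.of (Γ(B, ⊤) ⧸ I)) ⟶ B := Spec.map (CommRingCat.ofHom (Ideal.Quotient.mk I)) ≫ B.isoSpec.inv

theorem cl_eq_zero_iff {B : Scheme.{u}} [IsAffine B] (I : Ideal Γ(B, ⊤)) (a : Γ(B, ⊤)) :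
    (cl I).appTop.hom a = 0 ↔ a ∈ I := by
  rw [cl, appTop_comp, inv_eq_zero_iff]
  exact Ideal.Quotient.eq_zero_iff_mem

theorem cl_surjective {B : Scheme.{u}} [IsAffine B] (I : Ideal Γ(B, ⊤)) :
    Function.Surjective (cl I).appTop.hom := by
  intro x
  obtain ⟨y, hy⟩ := Ideal.Quotient.mk_surjective (I := I) ((Scheme.ΓSpecIso (CommRingCat.of (Γ(B, ⊤) ⧸ I))).hom.hom x)
  refine ⟨y, ?_⟩
  rw [cl, appTop_comp]
  refine (congrArg (Scheme.ΓSpecIso (CommRingCat.of (Γ(B, ⊤) ⧸ I))).inv.hom hy).trans ?_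
  rw [← CommRingCat.comp_apply, Iso.hom_inv_id]
  rfl

theorem exists_cl_lift {B : Scheme.{u}} [IsAffine B] (I : Ideal Γ(B, ⊤)) {R : CommRingCat.{u}} (t : Spec R ⟶ B)
    (ht : ∀ a ∈ I, t.appTop.hom a = 0) : ∃ t₁ : Spec R ⟶ Spec (CommRingCat.of (Γ(B, ⊤) ⧸ I)), t₁ ≫ cl I = t := by
  obtain ⟨ρ, rfl⟩ := exists_map_eq t
  have h1 : ∀ a ∈ I, ρ.hom a = 0 := fun a ha => by
    rw [← inv_eq_zero_iff, ← appTop_comp]
    exact ht a ha
  refine ⟨Spec.map (CommRingCat.ofHom (Ideal.Quotient.lift I ρ.hom h1)), ?_⟩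
  rw [cl, ← Category.assoc, ← Spec.map_comp]
  congr 2

end affine

theorem _root_.K243.QcArr.Cart.isCoh {A B : Pr.{u}} {f : A ⟶ B} (hf : Cart f) (h : Coh.IsCoh B.M) : Coh.IsCoh A.M := by
  obtain ⟨e, -, -⟩ := (isUniv_pbUnit (Arr.base f) B.M).exists_iso hf
  exact Groth.Agent.CohqB.LocalQC.isCoh_of_iso e (Groth.Agent.FormalA.PullbackQC.isCoh_pullback (Arr.base f) B.M h)

section bdd

variable {YS S : Scheme.{u}} {gS : YS ⟶ S} {P : Over S} {φ : ∀ T : Over S, Pic (PicF.XT gS T) → (T ⟶ P)}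

/-- The classes of the kernels at the points of the closed subset given by `I`. -/
def Bd (φ : ∀ T : Over S, Pic (PicF.XT gS T) → (T ⟶ P)) {B : Scheme.{u}} (b : B ⟶ S) (D : Dat B) (v : D.Y ⟶ YS)
    (I : Ideal Γ(B, ⊤)) : Prop :=
  ∃ C : Set P.left, IsCompact C ∧ ∀ (Ω : Type u) [Field Ω] (t : Spec (CommRingCat.of Ω) ⟶ B)
    (_ : ∀ a ∈ I, t.appTop.hom a = 0)
    (D' : Dat (Spec (CommRingCat.of Ω))) (E : Dat.Map D' D t) (L : D'.Y.Modules) (hL : PicF.IsInvertible L)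
    (l : L ⟶ (Scheme.Modules.pushforward D'.f).obj D'.M) (_ : D'.Ker l)
    (j : PicF.XT gS (Over.mk (t ≫ b)) ⟶ D'.Y) (_ : j ≫ E.g ≫ v = pullback.fst _ _)
    (_ : j ≫ D'.μ = pullback.snd _ _),
    Set.range (φ (Over.mk (t ≫ b)) (pull j (mk L hL))).left ⊆ C

/-- The integral case. -/
theorem bd_prime (hφ : RepPic gS P φ) {B : Scheme.{u}} [IsAffine B] [IsNoetherian B] (b : B ⟶ S) (D : Dat B)
    (v : D.Y ⟶ YS) (hv : IsPullback v D.μ gS b) [IsProper D.μ] [IsProper D.f] [IsProper D.f₂] (hM : Coh.IsCoh D.M)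
    (hN : Coh.IsCoh D.N) (I : Ideal Γ(B, ⊤)) (hI : I.IsPrime) (ih : ∀ J : Ideal Γ(B, ⊤), I < J → Bd φ b D v J) :
    Bd φ b D v I := by
  let T : Scheme.{u} := Spec (CommRingCat.of (Γ(B, ⊤) ⧸ I))
  let τ : T ⟶ B := cl I
  have hR : IsNoetherianRing Γ(B, ⊤) := IsLocallyNoetherian.component_noetherian ⟨⊤, isAffineOpen_top B⟩
  have hTi : IsIntegral T := inferInstance
  have hTn : IsNoetherianRing (CommRingCat.of (Γ(B, ⊤) ⧸ I)) := inferInstanceAs (IsNoetherianRing (Γ(B, ⊤) ⧸ I))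
  have hTn' : IsNoetherian T := inferInstance
  obtain ⟨D₁, ⟨E₁⟩⟩ := D.exists_map τ
  have p1 : IsProper D₁.μ := MorphismProperty.of_isPullback E₁.HY ‹_›
  have p2 : IsProper D₁.f := MorphismProperty.of_isPullback E₁.HX ‹_›
  have p3 : IsProper D₁.f₂ := MorphismProperty.of_isPullback E₁.HZ ‹_›
  have hNY : IsLocallyNoetherian D₁.Y := LocallyOfFiniteType.isLocallyNoetherian D₁.μ
  obtain ⟨a, ha, K, hK, hfl, Hgen⟩ := D₁.exists_gen (E₁.cθ.isCoh hM) (E₁.cη.isCoh hN)
  obtain ⟨a₀, ha₀⟩ := cl_surjective I a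
  have ha₀I : a₀ ∉ I := by
    rw [← cl_eq_zero_iff, ha₀]
    exact ha
  obtain ⟨C₁, hC₁, H₁⟩ := ih (I ⊔ Ideal.span {a₀}) (by
    refine lt_of_le_of_ne le_sup_left fun h => ha₀I ?_
    rw [h]
    exact Ideal.mem_sup_right (Ideal.subset_span rfl))
  have hcl : IsClosedMap D₁.μ := D₁.μ.isClosedMap
  let V : T.Opens := T.basicOpen a ⊓ base K D₁.μ hcl
  let Tv : Over S := Over.mk (V.ι ≫ τ ≫ b)
  have hv₁ : IsPullback (E₁.g ≫ v) D₁.μ gS (τ ≫ b) := (E₁.HY.flip.paste_vert hv.flip).flip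
  have hu : pullback.fst gS Tv.hom ≫ gS = (pullback.snd gS Tv.hom ≫ V.ι) ≫ τ ≫ b := by
    rw [pullback.condition]
    rfl
  let u : PicF.XT gS Tv ⟶ D₁.Y := hv₁.lift (pullback.fst gS Tv.hom) (pullback.snd gS Tv.hom ≫ V.ι) hu
  have u1 : u ≫ E₁.g ≫ v = pullback.fst gS Tv.hom := hv₁.lift_fst _ _ _
  have u2 : u ≫ D₁.μ = pullback.snd gS Tv.hom ≫ V.ι := hv₁.lift_snd _ _ _
  have hLi : PicF.IsInvertible ((Scheme.Modules.pullback u).obj K) := by
    refine isInvertible_pullback_of_range u fun y => ?_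
    refine (mem_base_iff K D₁.μ hcl _).1 ?_ (u y) rfl
    have e1 : D₁.μ (u y) = V.ι (pullback.snd gS Tv.hom y) := by
      rw [← Scheme.Hom.comp_apply, u2, Scheme.Hom.comp_apply]
    rw [e1]
    exact (pullback.snd gS Tv.hom y).2.2
  have hVn : NoetherianSpace T := inferInstance
  have hVc : CompactSpace Tv.left := isCompact_iff_compactSpace.1 (NoetherianSpace.isCompact (V : Set T))
  refine ⟨C₁ ∪ Set.range (φ Tv (mk _ hLi)).left, hC₁.union (isCompact_range (φ Tv (mk _ hLi)).left.continuous), ?_⟩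
  intro Ω _ t ht D' E L hL l hl j hj₁ hj₂
  by_cases h0 : t.appTop.hom a₀ = 0
  · refine (H₁ Ω t ?_ D' E L hL l hl j hj₁ hj₂).trans Set.subset_union_left
    intro c hc
    have h2 : I ⊔ Ideal.span {a₀} ≤ RingHom.ker t.appTop.hom := by
      refine sup_le ht ?_
      rw [Ideal.span_le, Set.singleton_subset_iff]
      exact h0
    exact h2 hc
  refine Set.Subset.trans ?_ Set.subset_union_right
  obtain ⟨t₁, ht₁⟩ := exists_cl_lift I t ht
  obtain ⟨F, hF⟩ := Dat.Map.factor ht₁ E E₁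
  have h1 : t₁.appTop.hom a ≠ 0 := by
    rw [← ha₀, ← CommRingCat.comp_apply, ← Scheme.Hom.comp_appTop]
    change (t₁ ≫ cl I).appTop.hom a₀ ≠ 0
    rw [ht₁]
    exact h0
  have hunit : IsUnit (t₁.appTop.hom a) := by
    have h2 : IsUnit ((Scheme.ΓSpecIso (CommRingCat.of Ω)).hom.hom (t₁.appTop.hom a)) := by
      refine IsUnit.mk0 (G₀ := Ω) _ fun h3 => h1 ?_
      have h4 := congrArg (Scheme.ΓSpecIso (CommRingCat.of Ω)).inv.hom h3
      rw [← CommRingCat.comp_apply, Iso.hom_inv_id] at h4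
      exact h4.trans (map_zero _)
    have h3 := h2.map (Scheme.ΓSpecIso (CommRingCat.of Ω)).inv.hom
    rwa [← CommRingCat.comp_apply, Iso.hom_inv_id] at h3
  obtain ⟨e⟩ := Hgen F hunit hl
  have hpt : t₁ (IsLocalRing.closedPoint Ω) ∈ T.basicOpen a := by
    have h3 : t₁ ⁻¹ᵁ T.basicOpen a = ⊤ := by
      rw [Scheme.preimage_basicOpen_top]
      exact Scheme.basicOpen_of_isUnit _ hunit
    have h4 : IsLocalRing.closedPoint Ω ∈ t₁ ⁻¹ᵁ T.basicOpen a := by
      rw [h3]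
      trivial
    exact h4
  have hbase : t₁ (IsLocalRing.closedPoint Ω) ∈ base K D₁.μ hcl := by
    refine mem_base_of_geom D₁.μ hcl K hK Ω t₁ F.HY (fun y hy => hfl y ?_)
      (Groth.Agent.Pic13.H138.AlgEquiv.isInvertible_of_iso e hL)
    rw [hy]
    exact hpt
  obtain ⟨t₂, ht₂⟩ := exists_lift_of_mem_open V.ι t₁ (by
    rw [Scheme.Opens.range_ι]
    exact ⟨hpt, hbase⟩)
  let g : Over.mk (t ≫ b) ⟶ Tv := Over.homMk t₂ (by
    change t₂ ≫ V.ι ≫ τ ≫ b = t ≫ b
    rw [← Category.assoc, ht₂, ← Category.assoc]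
    change (t₁ ≫ cl I) ≫ b = _
    rw [ht₁])
  have hmap : j ≫ F.g = PicF.XTmap gS g ≫ u := by
    have x1 : PicF.XTmap gS g ≫ pullback.fst gS Tv.hom = pullback.fst gS (Over.mk (t ≫ b)).hom :=
      (pullback.lift_fst _ _ _).trans (Category.comp_id _)
    have x2 : PicF.XTmap gS g ≫ pullback.snd gS Tv.hom = pullback.snd gS (Over.mk (t ≫ b)).hom ≫ t₂ :=
      pullback.lift_snd _ _ _
    apply hv₁.hom_ext
    · rw [Category.assoc, Category.assoc, u1, x1, ← Category.assoc F.g, hF, hj₁]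
    · rw [Category.assoc, Category.assoc, u2, F.HY.w, ← Category.assoc, hj₂, ← Category.assoc, x2, Category.assoc,
        ht₂]
  have hcls : pull j (mk L hL) = pu gS g (mk _ hLi) := by
    rw [pull_mk, pull_mk]
    refine mk_congr ?_
    exact (Scheme.Modules.pullback j).mapIso e ≪≫ (Scheme.Modules.pullbackComp j F.g).app K ≪≫
      (Scheme.Modules.pullbackCongr hmap).app K ≪≫ ((Scheme.Modules.pullbackComp (PicF.XTmap gS g) u).app K).symm
  rw [hcls, hφ.nat, Over.comp_left, Scheme.Hom.comp_base]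
  rintro _ ⟨z, rfl⟩
  exact ⟨g.left z, rfl⟩

theorem bd_all (hφ : RepPic gS P φ) {B : Scheme.{u}} [IsAffine B] [IsNoetherian B] (b : B ⟶ S) (D : Dat B)
    (v : D.Y ⟶ YS) (hv : IsPullback v D.μ gS b) [IsProper D.μ] [IsProper D.f] [IsProper D.f₂] (hM : Coh.IsCoh D.M)
    (hN : Coh.IsCoh D.N) (I : Ideal Γ(B, ⊤)) : Bd φ b D v I := by
  have hR : IsNoetherianRing Γ(B, ⊤) := IsLocallyNoetherian.component_noetherian ⟨⊤, isAffineOpen_top B⟩
  refine IsNoetherian.induction (R := Γ(B, ⊤)) (M := Γ(B, ⊤)) (P := fun I => Bd φ b D v I) (fun I ih => ?_) I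
  by_cases hI : Ideal.IsPrime I
  · exact bd_prime hφ b D v hv hM hN I hI ih
  by_cases htop : I = ⊤
  · refine ⟨∅, isCompact_empty, fun Ω _ t ht => ?_⟩
    exfalso
    have h1 := ht 1 (htop ▸ Submodule.mem_top)
    rw [map_one] at h1
    have h2 := congrArg (Scheme.ΓSpecIso (CommRingCat.of Ω)).hom.hom h1
    rw [map_one, map_zero] at h2
    exact one_ne_zero (α := Ω) h2
  rw [Ideal.isPrime_iff] at hI
  push Not at hI
  obtain ⟨x, y, hxy, hx, hy⟩ := hI htop
  obtain ⟨C₁, hC₁, H₁⟩ := ih (I ⊔ Ideal.span {x}) (by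
    refine lt_of_le_of_ne le_sup_left fun h => hx ?_
    rw [h]
    exact Ideal.mem_sup_right (Ideal.subset_span rfl))
  obtain ⟨C₂, hC₂, H₂⟩ := ih (I ⊔ Ideal.span {y}) (by
    refine lt_of_le_of_ne le_sup_left fun h => hy ?_
    rw [h]
    exact Ideal.mem_sup_right (Ideal.subset_span rfl))
  refine ⟨C₁ ∪ C₂, hC₁.union hC₂, fun Ω _ t ht D' E L hL l hl j hj₁ hj₂ => ?_⟩
  have key : ∀ z, t.appTop.hom z = 0 → ∀ a ∈ I ⊔ Ideal.span {z}, t.appTop.hom a = 0 := by
    intro z hz a ha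
    have h2 : I ⊔ Ideal.span {z} ≤ RingHom.ker t.appTop.hom := by
      refine sup_le ht ?_
      rw [Ideal.span_le, Set.singleton_subset_iff]
      exact hz
    exact h2 ha
  have h3 : (Scheme.ΓSpecIso (CommRingCat.of Ω)).hom.hom (t.appTop.hom x) *
      (Scheme.ΓSpecIso (CommRingCat.of Ω)).hom.hom (t.appTop.hom y) = 0 := by
    rw [← map_mul, ← map_mul, ht _ hxy, map_zero]
  have key' : ∀ z, (Scheme.ΓSpecIso (CommRingCat.of Ω)).hom.hom (t.appTop.hom z) = 0 → t.appTop.hom z = 0 := by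
    intro z hz
    have h4 := congrArg (Scheme.ΓSpecIso (CommRingCat.of Ω)).inv.hom hz
    rw [← CommRingCat.comp_apply, Iso.hom_inv_id] at h4
    exact h4.trans (map_zero _)
  rcases mul_eq_zero (M₀ := Ω).1 h3 with h | h
  · exact (H₁ Ω t (key x (key' x h)) D' E L hL l hl j hj₁ hj₂).trans Set.subset_union_left
  · exact (H₂ Ω t (key y (key' y h)) D' E L hL l hl j hj₁ hj₂).trans Set.subset_union_right

end bdd

end K243.QcBdd
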