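import Groth.Agent.S5663
import Mathlib.Algebra.Category.Ring.Constructions

/-!
# Iterated equalizers of `B ⇉ B ⊗_A B`

* `Len A n B`: after `n` steps the iterated equalizer is `A`; `Len.succ`, `exists_len`;
* `isPushout_iff`: the equalizer in terms of a pushout square.
-/

set_option autoImplicit false
universe u

open CategoryTheory CategoryTheory.Limits TensorProduct

namespace K243.QcLen

/-- After `n` steps the iterated equalizer is `A`. -/
def Len (A : Type u) [CommRing A] : ℕ → ∀ (B : Type u) [CommRing B] [Algebra A B], Prop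
  | 0, B, _, _ => Function.Surjective (algebraMap A B)
  | n + 1, B, _, _ => ∀ (C : Type u) [CommRing C] [Algebra A C] (j : C →ₐ[A] B), Function.Injective j →
      (∀ b : B, b ⊗ₜ[A] (1 : B) = (1 : B) ⊗ₜ[A] b ↔ ∃ c, j c = b) → Len A n C

theorem Len.succ {A : Type u} [CommRing A] (n : ℕ) : ∀ {B : Type u} [CommRing B] [Algebra A B], Len A n B →
    Len A (n + 1) B := by
  induction n with
  | zero =>
    intro B _ _ h C _ _ j hj _ c
    obtain ⟨a, ha⟩ := h (j c)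
    refine ⟨a, hj ?_⟩
    rw [j.commutes, ha]
  | succ n ih =>
    intro B _ _ h C _ _ j hj hr
    exact ih (h C j hj hr)

theorem Len.mono {A : Type u} [CommRing A] {m n : ℕ} (hmn : m ≤ n) {B : Type u} [CommRing B] [Algebra A B]
    (h : Len A m B) : Len A n B := by
  induction hmn with
  | refl => exact h
  | step _ ih => exact ih.succ

section chain

variable {A B : Type u} [CommRing A] [CommRing B] [Algebra A B]

/-- The next subalgebra. -/
def next (C : Subalgebra A B) : Subalgebra A B where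
  carrier := {b | ∃ hb : b ∈ C, ((⟨b, hb⟩ : C) ⊗ₜ[A] (1 : C) : C ⊗[A] C) = (1 : C) ⊗ₜ[A] (⟨b, hb⟩ : C)}
  mul_mem' := by
    rintro a b ⟨ha, ha'⟩ ⟨hb, hb'⟩
    refine ⟨C.mul_mem ha hb, ?_⟩
    have h1 : ((⟨a * b, C.mul_mem ha hb⟩ : C) ⊗ₜ[A] (1 : C) : C ⊗[A] C) =
        ((⟨a, ha⟩ : C) ⊗ₜ[A] (1 : C)) * ((⟨b, hb⟩ : C) ⊗ₜ[A] (1 : C)) := by
      rw [Algebra.TensorProduct.tmul_mul_tmul, mul_one]
      rfl
    have h2 : ((1 : C) ⊗ₜ[A] (⟨a * b, C.mul_mem ha hb⟩ : C) : C ⊗[A] C) =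
        ((1 : C) ⊗ₜ[A] (⟨a, ha⟩ : C)) * ((1 : C) ⊗ₜ[A] (⟨b, hb⟩ : C)) := by
      rw [Algebra.TensorProduct.tmul_mul_tmul, mul_one]
      rfl
    rw [h1, h2, ha', hb']
  add_mem' := by
    rintro a b ⟨ha, ha'⟩ ⟨hb, hb'⟩
    refine ⟨C.add_mem ha hb, ?_⟩
    have h1 : ((⟨a + b, C.add_mem ha hb⟩ : C) ⊗ₜ[A] (1 : C) : C ⊗[A] C) =
        ((⟨a, ha⟩ : C) ⊗ₜ[A] (1 : C)) + ((⟨b, hb⟩ : C) ⊗ₜ[A] (1 : C)) := by
      rw [← TensorProduct.add_tmul]
      rfl
    have h2 : ((1 : C) ⊗ₜ[A] (⟨a + b, C.add_mem ha hb⟩ : C) : C ⊗[A] C) =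
        ((1 : C) ⊗ₜ[A] (⟨a, ha⟩ : C)) + ((1 : C) ⊗ₜ[A] (⟨b, hb⟩ : C)) := by
      rw [← TensorProduct.tmul_add]
      rfl
    rw [h1, h2, ha', hb']
  algebraMap_mem' a := by
    refine ⟨C.algebraMap_mem a, ?_⟩
    have h : (⟨algebraMap A B a, C.algebraMap_mem a⟩ : C) = a • (1 : C) := by
      apply Subtype.ext
      change algebraMap A B a = a • (1 : B)
      rw [Algebra.smul_def, mul_one]
    rw [h, TensorProduct.smul_tmul]

theorem mem_next (C : Subalgebra A B) (b : B) : b ∈ next C ↔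
    ∃ hb : b ∈ C, ((⟨b, hb⟩ : C) ⊗ₜ[A] (1 : C) : C ⊗[A] C) = (1 : C) ⊗ₜ[A] (⟨b, hb⟩ : C) := Iff.rfl

/-- The sequence. -/
def seq : ℕ → Subalgebra A B
  | 0 => ⊤
  | n + 1 => next (seq n)

theorem len_of_seq (k : ℕ) : ∀ (i : ℕ), (seq (i + k) : Subalgebra A B) = ⊥ → ∀ (D : Type u) [CommRing D] [Algebra A D]
    (j : D →ₐ[A] B), Function.Injective j → (∀ b, b ∈ (seq i : Subalgebra A B) ↔ ∃ d, j d = b) → Len A k D := by
  induction k with
  | zero =>
    intro i hi D _ _ j hj hr d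
    have h1 : j d ∈ (seq i : Subalgebra A B) := (hr _).2 ⟨d, rfl⟩
    rw [show i = i + 0 from rfl, hi, Algebra.mem_bot] at h1
    obtain ⟨a, ha⟩ := h1
    refine ⟨a, hj ?_⟩
    rw [j.commutes, ha]
  | succ k ih =>
    intro i hi D _ _ j hj hr C _ _ j' hj' hr'
    refine ih (i + 1) (by rw [← hi]; congr 1; omega) C (j.comp j') (hj.comp hj') fun b => ?_
    change b ∈ next (seq i) ↔ _
    rw [mem_next]
    -- the isomorphism `D ≃ seq i`
    let e : D →ₐ[A] (seq i : Subalgebra A B) := j.codRestrict (seq i) fun d => (hr _).2 ⟨d, rfl⟩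
    have he : Function.Bijective e := by
      constructor
      · intro x y hxy
        exact hj (congrArg Subtype.val hxy)
      · rintro ⟨b, hb⟩
        obtain ⟨d, hd⟩ := (hr b).1 hb
        exact ⟨d, Subtype.ext hd⟩
    let E : D ≃ₐ[A] (seq i : Subalgebra A B) := AlgEquiv.ofBijective e he
    have key : ∀ d : D, d ⊗ₜ[A] (1 : D) = (1 : D) ⊗ₜ[A] d ↔
        ((E d) ⊗ₜ[A] (1 : (seq i : Subalgebra A B)) : (seq i : Subalgebra A B) ⊗[A] (seq i : Subalgebra A B)) =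
          (1 : (seq i : Subalgebra A B)) ⊗ₜ[A] (E d) := by
      intro d
      rw [← (Algebra.TensorProduct.congr E E).injective.eq_iff]
      have e1 : ∀ x y : D, Algebra.TensorProduct.congr E E (x ⊗ₜ[A] y) = E x ⊗ₜ[A] E y := fun x y =>
        Algebra.TensorProduct.map_tmul _ _ _ _
      rw [e1, e1, map_one]
    constructor
    · rintro ⟨hb, hb'⟩
      obtain ⟨d, hd⟩ := (hr b).1 hb
      have h1 : E d = ⟨b, hb⟩ := Subtype.ext hd
      rw [← h1] at hb'
      obtain ⟨c, hc⟩ := (hr' d).1 ((key d).2 hb')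
      exact ⟨c, by rw [AlgHom.comp_apply, hc, hd]⟩
    · rintro ⟨c, rfl⟩
      refine ⟨(hr _).2 ⟨j' c, rfl⟩, ?_⟩
      exact (key (j' c)).1 ((hr' (j' c)).2 ⟨c, rfl⟩)

variable (A B) in
theorem exists_len [IsNoetherianRing A] [Module.Finite A B] (hinj : Function.Injective (algebraMap A B)) :
    ∃ n, Len A n B := by
  obtain ⟨m, hm⟩ := Groth.Agent.S5663.result A B hinj (seq : ℕ → Subalgebra A B) rfl fun i b => Iff.rfl
  exact ⟨m, len_of_seq m 0 (by rw [Nat.zero_add]; exact hm) B (AlgHom.id A B) Function.injective_id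
    fun b => ⟨fun _ => ⟨b, rfl⟩, fun _ => Algebra.mem_top⟩⟩

end chain

/-- The equalizer in terms of a pushout square. -/
theorem isPushout_iff {A B D : CommRingCat.{u}} {φ : A ⟶ B} {a b : B ⟶ D} (h : IsPushout φ φ a b) :
    let _ := φ.hom.toAlgebra
    ∀ s : B, a.hom s = b.hom s ↔ s ⊗ₜ[A] (1 : B) = (1 : B) ⊗ₜ[A] s := by
  intro _ s
  have h' : IsPushout φ φ (CommRingCat.ofHom (Algebra.TensorProduct.includeLeftRingHom (R := A) (A := B) (B := B)))
    (CommRingCat.ofHom (Algebra.TensorProduct.includeRight (R := A) (A := B) (B := B)).toRingHom) :=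
    CommRingCat.isPushout_tensorProduct A B B
  let e := h'.isoIsPushout _ _ h
  have e1 : CommRingCat.ofHom (Algebra.TensorProduct.includeLeftRingHom (R := A) (A := B) (B := B)) ≫ e.hom = a :=
    h'.inl_isoIsPushout_hom _ _ h
  have e2 : CommRingCat.ofHom (Algebra.TensorProduct.includeRight (R := A) (A := B) (B := B)).toRingHom ≫ e.hom = b :=
    h'.inr_isoIsPushout_hom _ _ h
  have hinj : Function.Injective e.hom.hom := (ConcreteCategory.bijective_of_isIso e.hom).1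
  rw [← e1, ← e2]
  exact hinj.eq_iff

end K243.QcLen
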