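import Groth.Agent.Pic13.K243.QcSpec
import Groth.Agent.Pic13.K243.QcLen

/-!
# The first step of the chain: `X ⟶ Spec (ker (f_* O_X ⇉ f₂_* O_{X ×_Y X})) ⟶ Y`

-/

set_option autoImplicit false
universe u

open CategoryTheory CategoryTheory.Limits AlgebraicGeometry Opposite TopologicalSpace

namespace K243.QcChain

open K243.QcSpec K243.QcEx K243.QcRes K243.QcStep K243.QcLen TensorProduct

variable {X Y : Scheme.{u}}

/-- **The step.** -/
theorem exists_step [IsLocallyNoetherian Y] (f : X ⟶ Y) [IsProper f] :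
    ∃ (Y' : Scheme.{u}) (q : X ⟶ Y') (r : Y' ⟶ Y) (e : q ≫ r = f) (_ : IsFinite r) (_ : IsProper q)
      (w : pullback.snd f f ≫ q = pullback.fst f f ≫ q), Ex (f₂ := pullback.fst f f ≫ q) rfl w ∧
      (∀ U : Y.Opens, Function.Injective (q.appLE (r ⁻¹ᵁ U) (f ⁻¹ᵁ U) (le_w e U)).hom) ∧
      ∀ (U : Y.Opens) (s : Γ(X, f ⁻¹ᵁ U)),
        pl (f₂ := pullback.fst f f ≫ f) rfl U s = pl (f₂ := pullback.fst f f ≫ f) pullback.condition.symm U s ↔
        ∃ t, (q.appLE (r ⁻¹ᵁ U) (f ⁻¹ᵁ U) (le_w e U)).hom t = s := by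
  obtain ⟨Y', q, r, e, hr, hpq, hinj, hex⟩ := exists_fac (f := f) (f₂ := pullback.fst f f ≫ f)
    (p₁ := pullback.fst f f) (p₂ := pullback.snd f f) rfl pullback.condition.symm
  have hfin : IsFinite r := by
    refine ⟨fun U hU => ?_⟩
    have hNr : IsNoetherianRing Γ(Y, U) := IsLocallyNoetherian.component_noetherian ⟨U, hU⟩
    refine finite_of_inj (r.app U).hom (q.appLE (r ⁻¹ᵁ U) (f ⁻¹ᵁ U) (le_w e U)).hom (hinj U) ?_
    have h1 := finite_app f hU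
    have h2 : (q.appLE (r ⁻¹ᵁ U) (f ⁻¹ᵁ U) (le_w e U)).hom.comp (r.app U).hom = (f.app U).hom := by
      subst e
      rw [← CommRingCat.hom_comp]
      congr 1
      rw [Scheme.Hom.comp_app]
      change _ ≫ q.appLE (r ⁻¹ᵁ U) (q ⁻¹ᵁ (r ⁻¹ᵁ U)) le_rfl = _
      rw [Scheme.Hom.appLE_eq_app]
    rw [h2]
    exact h1
  have hq : IsProper q := by
    have : IsProper (q ≫ r) := by rw [e]; infer_instance
    exact IsProper.of_comp q r
  exact ⟨Y', q, r, e, hfin, hq, hpq.symm, ex_fac e rfl hpq.symm rfl pullback.condition.symm hinj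
    fun U s hs => (hex U s).1 hs, hinj, hex⟩

theorem app_comp {Y' : Scheme.{u}} {f : X ⟶ Y} {q : X ⟶ Y'} {r : Y' ⟶ Y} (e : q ≫ r = f) (U : Y.Opens) :
    (q.appLE (r ⁻¹ᵁ U) (f ⁻¹ᵁ U) (le_w e U)).hom.comp (r.app U).hom = (f.app U).hom := by
  subst e
  rw [← CommRingCat.hom_comp]
  congr 1
  rw [Scheme.Hom.comp_app]
  change _ ≫ q.appLE (r ⁻¹ᵁ U) (q ⁻¹ᵁ (r ⁻¹ᵁ U)) le_rfl = _
  rw [Scheme.Hom.appLE_eq_app]

/-- Sections on the fibre product. -/
theorem pl_iff (r : X ⟶ Y) [IsAffineHom r] {U : Y.Opens} (hU : IsAffineOpen U) (s : Γ(X, r ⁻¹ᵁ U)) :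
    let _ := (r.app U).hom.toAlgebra
    pl (f₂ := pullback.fst r r ≫ r) rfl U s = pl (f₂ := pullback.fst r r ≫ r) pullback.condition.symm U s ↔
      s ⊗ₜ[Γ(Y, U)] (1 : Γ(X, r ⁻¹ᵁ U)) = (1 : Γ(X, r ⁻¹ᵁ U)) ⊗ₜ[Γ(Y, U)] s := by
  have H := IsPullback.of_hasPullback r r
  have hUY : (pullback.fst r r ≫ r) ⁻¹ᵁ U = pullback.fst r r ⁻¹ᵁ (r ⁻¹ᵁ U) ⊓ pullback.snd r r ⁻¹ᵁ (r ⁻¹ᵁ U) := by
    have h1 : pullback.snd r r ⁻¹ᵁ (r ⁻¹ᵁ U) = pullback.fst r r ⁻¹ᵁ (r ⁻¹ᵁ U) := by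
      rw [← Scheme.Hom.comp_preimage, ← Scheme.Hom.comp_preimage, pullback.condition]
    rw [h1, inf_idem, Scheme.Hom.comp_preimage]
  have h1 := (isIso_pushoutSection_iff H (le_refl (r ⁻¹ᵁ U)) (le_refl (r ⁻¹ᵁ U)) hUY).1
    (isIso_pushoutSection_of_isAffineOpen H _ _ hUY hU (hU.preimage r) (hU.preimage r))
  rw [Scheme.Hom.appLE_eq_app] at h1
  exact isPushout_iff h1 s

theorem isIso_of_bijective (r : X ⟶ Y) [IsAffineHom r] {ι : Type*} (U : ι → Y.Opens)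
    (hU : ∀ i, IsAffineOpen (U i)) (hcov : ⨆ i, U i = ⊤) (h : ∀ i, Function.Bijective (r.app (U i)).hom) :
    IsIso r := by
  rw [← MorphismProperty.isomorphisms.iff, HasAffineProperty.iff_of_iSup_eq_top
    (P := MorphismProperty.isomorphisms Scheme) (fun i => (⟨U i, hU i⟩ : Y.affineOpens)) hcov]
  intro i
  refine ⟨(hU i).preimage r, ?_⟩
  have h4 : ∀ (W : Y.Opens) (_ : W = U i), IsIso (r.app W) := by
    rintro _ rfl
    exact (ConcreteCategory.isIso_iff_bijective _).2 (h i)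
  have h5 := h4 ((U i).ι ''ᵁ ⊤) (by simp)
  have h3 := morphismRestrict_appTop r (U i)
  change IsIso (r ∣_ U i).appTop
  have h6 : Function.Bijective (X.presheaf.map (eqToHom (image_morphismRestrict_preimage r (U i) ⊤)).op).hom :=
    ConcreteCategory.bijective_of_isIso _
  rw [ConcreteCategory.isIso_iff_bijective, h3]
  exact h6.comp ((ConcreteCategory.isIso_iff_bijective _).1 h5)

/-- **The chain.** -/
theorem genQc_of_len {S : Scheme.{u}} [IsAffine S] [IsNoetherian S] [IsIntegral S] (g : Y ⟶ S) [IsProper g]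
    {ι : Type*} (U : ι → Y.Opens) (hU : ∀ i, IsAffineOpen (U i)) (hcov : ⨆ i, U i = ⊤) (n : ℕ) :
    ∀ {Y' : Scheme.{u}} (r : Y' ⟶ Y) [IsFinite r], (∀ i, Function.Injective (r.app (U i)).hom) →
      (∀ i, @Len Γ(Y, U i) _ n Γ(Y', r ⁻¹ᵁ U i) _ (r.app (U i)).hom.toAlgebra) → GenQc r g := by
  have hNY : IsLocallyNoetherian Y := LocallyOfFiniteType.isLocallyNoetherian g
  induction n with
  | zero =>
    intro Y' r _ hinj hlen
    have := isIso_of_bijective r U hU hcov fun i => ⟨hinj i, hlen i⟩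
    exact genQc_of_isIso r g
  | succ n ih =>
    intro Y' r _ hinj hlen
    obtain ⟨Y'', q, r', e, hr', hq, w, hEx, hqi, hqe⟩ := exists_step r
    have hinj' : ∀ i, Function.Injective (r'.app (U i)).hom := by
      intro i
      have h1 := app_comp e (U i)
      have h2 := hinj i
      rw [← h1, RingHom.coe_comp] at h2
      exact Function.Injective.of_comp h2
    have h1 := ih r' hinj' fun i => by
      let _ := (r.app (U i)).hom.toAlgebra
      let _ := (r'.app (U i)).hom.toAlgebra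
      let j : Γ(Y'', r' ⁻¹ᵁ U i) →ₐ[Γ(Y, U i)] Γ(Y', r ⁻¹ᵁ U i) :=
        { (q.appLE (r' ⁻¹ᵁ U i) (r ⁻¹ᵁ U i) (le_w e (U i))).hom with
          commutes' := fun a => congr($(app_comp e (U i)) a) }
      refine hlen i Γ(Y'', r' ⁻¹ᵁ U i) j (hqi (U i)) fun b => ?_
      exact (pl_iff r (hU i) b).symm.trans (hqe (U i) b)
    have h2 : GenQc q (r' ≫ g) := genQc_of_ex (r' ≫ g) q hEx
    rw [← e]
    exact genQc_comp q r' g h1 h2

end K243.QcChain
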