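import Groth.Agent.Pic13.K243.QcEx

/-!
# Families of pairs `X₂ ⇉ X → Y` with modules, and base change

* `Dat B`: schemes `Z ⇉ X → Y` over `B`, modules `M` on `X`, `N` on `Z` and two maps between them;
* `Dat.Map`: base change; `Dat.exists_map`, `Dat.Map.factor`;
* `Dat.exists_gen`: over a nonempty open of an integral base the kernel commutes with base change.
-/

set_option autoImplicit false
universe u

open CategoryTheory CategoryTheory.Limits AlgebraicGeometry Opposite TopologicalSpace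

namespace K243.QcDat

open Groth.Agent.CohqA.PullbackUniv Groth.Agent.CohqA.PullbackSections Groth.Agent.CohqA.PullbackAffine
  Groth.Agent.CohqA.AffineBaseChange Groth.Agent.Pic13.H504 K243.QcArr K243.QcKer K243.QcGen

/-- Schemes `Z ⇉ X → Y` over `B` with modules. -/
structure Dat (B : Scheme.{u}) where
  /-- the scheme `Y` -/
  Y : Scheme.{u}
  /-- the scheme `X` -/
  X : Scheme.{u}
  /-- the scheme `Z` -/
  Z : Scheme.{u}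
  /-- the morphism to the base -/
  μ : Y ⟶ B
  /-- the morphism `f` -/
  f : X ⟶ Y
  /-- the morphism `f₂` -/
  f₂ : Z ⟶ Y
  /-- the module on `X` -/
  M : X.Modules
  /-- the module on `Z` -/
  N : Z.Modules
  /-- the first map -/
  a₁ : (⟨Z, N⟩ : Pr.{u}) ⟶ ⟨X, M⟩
  /-- the second map -/
  a₂ : (⟨Z, N⟩ : Pr.{u}) ⟶ ⟨X, M⟩
  w₁ : Arr.base a₁ ≫ f = f₂
  w₂ : Arr.base a₂ ≫ f = f₂

namespace Dat

/-- `l` is a kernel of `f_* M ⇉ f₂_* N`. -/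
def Ker {B : Scheme.{u}} (D : Dat B) {L : D.Y.Modules} (l : L ⟶ (Scheme.Modules.pushforward D.f).obj D.M) : Prop :=
  IsKer l (dl D.f D.f₂ D.a₁ D.a₂ D.w₁ D.w₂)

/-- Base change. -/
structure Map {B' B : Scheme.{u}} (D' : Dat B') (D : Dat B) (τ : B' ⟶ B) where
  /-- on `Y` -/
  g : D'.Y ⟶ D.Y
  HY : IsPullback g D'.μ D.μ τ
  /-- on `X` -/
  θ : (⟨D'.X, D'.M⟩ : Pr.{u}) ⟶ ⟨D.X, D.M⟩
  /-- on `Z` -/
  η : (⟨D'.Z, D'.N⟩ : Pr.{u}) ⟶ ⟨D.Z, D.N⟩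
  HX : IsPullback (Arr.base θ) D'.f D.f g
  HZ : IsPullback (Arr.base η) D'.f₂ D.f₂ g
  cθ : Cart θ
  cη : Cart η
  c₁ : η ≫ D.a₁ = D'.a₁ ≫ θ
  c₂ : η ≫ D.a₂ = D'.a₂ ≫ θ

/-- Existence of base changes. -/
theorem exists_map {B' B : Scheme.{u}} (D : Dat B) (τ : B' ⟶ B) : ∃ D' : Dat B', Nonempty (Map D' D τ) := by
  let g := pullback.fst D.μ τ
  let f' := pullback.snd D.f g
  let f₂' := pullback.snd D.f₂ g
  let θ := pb (pullback.fst D.f g) D.M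
  let η := pb (pullback.fst D.f₂ g) D.N
  have e : ∀ (a : (⟨D.Z, D.N⟩ : Pr.{u}) ⟶ ⟨D.X, D.M⟩), Arr.base a ≫ D.f = D.f₂ →
      ∃ a' : (⟨pullback D.f₂ g, (Scheme.Modules.pullback (pullback.fst D.f₂ g)).obj D.N⟩ : Pr.{u}) ⟶
        ⟨pullback D.f g, (Scheme.Modules.pullback (pullback.fst D.f g)).obj D.M⟩,
        Arr.base a' ≫ f' = f₂' ∧ η ≫ a = a' ≫ θ := by
    intro a ha
    have hw : (pullback.fst D.f₂ g ≫ Arr.base a) ≫ D.f = pullback.snd D.f₂ g ≫ g := by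
      rw [Category.assoc, ha, pullback.condition]
    obtain ⟨a', h1, h2⟩ := (cart_pb (pullback.fst D.f g) D.M).exists_lift (η ≫ a)
      (pullback.lift (pullback.fst D.f₂ g ≫ Arr.base a) (pullback.snd D.f₂ g) hw) (by
        rw [base_pb, base_comp, pullback.lift_fst]
        rfl)
    refine ⟨a', ?_, h2.symm⟩
    rw [h1]
    exact pullback.lift_snd _ _ _
  obtain ⟨a₁', h₁, k₁⟩ := e D.a₁ D.w₁
  obtain ⟨a₂', h₂, k₂⟩ := e D.a₂ D.w₂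
  let D' : Dat B' := ⟨pullback D.μ τ, _, _, pullback.snd D.μ τ, f', f₂', _, _, a₁', a₂', h₁, h₂⟩
  exact ⟨D', ⟨⟨g, IsPullback.of_hasPullback _ _, θ, η, IsPullback.of_hasPullback _ _,
    IsPullback.of_hasPullback _ _, cart_pb _ _, cart_pb _ _, k₁, k₂⟩⟩⟩

namespace Map

/-- Factorization of base changes. -/
theorem factor {B'' B' B : Scheme.{u}} {σ : B'' ⟶ B'} {τ : B' ⟶ B} {ρ : B'' ⟶ B} (hρ : σ ≫ τ = ρ) {D'' : Dat B''}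
    {D' : Dat B'} {D : Dat B} (E : Map D'' D ρ) (E' : Map D' D τ) :
    ∃ F : Map D'' D' σ, F.g ≫ E'.g = E.g := by
  have hg : E.g ≫ D.μ = (D''.μ ≫ σ) ≫ τ := by rw [Category.assoc, hρ, E.HY.w]
  let g := E'.HY.lift E.g (D''.μ ≫ σ) hg
  have g1 : g ≫ E'.g = E.g := E'.HY.lift_fst _ _ _
  have g2 : g ≫ D'.μ = D''.μ ≫ σ := E'.HY.lift_snd _ _ _
  have HY : IsPullback g D''.μ D'.μ σ := by
    refine IsPullback.of_right (h₁₂ := E'.g) (v₁₃ := D.μ) (h₂₂ := τ) ?_ g2 E'.HY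
    rw [g1, hρ]
    exact E.HY
  have hx : Arr.base E.θ ≫ D.f = (D''.f ≫ g) ≫ E'.g := by rw [Category.assoc, g1, E.HX.w]
  obtain ⟨θ, hθ, cθ⟩ := E'.cθ.exists_lift E.θ (E'.HX.lift (Arr.base E.θ) (D''.f ≫ g) hx) (E'.HX.lift_fst _ _ _)
  have HX : IsPullback (Arr.base θ) D''.f D'.f g := by
    rw [hθ]
    refine IsPullback.of_right (h₁₂ := Arr.base E'.θ) (v₁₃ := D.f) (h₂₂ := E'.g) ?_ (E'.HX.lift_snd _ _ _) E'.HX
    rw [E'.HX.lift_fst, g1]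
    exact E.HX
  have hz : Arr.base E.η ≫ D.f₂ = (D''.f₂ ≫ g) ≫ E'.g := by rw [Category.assoc, g1, E.HZ.w]
  obtain ⟨η, hη, cη⟩ := E'.cη.exists_lift E.η (E'.HZ.lift (Arr.base E.η) (D''.f₂ ≫ g) hz) (E'.HZ.lift_fst _ _ _)
  have HZ : IsPullback (Arr.base η) D''.f₂ D'.f₂ g := by
    rw [hη]
    refine IsPullback.of_right (h₁₂ := Arr.base E'.η) (v₁₃ := D.f₂) (h₂₂ := E'.g) ?_ (E'.HZ.lift_snd _ _ _) E'.HZ
    rw [E'.HZ.lift_fst, g1]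
    exact E.HZ
  have hc : ∀ {a : (⟨D.Z, D.N⟩ : Pr.{u}) ⟶ ⟨D.X, D.M⟩} {a' : (⟨D'.Z, D'.N⟩ : Pr.{u}) ⟶ ⟨D'.X, D'.M⟩}
      {a'' : (⟨D''.Z, D''.N⟩ : Pr.{u}) ⟶ ⟨D''.X, D''.M⟩}, Arr.base a' ≫ D'.f = D'.f₂ →
      Arr.base a'' ≫ D''.f = D''.f₂ → E.η ≫ a = a'' ≫ E.θ → E'.η ≫ a = a' ≫ E'.θ → η ≫ a' = a'' ≫ θ := by
    intro a a' a'' v' v'' h h'
    have h1 : (η ≫ a') ≫ E'.θ = (a'' ≫ θ) ≫ E'.θ := by
      rw [Category.assoc, ← h', ← Category.assoc, cη, h, Category.assoc, cθ]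
    refine E'.cθ.hom_ext ?_ h1
    have h2 := congrArg Arr.base h1
    simp only [base_comp] at h2 ⊢
    apply E'.HX.hom_ext h2
    rw [Category.assoc, v', HZ.w, Category.assoc, HX.w, ← Category.assoc, v'']
  refine ⟨⟨g, HY, θ, η, HX, HZ, ?_, ?_, hc D'.w₁ D''.w₁ E.c₁ E'.c₁, hc D'.w₂ D''.w₂ E.c₂ E'.c₂⟩, g1⟩
  · rw [← Cart.comp_iff E'.cθ, cθ]
    exact E.cθ
  · rw [← Cart.comp_iff E'.cη, cη]
    exact E.cη

end Map

/-- **Generic base change.** -/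
theorem exists_gen {T : Scheme.{u}} [IsAffine T] [IsIntegral T] [IsLocallyNoetherian T] (D : Dat T) [IsProper D.μ]
    [IsProper D.f] [IsProper D.f₂] (hM : Coh.IsCoh D.M) (hN : Coh.IsCoh D.N) :
    ∃ a : Γ(T, ⊤), a ≠ 0 ∧ ∃ K : D.Y.Modules, Coh.IsCoh K ∧
      (∀ y : D.Y, D.μ.base y ∈ T.basicOpen a → FlatMod.IsFlatOverAt D.μ K y) ∧
      ∀ {T' : Scheme.{u}} [IsAffine T'] {τ : T' ⟶ T} {D' : Dat T'} (E : Map D' D τ) (_ : IsUnit (τ.appTop.hom a))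
        {L' : D'.Y.Modules} {l' : L' ⟶ (Scheme.Modules.pushforward D'.f).obj D'.M} (_ : D'.Ker l'),
        Nonempty (L' ≅ (Scheme.Modules.pullback E.g).obj K) := by
  let l := kernel.ι (dl D.f D.f₂ D.a₁ D.a₂ D.w₁ D.w₂)
  obtain ⟨a, ha, hK, hfl, H⟩ := QcGen.exists_gen D.μ D.f D.f₂ hM hN D.a₁ D.a₂ D.w₁ D.w₂ (isKer_ι _)
  refine ⟨a, ha, _, hK, hfl, fun {T'} _ {τ D'} E hu L' l' hl' => ?_⟩
  have hu' := isUniv_pbUnit E.g (kernel (dl D.f D.f₂ D.a₁ D.a₂ D.w₁ D.w₂))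
  obtain ⟨l₁, hl₁⟩ := (hu' _).2 (l ≫ pushSquare D.f E.g (Arr.base E.θ) D'.f E.HX.w (Arr.map E.θ))
  have h1 := H E.HY E.HX E.HZ E.cθ E.cη D'.w₁ D'.w₂ E.c₁ E.c₂ hu hu' hl₁.symm
  obtain ⟨e, -, -⟩ := IsKer.exists_iso hl' h1
  exact ⟨e⟩

end Dat

end K243.QcDat
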