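import Groth.Agent.Pic13.K243.QcGen
import Groth.Agent.Fdesc.LocGenPullback

/-!
# Exactness of `O_Y → f_* O_X ⇉ f₂_* O_Z`, and twists by invertible modules

* `oA f`: the morphism of pairs `(X, O_X) ⟶ (Y, O_Y)`, cartesian;
* `Ex f f₂ p₁ p₂`: the sequence is exact; `ex_iff` in terms of functions;
* `Ex.isKer`: then `L → f_* f^* L ⇉ f₂_* f₂^* L` is exact for `L` invertible.
-/

set_option autoImplicit false
universe u

open CategoryTheory CategoryTheory.Limits AlgebraicGeometry Opposite TopologicalSpace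

namespace K243.QcEx

open Groth.Agent.CohqA.PullbackUniv Groth.Agent.CohqA.PullbackSections Groth.Agent.CohqA.PullbackAffine
  Groth.Agent.CohqA.AffineBaseChange Groth.Agent.Pic13.H504 K243.QcArr K243.QcKer K243.QcGen
  Groth.Agent.Fdesc.LocGen

/-- Pullback of a generator along a cartesian morphism. -/
theorem isGen_sec {A B : Pr.{u}} {f : A ⟶ B} (hf : Cart f) {U : B.X.Opens} {e : Γ(B.M, U)} (he : IsGen e)
    {W : A.X.Opens} (h : W ≤ (Arr.base f) ⁻¹ᵁ U) : IsGen (Arr.sec f U W h e) := by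
  obtain ⟨ε, hε, -⟩ := (isUniv_pbUnit (Arr.base f) B.M).exists_iso hf
  have h1 : (Arr.map f).app U e = ε.hom.app ((Arr.base f) ⁻¹ᵁ U) (pullSec (Arr.base f) e) := by
    rw [← hε]
    rfl
  have h2 : IsGen (M := A.M) (U := (Arr.base f) ⁻¹ᵁ U) ((Arr.map f).app U e) := by
    rw [h1]
    exact (isGen_app_iff ε.hom _).2 (he.pullSec _)
  exact h2.res h

section structureSheaf

variable {X Y Z : Scheme.{u}}

/-- The morphism `O_Y ⟶ f_* O_X`. -/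
noncomputable def oMap (f : X ⟶ Y) : Coh.structureModule Y ⟶ (Scheme.Modules.pushforward f).obj (Coh.structureModule X) :=
  Groth.Agent.Ega1.SubSheaf.homMk (K := Coh.structureModule Y)
    (G := (Scheme.Modules.pushforward f).obj (Coh.structureModule X))
    (fun U => (f.app U).hom.toAddMonoidHom)
    (fun U V h s => by
      change (f.app V) ((Y.presheaf.map (homOfLE h).op) s) = (X.presheaf.map (homOfLE (f.preimage_mono h)).op) (f.app U s)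
      rw [← CommRingCat.comp_apply, ← CommRingCat.comp_apply, f.naturality]
      rfl)
    (fun U r s => by
      exact map_mul (f.app U).hom r (ofFun.symm s))

/-- The morphism of pairs. -/
noncomputable def oA (f : X ⟶ Y) : (⟨X, Coh.structureModule X⟩ : Pr.{u}) ⟶ ⟨Y, Coh.structureModule Y⟩ :=
  ⟨f, oMap f⟩

@[simp] theorem base_oA (f : X ⟶ Y) : Arr.base (oA f) = f := rfl

theorem oA_sec (f : X ⟶ Y) {U : Y.Opens} {W : X.Opens} (e : W ≤ f ⁻¹ᵁ U) (a : Γ(Y, U)) :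
    Arr.sec (oA f) U W e (ofFun a) = ofFun (f.appLE U W e a) := rfl

theorem oA_comp (f : X ⟶ Y) (g : Y ⟶ Z) : oA f ≫ oA g = oA (f ≫ g) := by
  refine Arr.ext_sec rfl fun U W e e' s => ?_
  have e1 : g ⁻¹ᵁ U ≤ (Arr.base (oA g)) ⁻¹ᵁ U := le_rfl
  have e2 : W ≤ (Arr.base (oA f)) ⁻¹ᵁ (g ⁻¹ᵁ U) := e
  refine (comp_sec (oA f) (oA g) e e1 e2 s).trans ?_
  obtain ⟨a, rfl⟩ := (ofFun (X := Z) (U := U)).surjective s
  refine Eq.trans (congrArg (Arr.sec (oA f) _ W e2) (oA_sec g e1 a)) ?_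
  rw [oA_sec, oA_sec, ← CommRingCat.comp_apply, Scheme.Hom.appLE_comp_appLE]

theorem cart_oA (f : X ⟶ Y) : Cart (oA f) := by
  obtain ⟨φ, hφ⟩ := (isUniv_pbUnit f (Coh.structureModule Y) (Coh.structureModule X)).2 (oMap f)
  dsimp only at hφ
  have h1 : IsGen (pullSec f (one (X := Y) ⊤)) := (isGen_one (X := Y) ⊤).pullSec f
  let s : Coh.structureModule X ⟶ (Scheme.Modules.pullback f).obj (Coh.structureModule Y) :=
    homOf (pullSec f (one (X := Y) ⊤))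
  have hs : IsIso s := by
    rw [isIso_iff_isGen, sec_homOf]
    exact h1.res _
  have h2 : s ≫ φ = 𝟙 _ := by
    apply hom_ext_sec
    rw [sec_comp, sec_homOf]
    have h3 : φ.app ⊤ (pullSec f (one (X := Y) ⊤)) = one (X := X) ⊤ := by
      have h4 := congr(($hφ).app ⊤ (one (X := Y) ⊤))
      refine h4.trans ?_
      exact map_one (f.app ⊤).hom
    have h5 : res ((Scheme.Modules.pullback f).obj (Coh.structureModule Y)) (le_top : (⊤ : X.Opens) ≤ ⊤)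
        (pullSec f (one (X := Y) ⊤)) = pullSec f (one (X := Y) ⊤) := res_refl _ _
    refine (congrArg (φ.app ⊤) h5).trans (h3.trans ?_)
    rfl
  have h6 : IsIso φ := by
    have : φ = inv s := by
      rw [← cancel_epi s, h2, IsIso.hom_inv_id]
    rw [this]
    infer_instance
  have h7 := (isUniv_pbUnit f (Coh.structureModule Y)).comp_iso (asIso φ)
  have h8 : pbUnit f (Coh.structureModule Y) ≫ (Scheme.Modules.pushforward f).map (asIso φ).hom = oMap f := hφ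
  rw [h8] at h7
  exact h7

end structureSheaf

variable {X Y Z : Scheme.{u}} {f : X ⟶ Y} {f₂ : Z ⟶ Y} {p₁ p₂ : Z ⟶ X} (w₁ : p₁ ≫ f = f₂) (w₂ : p₂ ≫ f = f₂)

/-- The sequence `O_Y → f_* O_X ⇉ f₂_* O_Z` is exact. -/
def Ex : Prop := IsKer (oMap f) (dl f f₂ (oA p₁) (oA p₂) w₁ w₂)

theorem le_w {p : Z ⟶ X} (w : p ≫ f = f₂) (V : Y.Opens) : f₂ ⁻¹ᵁ V ≤ p ⁻¹ᵁ (f ⁻¹ᵁ V) := by
  subst w
  exact le_rfl

variable {w₁ w₂}

theorem Ex.injective (h : Ex w₁ w₂) (V : Y.Opens) : Function.Injective (f.app V) := IsKer.injective h V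

theorem Ex.exists_eq (h : Ex w₁ w₂) (V : Y.Opens) (b : Γ(X, f ⁻¹ᵁ V))
    (hb : p₁.appLE (f ⁻¹ᵁ V) (f₂ ⁻¹ᵁ V) (le_w w₁ V) b = p₂.appLE (f ⁻¹ᵁ V) (f₂ ⁻¹ᵁ V) (le_w w₂ V) b) :
    ∃ c, f.app V c = b := by
  refine IsKer.exists_sec h (U := V) (ofFun b) ?_
  refine (dl_app w₁ w₂ V (ofFun b)).trans ?_
  have h1 : Arr.sec (oA p₁) (f ⁻¹ᵁ V) (f₂ ⁻¹ᵁ V) (le_w w₁ V) (ofFun b) =
      Arr.sec (oA p₂) (f ⁻¹ᵁ V) (f₂ ⁻¹ᵁ V) (le_w w₂ V) (ofFun b) := by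
    rw [oA_sec, oA_sec, hb]
  exact sub_eq_zero.2 h1

theorem ex_of (h1 : ∀ V : Y.Opens, Function.Injective (f.app V))
    (h2 : ∀ (V : Y.Opens) (b : Γ(X, f ⁻¹ᵁ V)),
      p₁.appLE (f ⁻¹ᵁ V) (f₂ ⁻¹ᵁ V) (le_w w₁ V) b = p₂.appLE (f ⁻¹ᵁ V) (f₂ ⁻¹ᵁ V) (le_w w₂ V) b →
        ∃ c, f.app V c = b) : Ex w₁ w₂ := by
  refine IsKer.mk' (fun U s => ?_) h1 fun U s hs => ?_
  · refine (dl_app w₁ w₂ U _).trans (sub_eq_zero.2 ?_)
    have e1 : f ⁻¹ᵁ U ≤ (Arr.base (oA f)) ⁻¹ᵁ U := le_rfl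
    have h3 : ∀ (p : Z ⟶ X) (w : p ≫ f = f₂), Arr.sec (oA p) (f ⁻¹ᵁ U) (f₂ ⁻¹ᵁ U) (le_w w U)
        ((oMap f).app U s) = Arr.sec (oA f₂) U (f₂ ⁻¹ᵁ U) le_rfl s := by
      intro p w
      subst w
      have e2 : (p ≫ f) ⁻¹ᵁ U ≤ (Arr.base (oA p ≫ oA f)) ⁻¹ᵁ U := le_rfl
      have h4 := comp_sec (oA p) (oA f) e2 e1 (le_w rfl U) s
      have h5 : Arr.sec (oA f) U (f ⁻¹ᵁ U) e1 s = (oMap f).app U s := Arr.sec_self (oA f) U s
      rw [h5] at h4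
      rw [← h4]
      exact Arr.sec_congr (oA_comp p f) _ _ _ _ s
    rw [h3 p₁ w₁, h3 p₂ w₂]
  · obtain ⟨b, rfl⟩ := (ofFun (X := X) (U := f ⁻¹ᵁ U)).surjective s
    have h3 : Arr.sec (oA p₁) (f ⁻¹ᵁ U) (f₂ ⁻¹ᵁ U) (le_w w₁ U) (ofFun b) =
        Arr.sec (oA p₂) (f ⁻¹ᵁ U) (f₂ ⁻¹ᵁ U) (le_w w₂ U) (ofFun b) :=
      sub_eq_zero.1 ((dl_app w₁ w₂ U (ofFun b)).symm.trans hs)
    obtain ⟨c, hc⟩ := h2 U b h3
    exact ⟨c, hc⟩

end K243.QcEx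

namespace K243.QcEx

open Groth.Agent.CohqA.PullbackUniv Groth.Agent.CohqA.PullbackSections Groth.Agent.CohqA.PullbackAffine
  Groth.Agent.CohqA.AffineBaseChange Groth.Agent.Pic13.H504 K243.QcArr K243.QcKer K243.QcGen
  Groth.Agent.Fdesc.LocGen

section twist

variable {X Y Z : Scheme.{u}} {L : Y.Modules} {M : X.Modules} {N : Z.Modules}
  {lam : (⟨X, M⟩ : Pr.{u}) ⟶ ⟨Y, L⟩} {a₁ a₂ : (⟨Z, N⟩ : Pr.{u}) ⟶ ⟨X, M⟩} {f₂ : Z ⟶ Y}
  {w₁ : Arr.base a₁ ≫ Arr.base lam = f₂} {w₂ : Arr.base a₂ ≫ Arr.base lam = f₂}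

theorem eq_zero_of_gen (h : Ex w₁ w₂) (hlam : Cart lam) {V : Y.Opens} {e : Γ(L, V)} (he : IsGen e) (t : Γ(L, V))
    (ht : (Arr.map lam).app V t = 0) : t = 0 := by
  obtain ⟨b, rfl⟩ := he.exists_eq t
  let e' : Γ(M, (Arr.base lam) ⁻¹ᵁ V) := (Arr.map lam).app V e
  have h1 : IsGen e' := by
    have := isGen_sec hlam he (W := (Arr.base lam) ⁻¹ᵁ V) le_rfl
    rwa [Arr.sec_self] at this
  have h2 : (Arr.base lam).app V b • e' = 0 :=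
    (Scheme.Modules.Hom.app_smul (Arr.map lam) b e).symm.trans ht
  have h3 : (Arr.base lam).app V b = 0 := h1.ext (h2.trans (zero_smul _ _).symm)
  have h4 : b = 0 := h.injective V (h3.trans (map_zero _).symm)
  rw [h4, zero_smul]

theorem exists_of_gen (h : Ex w₁ w₂) (hlam : Cart lam) (ha : Cart a₁) (hc : a₁ ≫ lam = a₂ ≫ lam) {V : Y.Opens}
    {e : Γ(L, V)} (he : IsGen e) (s : Γ(M, (Arr.base lam) ⁻¹ᵁ V))
    (hs : Arr.sec a₁ ((Arr.base lam) ⁻¹ᵁ V) (f₂ ⁻¹ᵁ V) (le_of_w w₁ V) s =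
      Arr.sec a₂ ((Arr.base lam) ⁻¹ᵁ V) (f₂ ⁻¹ᵁ V) (le_of_w w₂ V) s) :
    ∃ t : Γ(L, V), (Arr.map lam).app V t = s := by
  let e' : Γ(M, (Arr.base lam) ⁻¹ᵁ V) := Arr.sec lam V ((Arr.base lam) ⁻¹ᵁ V) le_rfl e
  have he' : IsGen e' := isGen_sec hlam he le_rfl
  obtain ⟨b, rfl⟩ := he'.exists_eq s
  have e3 : f₂ ⁻¹ᵁ V ≤ (Arr.base (a₁ ≫ lam)) ⁻¹ᵁ V := by
    subst w₁
    exact le_rfl
  have e4 : f₂ ⁻¹ᵁ V ≤ (Arr.base (a₂ ≫ lam)) ⁻¹ᵁ V := by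
    subst w₂
    exact le_rfl
  have h1 := comp_sec a₁ lam e3 (le_refl ((Arr.base lam) ⁻¹ᵁ V)) (le_of_w w₁ V) e
  have h2 := comp_sec a₂ lam e4 (le_refl ((Arr.base lam) ⁻¹ᵁ V)) (le_of_w w₂ V) e
  have h3 : Arr.sec (a₁ ≫ lam) V (f₂ ⁻¹ᵁ V) e3 e = Arr.sec (a₂ ≫ lam) V (f₂ ⁻¹ᵁ V) e4 e :=
    Arr.sec_congr hc _ _ _ _ e
  have h4 : IsGen (Arr.sec (a₁ ≫ lam) V (f₂ ⁻¹ᵁ V) e3 e) := isGen_sec (ha.comp hlam) he e3
  have h5 : Arr.sec a₁ _ _ (le_of_w w₁ V) e' = Arr.sec (a₁ ≫ lam) V (f₂ ⁻¹ᵁ V) e3 e := h1.symm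
  have h6 : Arr.sec a₂ _ _ (le_of_w w₂ V) e' = Arr.sec (a₁ ≫ lam) V (f₂ ⁻¹ᵁ V) e3 e := h2.symm.trans h3.symm
  rw [Arr.sec_smul, Arr.sec_smul, h5, h6] at hs
  obtain ⟨c, hc'⟩ := h.exists_eq V b (h4.ext hs)
  refine ⟨c • e, ?_⟩
  have h7 := Arr.sec_smul lam (le_refl ((Arr.base lam) ⁻¹ᵁ V)) c e
  rw [Arr.sec_self] at h7
  refine h7.trans ?_
  have h8 : ((Arr.base lam).appLE V ((Arr.base lam) ⁻¹ᵁ V) le_rfl).hom c = b := by
    rw [Scheme.Hom.appLE_eq_app]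
    exact hc'
  rw [h8]

/-- **Exactness of `L → f_* f^* L ⇉ f₂_* f₂^* L`.** -/
theorem Ex.isKer (h : Ex w₁ w₂) (hL : PicF.IsInvertible L) (hlam : Cart lam) (ha : Cart a₁)
    (hc : a₁ ≫ lam = a₂ ≫ lam) : IsKer (Arr.map lam) (dl (Arr.base lam) f₂ a₁ a₂ w₁ w₂) := by
  rw [isInvertible_iff] at hL
  have hcov : ∀ U : Y.Opens, ∃ (V : U → Y.Opens) (_ : ∀ y, V y ≤ U) (e : ∀ y, Γ(L, V y)), (∀ y, IsGen (e y)) ∧
      U ≤ ⨆ y, V y := by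
    intro U
    choose W e hW he using fun y : U => hL y.1
    refine ⟨fun y => W y ⊓ U, fun y => inf_le_right, fun y => res L inf_le_left (e y),
      fun y => (he y).res inf_le_left, fun y hy => ?_⟩
    exact Opens.mem_iSup.2 ⟨⟨y, hy⟩, hW ⟨y, hy⟩, hy⟩
  have hinj : ∀ U : Y.Opens, ∀ t : Γ(L, U), (Arr.map lam).app U t = 0 → t = 0 := by
    intro U t ht
    obtain ⟨V, hV, e, he, hcU⟩ := hcov U
    refine res_ext L V hV hcU fun y => ?_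
    rw [map_zero]
    refine eq_zero_of_gen h hlam (he y) _ ?_
    refine (Groth.Agent.Fdesc.LocGen.app_res (Arr.map lam) (hV y) t).trans ?_
    rw [ht, map_zero]
  refine IsKer.mk' (fun U s => ?_) (fun U => ?_) fun U s hs => ?_
  · refine (dl_app w₁ w₂ U _).trans (sub_eq_zero.2 ?_)
    have e3 : f₂ ⁻¹ᵁ U ≤ (Arr.base (a₁ ≫ lam)) ⁻¹ᵁ U := by
      subst w₁
      exact le_rfl
    have e4 : f₂ ⁻¹ᵁ U ≤ (Arr.base (a₂ ≫ lam)) ⁻¹ᵁ U := by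
      subst w₂
      exact le_rfl
    have h1 := comp_sec a₁ lam e3 (le_refl ((Arr.base lam) ⁻¹ᵁ U)) (le_of_w w₁ U) s
    have h2 := comp_sec a₂ lam e4 (le_refl ((Arr.base lam) ⁻¹ᵁ U)) (le_of_w w₂ U) s
    rw [Arr.sec_self] at h1 h2
    exact h1.symm.trans ((Arr.sec_congr hc _ _ _ _ s).trans h2)
  · exact (injective_iff_map_eq_zero ((Arr.map lam).app U).hom).2 (hinj U)
  · have hs' : Arr.sec a₁ ((Arr.base lam) ⁻¹ᵁ U) (f₂ ⁻¹ᵁ U) (le_of_w w₁ U) s =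
        Arr.sec a₂ ((Arr.base lam) ⁻¹ᵁ U) (f₂ ⁻¹ᵁ U) (le_of_w w₂ U) s :=
      sub_eq_zero.1 ((dl_app w₁ w₂ U s).symm.trans hs)
    obtain ⟨V, hV, e, he, hcU⟩ := hcov U
    have hle : ∀ y, (Arr.base lam) ⁻¹ᵁ (V y) ≤ (Arr.base lam) ⁻¹ᵁ U := fun y => (Arr.base lam).preimage_mono (hV y)
    have key : ∀ y, ∃ t : Γ(L, V y), (Arr.map lam).app (V y) t = res M (hle y) s := by
      intro y
      refine exists_of_gen h hlam ha hc (he y) _ ?_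
      have h1 := Arr.sec_res a₁ (hle y) (le_of_w w₁ (V y)) s
      have h2 := Arr.sec_res a₂ (hle y) (le_of_w w₂ (V y)) s
      refine h1.trans (Eq.trans ?_ h2.symm)
      have h3 := Arr.res_sec a₁ (le_of_w w₁ U) (f₂.preimage_mono (hV y)) s
      have h4 := Arr.res_sec a₂ (le_of_w w₂ U) (f₂.preimage_mono (hV y)) s
      rw [hs'] at h3
      exact h3.symm.trans h4
    choose t ht using key
    obtain ⟨t₀, ht₀⟩ := res_glue L V hV hcU t fun i j => by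
      rw [← sub_eq_zero]
      refine hinj _ _ ?_
      rw [map_sub]
      have h1 := Groth.Agent.Fdesc.LocGen.app_res (Arr.map lam) (inf_le_left : V i ⊓ V j ≤ V i) (t i)
      have h2 := Groth.Agent.Fdesc.LocGen.app_res (Arr.map lam) (inf_le_right : V i ⊓ V j ≤ V j) (t j)
      rw [h1, h2, ht, ht, sub_eq_zero]
      have h3 := res_res M (hle i) ((Arr.base lam).preimage_mono (inf_le_left : V i ⊓ V j ≤ V i)) s
      have h4 := res_res M (hle j) ((Arr.base lam).preimage_mono (inf_le_right : V i ⊓ V j ≤ V j)) s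
      exact h3.trans h4.symm
    refine ⟨t₀, ?_⟩
    refine res_ext M (V := (Arr.base lam) ⁻¹ᵁ U) (fun y => (Arr.base lam) ⁻¹ᵁ (V y)) hle ?_ fun y => ?_
    · rw [← Scheme.Hom.preimage_iSup]
      exact (Arr.base lam).preimage_mono hcU
    · have h1 := Groth.Agent.Fdesc.LocGen.app_res (Arr.map lam) (hV y) t₀
      rw [ht₀, ht] at h1
      exact h1.symm

end twist

end K243.QcEx
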