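import Groth.Agent.Pic13.K243.QcTw2
import Groth.Agent.Pic13.K243.QcBdd
import Groth.Agent.PicF.K245.IsomRep
import Groth.Agent.FlatB.FppfDom
import Groth.Agent.PerfA.CohSerre

/-!
# Boundedness of the invertible modules on `Y` with given inverse image on `X`

* `exists_compact_fam`: for an invertible module `M` on a family `X` over `W`, the classes of the invertible modules on
  the fibres of `Y` with inverse image a fibre of `M` lie in a compact subset of the Picard scheme.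
-/

set_option autoImplicit false
universe w u

open CategoryTheory CategoryTheory.Limits AlgebraicGeometry Opposite TopologicalSpace

namespace K243.QcFam

open Groth.Agent.CohqA.PullbackUniv Groth.Agent.CohqA.PullbackSections Groth.Agent.CohqA.PullbackAffine
  Groth.Agent.CohqA.AffineBaseChange Groth.Agent.Pic13.H504 K243.QcArr K243.QcKer K243.QcGen K243.QcDat K243.QcEx
  K243.QcTw K243.QcBdd Groth.Agent.Pic13.H508.SqMT
  Groth.Agent.Ega3A.PicDiv Groth.Agent.Ega3A.PicEtSh Groth.Agent.Grpsch.PicGrp Groth.Agent.Ega3A.PicRep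

theorem isCoh_of_isInvertible {X : Scheme.{u}} {M : X.Modules} (h : PicF.IsInvertible M) :
    Coh.IsCoh M :=
  Groth.Agent.PerfA.CohSerre.isCoh_of_isFinLocFree (K275.PushBC.isFinLocFree_of_isInvertible h)

variable {YS S : Scheme.{u}} {gS : YS ⟶ S} {P : Over S} {φ : ∀ T : Over S, Pic (PicF.XT gS T) → (T ⟶ P)}

/-- **Boundedness.** -/
theorem exists_compact_fam (hφ : RepPic gS P φ) {W : Scheme.{u}} [IsAffine W] [IsNoetherian W] (w : W ⟶ S)
    {Y X Z : Scheme.{u}} (μ : Y ⟶ W) (f : X ⟶ Y) (f₂ : Z ⟶ Y) {p₁ p₂ : Z ⟶ X} (w₁ : p₁ ≫ f = f₂) (w₂ : p₂ ≫ f = f₂)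
    (M : X.Modules) (hM : PicF.IsInvertible M) (v : Y ⟶ YS) (hv : IsPullback v μ gS w) [IsProper μ] [IsProper f]
    [IsProper f₂] [Flat (f₂ ≫ μ)]
    (hEx : ∀ (Ω : Type u) [Field Ω] (t : Spec (CommRingCat.of Ω) ⟶ W)
      (k₁ : mT p₁ (w_mu μ f f₂ w₁) (Over.mk t) ≫ mT f rfl (Over.mk t) = mT f₂ rfl (Over.mk t))
      (k₂ : mT p₂ (w_mu μ f f₂ w₂) (Over.mk t) ≫ mT f rfl (Over.mk t) = mT f₂ rfl (Over.mk t)), Ex k₁ k₂) :
    ∃ C : Set P.left, IsCompact C ∧ ∀ (Ω : Type u) [Field Ω] (t : Spec (CommRingCat.of Ω) ⟶ W)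
      (L : (PicF.XT μ (Over.mk t)).Modules) (hL : PicF.IsInvertible L)
      (_ : Nonempty ((Scheme.Modules.pullback (mT f rfl (Over.mk t))).obj L ≅ FGA.ET (f ≫ μ) M (Over.mk t)))
      (s : Spec (CommRingCat.of Ω) ⟶ S) (_ : t ≫ w = s) (j : PicF.XT gS (Over.mk s) ⟶ PicF.XT μ (Over.mk t))
      (_ : j ≫ pullback.fst μ t ≫ v = pullback.fst gS s) (_ : j ≫ pullback.snd μ t = pullback.snd gS s),
      Set.range (φ (Over.mk s) (pull j (mk L hL))).left ⊆ C := by
  have i1 : IsLocallyNoetherian Y := LocallyOfFiniteType.isLocallyNoetherian μ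
  have i2 : IsLocallyNoetherian X := LocallyOfFiniteType.isLocallyNoetherian f
  have i3 : IsLocallyNoetherian Z := LocallyOfFiniteType.isLocallyNoetherian f₂
  have i4 : LocallyOfFinitePresentation (f₂ ≫ μ) :=
    Groth.Agent.FlatB.FppfDom.locallyOfFinitePresentation_of_isLocallyNoetherian (f₂ ≫ μ)
  obtain ⟨I, u, hI1, hI2, hI⟩ := K245.IsomRep.exists_isom_rep (f₂ ≫ μ)
    (Groth.Agent.Fdesc.LocGen.isInvertible_pullback p₂ hM) (Groth.Agent.Fdesc.LocGen.isInvertible_pullback p₁ hM)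
  have j1 : IsAffine I.left := isAffine_of_isAffineHom I.hom
  have j2 : IsLocallyNoetherian I.left := LocallyOfFiniteType.isLocallyNoetherian I.hom
  have j3 : IsNoetherian I.left := {}
  let D := twD μ f f₂ M w₁ w₂ I u
  have q1 : IsProper D.μ := inferInstanceAs (IsProper (pullback.snd μ I.hom))
  have q2 : IsProper D.f := MorphismProperty.of_isPullback (isPullback_mT f rfl I).flip ‹_›
  have q3 : IsProper D.f₂ := MorphismProperty.of_isPullback (isPullback_mT f₂ rfl I).flip ‹_›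
  have q4 : IsLocallyNoetherian D.Y := LocallyOfFiniteType.isLocallyNoetherian D.μ
  have q5 : IsLocallyNoetherian D.X := LocallyOfFiniteType.isLocallyNoetherian D.f
  have q6 : IsLocallyNoetherian D.Z := LocallyOfFiniteType.isLocallyNoetherian D.f₂
  have hv' : IsPullback (pullback.fst μ I.hom ≫ v) D.μ gS (I.hom ≫ w) :=
    ((IsPullback.of_hasPullback μ I.hom).flip.paste_vert hv.flip).flip
  obtain ⟨C, hC, H⟩ := bd_all hφ (I.hom ≫ w) D (pullback.fst μ I.hom ≫ v) hv'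
    (isCoh_of_isInvertible (Groth.Agent.Fdesc.LocGen.isInvertible_pullback _ hM))
    (isCoh_of_isInvertible (Groth.Agent.Fdesc.LocGen.isInvertible_pullback _ (Groth.Agent.Fdesc.LocGen.isInvertible_pullback _ hM))) ⊥
  refine ⟨C, hC, fun Ω _ t L hL ⟨e⟩ s hs j hj₁ hj₂ => ?_⟩
  obtain ⟨vv, l, hlam, hc⟩ := exists_v μ f f₂ M w₁ w₂ (Over.mk t) L e
  obtain ⟨g, hg, -⟩ := hI (Over.mk t) vv
  obtain ⟨E, hE⟩ := map_twD μ f f₂ M w₁ w₂ g u vv hg
  have hker := ker_twD μ f f₂ M w₁ w₂ (Over.mk t) L hL vv l hlam hc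
    ((mT_comp f rfl p₁ (w_mu μ f f₂ w₁) (by rw [w₁]) _).trans (by congr 1))
    ((mT_comp f rfl p₂ (w_mu μ f f₂ w₂) (by rw [w₂]) _).trans (by congr 1)) (hEx Ω t _ _)
  have hgw : g.left ≫ I.hom = t := Over.w g
  have hs' : g.left ≫ I.hom ≫ w = s := by rw [← Category.assoc, hgw, hs]
  subst hs'
  refine H Ω g.left ?_ _ E L hL l hker j ?_ hj₂
  · intro a ha
    rw [Ideal.mem_bot.1 ha, map_zero]
  · have x1 : PicF.XTmap μ g ≫ pullback.fst μ I.hom = pullback.fst μ t := XTmap_fst g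
    refine (congrArg (fun z : PicF.XT μ (Over.mk t) ⟶ PicF.XT μ I => j ≫ z ≫ pullback.fst μ I.hom ≫ v) hE).trans ?_
    rw [← Category.assoc (PicF.XTmap μ g), x1]
    exact hj₁

end K243.QcFam
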