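import Groth.Agent.Pic13.K243.QcChain
import Groth.Agent.Flat2C.GenericReduced

/-!
# Quasi-compactness of `P_Y ⟶ P_X` over a dense open, for every proper surjective `X ⟶ Y`

* `genQc_finite`, `genQc_reduced`, `genQc_affine`, `genQc_of_surjective`.
-/

set_option autoImplicit false
universe u

open CategoryTheory CategoryTheory.Limits AlgebraicGeometry Opposite TopologicalSpace

namespace K243.QcFinal

open K243.QcSpec K243.QcEx K243.QcRes K243.QcStep K243.QcLen K243.QcChain K243.AffRes K243.NilStep K243.NilFinal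

/-- Finite morphisms which are injective on functions. -/
theorem genQc_finite {S Y Y' : Scheme.{u}} [IsAffine S] [IsNoetherian S] [IsIntegral S] (g : Y ⟶ S) [IsProper g]
    (r : Y' ⟶ Y) [IsFinite r] (hinj : ∀ U : Y.Opens, Function.Injective (r.app U).hom) : GenQc r g := by
  have hNY : IsLocallyNoetherian Y := LocallyOfFiniteType.isLocallyNoetherian g
  have hc : CompactSpace Y := QuasiCompact.compactSpace_of_compactSpace g
  let 𝒰 := Y.affineCover.finiteSubcover
  let U : 𝒰.I₀ → Y.Opens := fun i => (𝒰.f i).opensRange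
  have hU : ∀ i, IsAffineOpen (U i) := fun i => isAffineOpen_opensRange _
  have hlen : ∀ i, ∃ n, @Len Γ(Y, U i) _ n Γ(Y', r ⁻¹ᵁ U i) _ (r.app (U i)).hom.toAlgebra := by
    intro i
    have hN : IsNoetherianRing Γ(Y, U i) := IsLocallyNoetherian.component_noetherian ⟨U i, hU i⟩
    let _ := (r.app (U i)).hom.toAlgebra
    have hf : Module.Finite Γ(Y, U i) Γ(Y', r ⁻¹ᵁ U i) := r.finite_app (U i) (hU i)
    exact exists_len Γ(Y, U i) Γ(Y', r ⁻¹ᵁ U i) (hinj (U i))
  choose n hn using hlen
  have : Finite 𝒰.I₀ := inferInstance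
  obtain ⟨N, hN⟩ : ∃ N, ∀ i, n i ≤ N := by
    obtain ⟨N, hN⟩ := (Set.finite_range n).bddAbove
    exact ⟨N, fun i => hN ⟨i, rfl⟩⟩
  exact genQc_of_len g U hU 𝒰.iSup_opensRange N r (fun i => hinj (U i)) fun i => by
    let _ := (r.app (U i)).hom.toAlgebra
    exact Len.mono (hN i) (hn i)

/-- Pulling back functions along a surjective morphism to a reduced scheme. -/
theorem injective_app {X Y : Scheme.{u}} [IsReduced Y] (f : X ⟶ Y) [Surjective f] (U : Y.Opens) :
    Function.Injective (f.app U).hom := by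
  rw [injective_iff_map_eq_zero]
  intro s hs
  apply eq_zero_of_basicOpen_eq_bot
  have h1 : f ⁻¹ᵁ Y.basicOpen s = ⊥ := by
    rw [Scheme.preimage_basicOpen]
    rw [show (f.app U) s = 0 from hs]
    simp
  rw [eq_bot_iff]
  intro y hy
  obtain ⟨x, rfl⟩ := f.surjective y
  have h2 : x ∈ f ⁻¹ᵁ Y.basicOpen s := hy
  rw [h1] at h2
  exact h2.elim

/-- Reduced target. -/
theorem genQc_reduced {S X Y : Scheme.{u}} [IsAffine S] [IsNoetherian S] [IsIntegral S] [IsReduced Y] (f : X ⟶ Y)
    [IsProper f] [Surjective f] (g : Y ⟶ S) [IsProper g] : GenQc f g := by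
  have hNY : IsLocallyNoetherian Y := LocallyOfFiniteType.isLocallyNoetherian g
  obtain ⟨Y', q, r, e, hr, hq, w, hEx, hqi, hqe⟩ := exists_step f
  have hsr : Surjective r := by
    have : Surjective (q ≫ r) := by rw [e]; infer_instance
    exact Surjective.of_comp q r
  have h1 : GenQc r g := genQc_finite g r fun U => injective_app r U
  have h2 : GenQc q (r ≫ g) := genQc_of_ex (r ≫ g) q hEx
  rw [← e]
  exact genQc_comp q r g h1 h2

theorem surjective_nil (X : Scheme.{u}) : Surjective X.nilradical.subschemeι := by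
  rw [surjective_iff, ← Set.range_eq_univ, Scheme.IdealSheafData.range_subschemeι, Scheme.support_nilradical]
  rfl

/-- Affine base. -/
theorem genQc_affine {S X Y : Scheme.{u}} [IsAffine S] [IsNoetherian S] [IsIntegral S] (f : X ⟶ Y)
    [IsProper f] [Surjective f] (g : Y ⟶ S) [IsProper g] : GenQc f g := by
  let i := Y.nilradical.subschemeι
  have hred : IsReduced Y.nilradical.subscheme := Groth.Agent.Flat2C.GenericReduced.isReduced_subscheme_nilradical Y
  have hsi : Surjective i := surjective_nil Y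
  have h1 : GenQc (pullback.snd f i) (i ≫ g) := genQc_reduced _ _
  have h2 : GenQc i g := genQc_of_genAff (genAff_of_surjective' i g)
  have h3 : GenQc (pullback.snd f i ≫ i) g := genQc_comp _ _ _ h2 h1
  rw [← pullback.condition] at h3
  exact genQc_cancel _ _ _ h3

/-- **Quasi-compactness of restriction maps.** -/
theorem genQc_of_surjective {S X Y : Scheme.{u}} [IsNoetherian S] [IsIntegral S] (f : X ⟶ Y)
    [IsProper f] [Surjective f] (g : Y ⟶ S) [IsProper g] : GenQc f g := by
  obtain ⟨U, hU, hne⟩ : ∃ U : S.Opens, IsAffineOpen U ∧ (U : Set S).Nonempty := by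
    obtain ⟨_, ⟨U, hU, rfl⟩, hx, -⟩ := S.isBasis_affineOpens.exists_subset_of_mem_open
      (Set.mem_univ (genericPoint S)) isOpen_univ
    exact ⟨U, hU, ⟨_, hx⟩⟩
  have h1 : IsAffine U.toScheme := hU
  have h2 : Nonempty U := ⟨⟨_, hne.some_mem⟩⟩
  have h3 : IsIntegral U.toScheme := isIntegral_of_isOpenImmersion U.ι
  have h4 : IsNoetherian U.toScheme := {}
  have H := (isPullback_bm f g U.ι).flip
  have c1 : IsProper (bm f g U.ι) := MorphismProperty.of_isPullback H.flip inferInstance
  have c2 : Surjective (bm f g U.ι) := MorphismProperty.of_isPullback H.flip inferInstance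
  exact genQc_shrink f g U H (genQc_affine _ _)

end K243.QcFinal
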