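import Groth.Agent.Pic13.K243.QcKer

/-!
# Generic base change of the kernel of `f_* M ⇉ f₂_* N`

`exists_gen`: `T` affine, integral and Noetherian, `Y` of finite type over `T`, `f : X ⟶ Y` and `f₂ : X₂ ⟶ Y` proper,
`a₁, a₂ : (X₂, N) ⟶ (X, M)`: if `l` is a kernel of `f_* M ⇉ f₂_* N` then so is every base change of `l`, over a nonempty
open of `T`.
-/

set_option autoImplicit false
universe u

open CategoryTheory CategoryTheory.Limits AlgebraicGeometry Opposite TopologicalSpace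

namespace K243.QcGen

open Groth.Agent.CohqA.PullbackUniv Groth.Agent.CohqA.PullbackSections Groth.Agent.CohqA.PullbackAffine
  Groth.Agent.CohqA.AffineBaseChange Groth.Agent.Pic13.H504 K243.QcArr K243.QcKer

variable {X Y Z : Scheme.{u}} {M : X.Modules} {N : Z.Modules}

/-- `f_* M ⟶ f₂_* N`. -/
noncomputable def up (f : X ⟶ Y) (f₂ : Z ⟶ Y) (a : (⟨Z, N⟩ : Pr.{u}) ⟶ ⟨X, M⟩) (w : Arr.base a ≫ f = f₂) :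
    (Scheme.Modules.pushforward f).obj M ⟶ (Scheme.Modules.pushforward f₂).obj N :=
  (Scheme.Modules.pushforward f).map (Arr.map a) ≫
    (Scheme.Modules.pushforwardComp (Arr.base a) f).hom.app N ≫ (Scheme.Modules.pushforwardCongr w).hom.app N

theorem le_of_w {f : X ⟶ Y} {f₂ : Z ⟶ Y} {a : (⟨Z, N⟩ : Pr.{u}) ⟶ ⟨X, M⟩} (w : Arr.base a ≫ f = f₂) (V : Y.Opens) :
    f₂ ⁻¹ᵁ V ≤ (Arr.base a) ⁻¹ᵁ (f ⁻¹ᵁ V) := by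
  subst w
  exact le_rfl

theorem up_app {f : X ⟶ Y} {f₂ : Z ⟶ Y} {a : (⟨Z, N⟩ : Pr.{u}) ⟶ ⟨X, M⟩} (w : Arr.base a ≫ f = f₂) (V : Y.Opens)
    (s : Γ(M, f ⁻¹ᵁ V)) :
    (up f f₂ a w).app V s = Arr.sec a (f ⁻¹ᵁ V) (f₂ ⁻¹ᵁ V) (le_of_w w V) s := by
  subst w
  rfl

theorem up_comm {X' Y' Z' : Scheme.{u}} {M' : X'.Modules} {N' : Z'.Modules} {f : X ⟶ Y} {f₂ : Z ⟶ Y}
    {a : (⟨Z, N⟩ : Pr.{u}) ⟶ ⟨X, M⟩} (w : Arr.base a ≫ f = f₂) {f' : X' ⟶ Y'} {f₂' : Z' ⟶ Y'}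
    {a' : (⟨Z', N'⟩ : Pr.{u}) ⟶ ⟨X', M'⟩} (w' : Arr.base a' ≫ f' = f₂') {g : Y' ⟶ Y}
    {θ : (⟨X', M'⟩ : Pr.{u}) ⟶ ⟨X, M⟩} {η : (⟨Z', N'⟩ : Pr.{u}) ⟶ ⟨Z, N⟩}
    (k : Arr.base θ ≫ f = f' ≫ g) (k₂ : Arr.base η ≫ f₂ = f₂' ≫ g) (c : η ≫ a = a' ≫ θ) :
    up f f₂ a w ≫ pushSquare f₂ g (Arr.base η) f₂' k₂ (Arr.map η) =
      pushSquare f g (Arr.base θ) f' k (Arr.map θ) ≫ (Scheme.Modules.pushforward g).map (up f' f₂' a' w') := by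
  apply Scheme.Modules.hom_ext
  intro V
  ext s
  have e1 : f' ⁻¹ᵁ (g ⁻¹ᵁ V) ≤ (Arr.base θ) ⁻¹ᵁ (f ⁻¹ᵁ V) := preimage_le k V _ le_rfl
  have e2 : f₂' ⁻¹ᵁ (g ⁻¹ᵁ V) ≤ (Arr.base η) ⁻¹ᵁ (f₂ ⁻¹ᵁ V) := preimage_le k₂ V _ le_rfl
  have h1 : ∀ x, (pushSquare f₂ g (Arr.base η) f₂' k₂ (Arr.map η)).app V x =
      Arr.sec η (f₂ ⁻¹ᵁ V) (f₂' ⁻¹ᵁ (g ⁻¹ᵁ V)) e2 x := by
    intro x
    refine Eq.trans ?_ (secMap_pushSquare f₂ g (Arr.base η) f₂' k₂ (Arr.map η) V _ le_rfl e2 x)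
    exact (map_self' _ le_rfl _).symm
  have h2 : ∀ x, (pushSquare f g (Arr.base θ) f' k (Arr.map θ)).app V x =
      Arr.sec θ (f ⁻¹ᵁ V) (f' ⁻¹ᵁ (g ⁻¹ᵁ V)) e1 x := by
    intro x
    refine Eq.trans ?_ (secMap_pushSquare f g (Arr.base θ) f' k (Arr.map θ) V _ le_rfl e1 x)
    exact (map_self' _ le_rfl _).symm
  change (pushSquare f₂ g (Arr.base η) f₂' k₂ (Arr.map η)).app V ((up f f₂ a w).app V s) =
    (up f' f₂' a' w').app (g ⁻¹ᵁ V) ((pushSquare f g (Arr.base θ) f' k (Arr.map θ)).app V s)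
  rw [h1, h2, up_app, up_app]
  have e3 : f₂' ⁻¹ᵁ (g ⁻¹ᵁ V) ≤ (Arr.base (η ≫ a)) ⁻¹ᵁ (f ⁻¹ᵁ V) :=
    e2.trans ((Arr.base η).preimage_mono (le_of_w w V))
  have e4 : f₂' ⁻¹ᵁ (g ⁻¹ᵁ V) ≤ (Arr.base (a' ≫ θ)) ⁻¹ᵁ (f ⁻¹ᵁ V) :=
    (le_of_w w' (g ⁻¹ᵁ V)).trans ((Arr.base a').preimage_mono e1)
  rw [← comp_sec η a e3 (le_of_w w V) e2 s]
  refine (Arr.sec_congr c _ _ e3 e4 s).trans ?_
  exact comp_sec a' θ e4 e1 (le_of_w w' _) s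

/-- The difference of the two maps. -/
noncomputable def dl (f : X ⟶ Y) (f₂ : Z ⟶ Y) (a₁ a₂ : (⟨Z, N⟩ : Pr.{u}) ⟶ ⟨X, M⟩) (w₁ : Arr.base a₁ ≫ f = f₂)
    (w₂ : Arr.base a₂ ≫ f = f₂) :
    (Scheme.Modules.pushforward f).obj M ⟶ (Scheme.Modules.pushforward f₂).obj N :=
  up f f₂ a₁ w₁ - up f f₂ a₂ w₂

theorem dl_app {f : X ⟶ Y} {f₂ : Z ⟶ Y} {a₁ a₂ : (⟨Z, N⟩ : Pr.{u}) ⟶ ⟨X, M⟩} (w₁ : Arr.base a₁ ≫ f = f₂)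
    (w₂ : Arr.base a₂ ≫ f = f₂) (V : Y.Opens) (s : Γ(M, f ⁻¹ᵁ V)) :
    (dl f f₂ a₁ a₂ w₁ w₂).app V s = (show Γ(N, f₂ ⁻¹ᵁ V) from
      Arr.sec a₁ (f ⁻¹ᵁ V) (f₂ ⁻¹ᵁ V) (le_of_w w₁ V) s - Arr.sec a₂ (f ⁻¹ᵁ V) (f₂ ⁻¹ᵁ V) (le_of_w w₂ V) s) := by
  rw [← up_app w₁, ← up_app w₂]
  rfl

theorem dl_comm {X' Y' Z' : Scheme.{u}} {M' : X'.Modules} {N' : Z'.Modules} {f : X ⟶ Y} {f₂ : Z ⟶ Y}
    {a₁ a₂ : (⟨Z, N⟩ : Pr.{u}) ⟶ ⟨X, M⟩} (w₁ : Arr.base a₁ ≫ f = f₂) (w₂ : Arr.base a₂ ≫ f = f₂)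
    {f' : X' ⟶ Y'} {f₂' : Z' ⟶ Y'}
    {a₁' a₂' : (⟨Z', N'⟩ : Pr.{u}) ⟶ ⟨X', M'⟩} (w₁' : Arr.base a₁' ≫ f' = f₂') (w₂' : Arr.base a₂' ≫ f' = f₂')
    {g : Y' ⟶ Y} {θ : (⟨X', M'⟩ : Pr.{u}) ⟶ ⟨X, M⟩} {η : (⟨Z', N'⟩ : Pr.{u}) ⟶ ⟨Z, N⟩}
    (k : Arr.base θ ≫ f = f' ≫ g) (k₂ : Arr.base η ≫ f₂ = f₂' ≫ g) (c₁ : η ≫ a₁ = a₁' ≫ θ)
    (c₂ : η ≫ a₂ = a₂' ≫ θ) :
    dl f f₂ a₁ a₂ w₁ w₂ ≫ pushSquare f₂ g (Arr.base η) f₂' k₂ (Arr.map η) =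
      pushSquare f g (Arr.base θ) f' k (Arr.map θ) ≫
        (Scheme.Modules.pushforward g).map (dl f' f₂' a₁' a₂' w₁' w₂') := by
  have h := Functor.map_sub (Scheme.Modules.pushforward g) (f := up f' f₂' a₁' w₁') (g := up f' f₂' a₂' w₂')
  unfold dl
  rw [h, Preadditive.sub_comp, Preadditive.comp_sub, up_comm w₁ w₁' k k₂ c₁, up_comm w₂ w₂' k k₂ c₂]

/-- Direct images of universal maps. -/
theorem isUniv_pushSquare_of {X' Y' : Scheme.{u}} {M' : X'.Modules} {f : X ⟶ Y} {f' : X' ⟶ Y'} {g : Y' ⟶ Y}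
    {g' : X' ⟶ X} {m : M ⟶ (Scheme.Modules.pushforward g').obj M'} (hm : IsUniv g' m) (k : g' ≫ f = f' ≫ g)
    (h : IsUniv g (pushSquare f g g' f' k (pbUnit g' M))) : IsUniv g (pushSquare f g g' f' k m) := by
  obtain ⟨e, he, -⟩ := (isUniv_pbUnit g' M).exists_iso hm
  have h1 := h.comp_iso ((Scheme.Modules.pushforward f').mapIso e)
  have h2 : pushSquare f g g' f' k m = pushSquare f g g' f' k (pbUnit g' M) ≫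
      (Scheme.Modules.pushforward g).map ((Scheme.Modules.pushforward f').mapIso e).hom := by
    rw [← he]
    apply Scheme.Modules.hom_ext
    intro V
    ext s
    have e1 : f' ⁻¹ᵁ (g ⁻¹ᵁ V) ≤ g' ⁻¹ᵁ (f ⁻¹ᵁ V) := preimage_le k V _ le_rfl
    have h3 : ∀ (m : M ⟶ (Scheme.Modules.pushforward g').obj M') (x : Γ(M, f ⁻¹ᵁ V)),
        (pushSquare f g g' f' k m).app V x = secMap g' m (f ⁻¹ᵁ V) (f' ⁻¹ᵁ (g ⁻¹ᵁ V)) e1 x := by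
      intro m x
      refine Eq.trans ?_ (secMap_pushSquare f g g' f' k m V _ le_rfl e1 x)
      exact (map_self' _ le_rfl _).symm
    have h4 : ∀ (x : Γ(M, f ⁻¹ᵁ V)),
        (pushSquare f g g' f' k (pbUnit g' M)).app V x =
          secMap g' (pbUnit g' M) (f ⁻¹ᵁ V) (f' ⁻¹ᵁ (g ⁻¹ᵁ V)) e1 x := by
      intro x
      refine Eq.trans ?_ (secMap_pushSquare f g g' f' k (pbUnit g' M) V _ le_rfl e1 x)
      exact (map_self' _ le_rfl _).symm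
    rw [h3, Groth.Agent.CohqA.PullbackQCoh.secMap_comp]
    change _ = e.hom.app _ ((pushSquare f g g' f' k (pbUnit g' M)).app V s)
    rw [h4]
    rfl
  rw [h2]
  exact h1

/-- A function which becomes a unit does not vanish. -/
theorem mem_basicOpen_of_isUnit {Y' T T' : Scheme.{u}} {τ : T' ⟶ T} {g : Y' ⟶ Y} {μ : Y ⟶ T} {μ' : Y' ⟶ T'}
    (w : g ≫ μ = μ' ≫ τ) (a : Γ(T, ⊤)) (hu : IsUnit (τ.appTop.hom a)) (z : Y') :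
    μ.base (g.base z) ∈ T.basicOpen a := by
  have h1 : τ ⁻¹ᵁ T.basicOpen a = ⊤ := by
    rw [Scheme.preimage_basicOpen_top]
    exact T'.basicOpen_of_isUnit hu
  have h2 : μ.base (g.base z) = τ (μ' z) := by
    rw [← Scheme.Hom.comp_apply, w, Scheme.Hom.comp_apply]
  rw [h2]
  have h3 : μ' z ∈ τ ⁻¹ᵁ T.basicOpen a := by
    rw [h1]
    trivial
  exact h3

/-- **Generic base change of the kernel.** -/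
theorem exists_gen {T : Scheme.{u}} [IsAffine T] [IsIntegral T] [IsLocallyNoetherian T] (μ : Y ⟶ T)
    [LocallyOfFiniteType μ] [QuasiCompact μ] (f : X ⟶ Y) [IsProper f] (f₂ : Z ⟶ Y) [IsProper f₂]
    (hM : Coh.IsCoh M) (hN : Coh.IsCoh N) (a₁ a₂ : (⟨Z, N⟩ : Pr.{u}) ⟶ ⟨X, M⟩) (w₁ : Arr.base a₁ ≫ f = f₂)
    (w₂ : Arr.base a₂ ≫ f = f₂) {L : Y.Modules} {l : L ⟶ (Scheme.Modules.pushforward f).obj M}
    (hl : IsKer l (dl f f₂ a₁ a₂ w₁ w₂)) :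
    ∃ a : Γ(T, ⊤), a ≠ 0 ∧ Coh.IsCoh L ∧
      (∀ y : Y, μ.base y ∈ T.basicOpen a → FlatMod.IsFlatOverAt μ L y) ∧
      ∀ {T' Y' X' Z' : Scheme.{u}} [IsAffine T'] {τ : T' ⟶ T} {g : Y' ⟶ Y} {μ' : Y' ⟶ T'} (_ : IsPullback g μ' μ τ)
        {f' : X' ⟶ Y'} {f₂' : Z' ⟶ Y'} {M' : X'.Modules} {N' : Z'.Modules} {θ : (⟨X', M'⟩ : Pr.{u}) ⟶ ⟨X, M⟩}
        {η : (⟨Z', N'⟩ : Pr.{u}) ⟶ ⟨Z, N⟩} (HX : IsPullback (Arr.base θ) f' f g)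
        (_ : IsPullback (Arr.base η) f₂' f₂ g) (_ : Cart θ) (_ : Cart η)
        {a₁' a₂' : (⟨Z', N'⟩ : Pr.{u}) ⟶ ⟨X', M'⟩} (w₁' : Arr.base a₁' ≫ f' = f₂') (w₂' : Arr.base a₂' ≫ f' = f₂')
        (_ : η ≫ a₁ = a₁' ≫ θ) (_ : η ≫ a₂ = a₂' ≫ θ) (_ : IsUnit (τ.appTop.hom a)) {L' : Y'.Modules}
        {l' : L' ⟶ (Scheme.Modules.pushforward f').obj M'} {t : L ⟶ (Scheme.Modules.pushforward g).obj L'}
        (_ : IsUniv g t) (_ : l ≫ pushSquare f g (Arr.base θ) f' HX.w (Arr.map θ) =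
          t ≫ (Scheme.Modules.pushforward g).map l'),
        IsKer l' (dl f' f₂' a₁' a₂' w₁' w₂') := by
  have hNY : IsLocallyNoetherian Y := LocallyOfFiniteType.isLocallyNoetherian μ
  have cF : Coh.IsCoh ((Scheme.Modules.pushforward f).obj M) := Push.isCoh_pushforward f M hM
  have cG : Coh.IsCoh ((Scheme.Modules.pushforward f₂).obj N) := Push.isCoh_pushforward f₂ N hN
  obtain ⟨e, -, -⟩ := hl.exists_iso (isKer_ι _)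
  have cL : Coh.IsCoh L := Groth.Agent.CohqB.LocalQC.isCoh_of_iso e.symm
    (Groth.Agent.Sga67.CohBasic.isCoh_kernel _ cF cG.1)
  obtain ⟨a, ha, Ha⟩ := PushBC.exists_isUniv f μ M hM
  obtain ⟨b, hb, Hb⟩ := PushBC.exists_isUniv f₂ μ N hN
  obtain ⟨c, hc, Hc⟩ := GenFlat.exists_isFlatOverAt' μ _ cG
  obtain ⟨d, hd, Hd⟩ := GenFlat.exists_isFlatOverAt' μ (cokernel (dl f f₂ a₁ a₂ w₁ w₂))
    (Groth.Agent.Sga67.CohBasic.isCoh_cokernel _ cF.1 cG)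
  obtain ⟨r, hr, Hr⟩ := GenFlat.exists_isFlatOverAt' μ L cL
  refine ⟨a * b * (c * d) * r, mul_ne_zero (mul_ne_zero (mul_ne_zero ha hb) (mul_ne_zero hc hd)) hr, cL,
    fun y hy => Hr y ?_, ?_⟩
  · rw [Scheme.basicOpen_mul] at hy
    exact hy.2
  intro T' Y' X' Z' _ τ g μ' HY f' f₂' M' N' θ η HX HZ hθ hη a₁' a₂' w₁' w₂' c₁ c₂ hu L' l' t ht hc₀
  have hu1 : ∀ {x : Γ(T, ⊤)}, x ∣ a * b * (c * d) * r → IsUnit (τ.appTop.hom x) := fun hx =>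
    isUnit_of_dvd_unit (map_dvd _ hx) hu
  have da : a ∣ a * b * (c * d) * r := ⟨b * (c * d) * r, by ring⟩
  have db : b ∣ a * b * (c * d) * r := ⟨a * (c * d) * r, by ring⟩
  have dc : c ∣ a * b * (c * d) * r := ⟨a * b * d * r, by ring⟩
  have dd : d ∣ a * b * (c * d) * r := ⟨a * b * c * r, by ring⟩
  have h1 := hl.pullback HY (fun z => Hc _ (mem_basicOpen_of_isUnit HY.w c (hu1 dc) z))
    (fun z => Hd _ (mem_basicOpen_of_isUnit HY.w d (hu1 dd) z))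
  exact h1.of_square ht (isUniv_pushSquare_of hθ HX.w (Ha HX HY (hu1 da)))
    (isUniv_pushSquare_of hη HZ.w (Hb HZ HY (hu1 db))) hc₀
    (dl_comm w₁ w₂ w₁' w₂' HX.w HZ.w c₁ c₂)

end K243.QcGen
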