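import Groth.Agent.Pic13.K243.QcArr
import Groth.Agent.Pic13.H504.Push

/-!
# Kernels of modules and their base change

* `IsKer l v`: `l` is a kernel of `v`; `IsKer.mk'`, `IsKer.exists_sec`: in terms of sections;
* `IsKer.pullback`: base change, when the target and the cokernel are flat over the base;
* `IsKer.of_square`: transport along a square of universal maps.
-/

set_option autoImplicit false
universe u

open CategoryTheory CategoryTheory.Limits AlgebraicGeometry Opposite TopologicalSpace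

namespace K243.QcKer

open Groth.Agent.CohqA.PullbackUniv Groth.Agent.CohqA.PullbackSections
  Groth.Agent.Pic13.H504.KernelFamily Groth.Agent.Ega1.SubSheaf Groth.Agent.PerfC.RelFlat

section basic

variable {X : Scheme.{u}} {L F G : X.Modules}

/-- `l` is a kernel of `v`. -/
def IsKer (l : L ⟶ F) (v : F ⟶ G) : Prop :=
  ∃ w : l ≫ v = 0, Nonempty (IsLimit (KernelFork.ofι l w))

theorem isKer_ι (v : F ⟶ G) : IsKer (kernel.ι v) v := ⟨kernel.condition v, ⟨kernelIsKernel v⟩⟩

theorem IsKer.mono {l : L ⟶ F} {v : F ⟶ G} (h : IsKer l v) : Mono l := by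
  obtain ⟨w, ⟨hl⟩⟩ := h
  exact mono_of_isLimit_fork hl

theorem isKer_of_exact {l : L ⟶ F} {v : F ⟶ G} (w : l ≫ v = 0) [Mono l] (h : (ShortComplex.mk l v w).Exact) :
    IsKer l v := ⟨w, ⟨h.fIsKernel⟩⟩

theorem IsKer.exists_iso {l : L ⟶ F} {v : F ⟶ G} (h : IsKer l v) {L' : X.Modules} {l' : L' ⟶ F} (h' : IsKer l' v) :
    ∃ e : L ≅ L', e.hom ≫ l' = l ∧ e.inv ≫ l = l' := by
  obtain ⟨w, ⟨hl⟩⟩ := h
  obtain ⟨w', ⟨hl'⟩⟩ := h'
  refine ⟨IsLimit.conePointUniqueUpToIso hl hl', ?_, ?_⟩
  · exact IsLimit.conePointUniqueUpToIso_hom_comp hl hl' WalkingParallelPair.zero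
  · exact IsLimit.conePointUniqueUpToIso_inv_comp hl hl' WalkingParallelPair.zero

theorem IsKer.of_iso {l : L ⟶ F} {v : F ⟶ G} (h : IsKer l v) {L' F' G' : X.Modules} {l' : L' ⟶ F'} {v' : F' ⟶ G'}
    (a : L' ≅ L) (b : F ≅ F') (c : G ≅ G') (h₁ : l' = a.hom ≫ l ≫ b.hom) (h₂ : v ≫ c.hom = b.hom ≫ v') :
    IsKer l' v' := by
  obtain ⟨w, ⟨hl⟩⟩ := h
  have w' : l' ≫ v' = 0 := by
    rw [h₁, Category.assoc, Category.assoc, ← h₂, reassoc_of% w, zero_comp, comp_zero]
  refine ⟨w', ⟨?_⟩⟩
  have hm : Mono l := mono_of_isLimit_fork hl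
  have hm' : Mono l' := by
    rw [h₁]
    infer_instance
  refine KernelFork.IsLimit.ofι' l' w' fun {A} k hk => ?_
  have hk' : (k ≫ b.inv) ≫ v = 0 := by
    rw [← cancel_mono c.hom, Category.assoc, Category.assoc, h₂, b.inv_hom_id_assoc, hk, zero_comp]
  refine ⟨(KernelFork.IsLimit.lift' hl (k ≫ b.inv) hk').1 ≫ a.inv, ?_⟩
  have h3 : (KernelFork.IsLimit.lift' hl (k ≫ b.inv) hk').1 ≫ l = k ≫ b.inv :=
    (KernelFork.IsLimit.lift' hl (k ≫ b.inv) hk').2
  rw [h₁, Category.assoc, a.inv_hom_id_assoc, reassoc_of% h3, b.inv_hom_id, Category.comp_id]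

/-- The kernel in terms of sections. -/
theorem IsKer.mk' {l : L ⟶ F} {v : F ⟶ G} (w : ∀ (U : X.Opens) (s : Γ(L, U)), v.app U (l.app U s) = 0)
    (hi : ∀ U : X.Opens, Function.Injective (l.app U))
    (hs : ∀ (U : X.Opens) (s : Γ(F, U)), v.app U s = 0 → ∃ t, l.app U t = s) : IsKer l v := by
  have w' : l ≫ v = 0 := by
    apply Scheme.Modules.hom_ext
    intro U
    ext s
    exact w U s
  have hm : Mono l := (mono_iff_injective l).2 hi
  refine ⟨w', ⟨KernelFork.IsLimit.ofι' l w' fun {A} k hk => ?_⟩⟩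
  have h1 := exists_lift k l fun U s => hs U _ (by
    have := congr(($hk).app U s)
    exact this)
  exact ⟨h1.choose, h1.choose_spec⟩

theorem IsKer.exists_sec {l : L ⟶ F} {v : F ⟶ G} (h : IsKer l v) {U : X.Opens} (s : Γ(F, U)) (hs : v.app U s = 0) :
    ∃ t, l.app U t = s := by
  let K : Sub F :=
    { obj := fun U =>
        { carrier := {s | v.app U s = 0}
          add_mem' := fun {a b} ha hb => by
            change v.app U (a + b) = 0
            rw [map_add, show v.app U a = 0 from ha, show v.app U b = 0 from hb, add_zero]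
          zero_mem' := map_zero _
          smul_mem' := fun r a ha => by
            change v.app U (r • a) = 0
            rw [app_smul', show v.app U a = 0 from ha, smul_zero] }
      map_mem := fun {U V} hVU {s} hs => by
        change v.app V (res F hVU s) = 0
        rw [app_res, show v.app U s = 0 from hs]
        exact map_zero (G.presheaf.map (homOfLE hVU).op).hom
      local_mem := fun {U} s hs => by
        change v.app U s = 0
        refine section_ext G _ _ fun x hx => ?_
        obtain ⟨V, hV, hxV, hs'⟩ := hs x hx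
        refine ⟨V, hV, hxV, ?_⟩
        have h1 : v.app V (res F hV s) = 0 := hs'
        rw [app_res] at h1
        rw [h1]
        exact (map_zero (G.presheaf.map (homOfLE hV).op).hom).symm }
  obtain ⟨w, ⟨hl⟩⟩ := h
  have hK : K.ι ≫ v = 0 := by
    apply Scheme.Modules.hom_ext
    intro U
    ext s
    exact K.ι_app_mem s
  obtain ⟨m, hm⟩ := KernelFork.IsLimit.lift' hl K.ι hK
  refine ⟨m.app U (K.sec s hs), ?_⟩
  have h2 : m ≫ l = K.ι := hm
  have h3 := congr(($h2).app U (K.sec s hs))
  exact h3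

theorem IsKer.injective {l : L ⟶ F} {v : F ⟶ G} (h : IsKer l v) (U : X.Opens) : Function.Injective (l.app U) :=
  (mono_iff_injective l).1 h.mono U

theorem IsKer.app_app {l : L ⟶ F} {v : F ⟶ G} (h : IsKer l v) {U : X.Opens} (s : Γ(L, U)) :
    v.app U (l.app U s) = 0 := by
  obtain ⟨w, -⟩ := h
  exact congr(($w).app U s)

end basic

section pull

variable {P X Y' Y : Scheme.{u}} {p : P ⟶ X} {q : P ⟶ Y'} {f : X ⟶ Y} {g : Y' ⟶ Y}

/-- Pull back preserves kernels under pointwise flatness of the target and the cokernel. -/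
theorem isKer_map_ι (H : IsPullback p q f g) {F G : X.Modules} (v : F ⟶ G)
    (hG : ∀ z : P, FlatMod.IsFlatOverAt f G (p.base z))
    (hC : ∀ z : P, FlatMod.IsFlatOverAt f (cokernel v) (p.base z)) :
    IsKer ((Scheme.Modules.pullback p).map (kernel.ι v)) ((Scheme.Modules.pullback p).map v) := by
  let T₁ : ShortComplex X.Modules := ShortComplex.mk (Abelian.image.ι v) (cokernel.π v) (by
    exact kernel.condition _)
  have hT₁ : T₁.ShortExact :=
    { exact := ShortComplex.exact_kernel (cokernel.π v)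
      mono_f := inferInstanceAs (Mono (kernel.ι (cokernel.π v)))
      epi_g := inferInstanceAs (Epi (cokernel.π v)) }
  let T₂ : ShortComplex X.Modules := ShortComplex.mk (kernel.ι v) (Abelian.factorThruImage v) (by
    rw [← cancel_mono (Abelian.image.ι v), Category.assoc, Abelian.image.fac, kernel.condition, zero_comp])
  have hT₂ : T₂.ShortExact :=
    { exact := by
        refine ShortComplex.exact_of_f_is_kernel _ ?_
        exact isKernelOfComp (Abelian.image.ι v) v (kernelIsKernel v) T₂.zero (Abelian.image.fac v)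
      mono_f := inferInstanceAs (Mono (kernel.ι v))
      epi_g := inferInstanceAs (Epi (Abelian.factorThruImage v)) }
  have hI : ∀ z : P, FlatMod.IsFlatOverAt f (Abelian.image v) (p.base z) := fun z =>
    isFlatOverAt_of_shortExact_left f T₁ hT₁ _ (hG z) (hC z)
  have m₁ : Mono ((Scheme.Modules.pullback p).map (Abelian.image.ι v)) := mono_pullback_map H T₁ hT₁ hC
  have m₂ : Mono ((Scheme.Modules.pullback p).map (kernel.ι v)) := mono_pullback_map H T₂ hT₂ hI
  have e₂ : (T₂.map (Scheme.Modules.pullback p)).Exact :=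
    hT₂.exact.map_of_epi_of_preservesCokernel _ hT₂.epi_g inferInstance
  let T₃ : ShortComplex P.Modules := ShortComplex.mk ((Scheme.Modules.pullback p).map (kernel.ι v))
    ((Scheme.Modules.pullback p).map v) (by rw [← Functor.map_comp, kernel.condition, Functor.map_zero])
  let φ : T₂.map (Scheme.Modules.pullback p) ⟶ T₃ :=
    { τ₁ := 𝟙 _
      τ₂ := 𝟙 _
      τ₃ := (Scheme.Modules.pullback p).map (Abelian.image.ι v)
      comm₁₂ := by
        change 𝟙 _ ≫ (Scheme.Modules.pullback p).map (kernel.ι v) =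
          (Scheme.Modules.pullback p).map (kernel.ι v) ≫ 𝟙 _
        rw [Category.id_comp, Category.comp_id]
      comm₂₃ := by
        change 𝟙 _ ≫ (Scheme.Modules.pullback p).map v =
          (Scheme.Modules.pullback p).map (Abelian.factorThruImage v) ≫
            (Scheme.Modules.pullback p).map (Abelian.image.ι v)
        rw [Category.id_comp, ← Functor.map_comp, Abelian.image.fac] }
  have : Epi φ.τ₁ := inferInstanceAs (Epi (𝟙 _))
  have : IsIso φ.τ₂ := inferInstanceAs (IsIso (𝟙 _))
  have : Mono φ.τ₃ := m₁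
  have e₃ : T₃.Exact := (ShortComplex.exact_iff_of_epi_of_isIso_of_mono φ).1 e₂
  have : Mono T₃.f := m₂
  exact ⟨T₃.zero, ⟨e₃.fIsKernel⟩⟩

theorem IsKer.pullback (H : IsPullback p q f g) {L F G : X.Modules} {l : L ⟶ F} {v : F ⟶ G} (h : IsKer l v)
    (hG : ∀ z : P, FlatMod.IsFlatOverAt f G (p.base z))
    (hC : ∀ z : P, FlatMod.IsFlatOverAt f (cokernel v) (p.base z)) :
    IsKer ((Scheme.Modules.pullback p).map l) ((Scheme.Modules.pullback p).map v) := by
  obtain ⟨e, h1, -⟩ := h.exists_iso (isKer_ι v)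
  refine (isKer_map_ι H v hG hC).of_iso ((Scheme.Modules.pullback p).mapIso e) (Iso.refl _) (Iso.refl _) ?_ ?_
  · rw [Iso.refl_hom, Category.comp_id, Functor.mapIso_hom, ← Functor.map_comp, h1]
  · rw [Iso.refl_hom, Iso.refl_hom, Category.comp_id, Category.id_comp]

/-- Transport along universal maps. -/
theorem IsKer.of_square {L F G : X.Modules} {l : L ⟶ F} {v : F ⟶ G}
    (h : IsKer ((Scheme.Modules.pullback p).map l) ((Scheme.Modules.pullback p).map v))
    {L' F' G' : P.Modules} {l' : L' ⟶ F'} {v' : F' ⟶ G'} {t : L ⟶ (Scheme.Modules.pushforward p).obj L'}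
    {t₀ : F ⟶ (Scheme.Modules.pushforward p).obj F'} {t₁ : G ⟶ (Scheme.Modules.pushforward p).obj G'}
    (ht : IsUniv p t) (ht₀ : IsUniv p t₀) (ht₁ : IsUniv p t₁)
    (c₀ : l ≫ t₀ = t ≫ (Scheme.Modules.pushforward p).map l')
    (c₁ : v ≫ t₁ = t₀ ≫ (Scheme.Modules.pushforward p).map v') : IsKer l' v' := by
  obtain ⟨e, he, he'⟩ := (isUniv_pbUnit p L).exists_iso ht
  obtain ⟨e₀, he₀, he₀'⟩ := (isUniv_pbUnit p F).exists_iso ht₀
  obtain ⟨e₁, he₁, he₁'⟩ := (isUniv_pbUnit p G).exists_iso ht₁
  have nat : ∀ {M N : X.Modules} (φ : M ⟶ N), φ ≫ pbUnit p N =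
      pbUnit p M ≫ (Scheme.Modules.pushforward p).map ((Scheme.Modules.pullback p).map φ) := fun φ =>
    (Scheme.Modules.pullbackPushforwardAdjunction p).unit.naturality φ
  refine h.of_iso e.symm e₀ e₁ ?_ ?_
  · have h1 : (Scheme.Modules.pullback p).map l ≫ e₀.hom = e.hom ≫ l' := by
      refine (isUniv_pbUnit p L _).1 ?_
      dsimp only
      rw [Functor.map_comp, Functor.map_comp, ← Category.assoc, ← nat, Category.assoc, he₀, c₀, ← Category.assoc, he]
    rw [Iso.symm_hom, h1, e.inv_hom_id_assoc]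
  · refine (isUniv_pbUnit p F _).1 ?_
    dsimp only
    rw [Functor.map_comp, Functor.map_comp, ← Category.assoc, ← nat, Category.assoc, he₁, c₁, ← Category.assoc, he₀]

end pull

end K243.QcKer
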