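import Groth.Agent.Pic13.H965.RelGrp
import Groth.Agent.Pic13.H965.LFT
import Groth.Agent.Pic13.H504.Descent
import Groth.Agent.Pic13.H969.Bridge
import Groth.Agent.RedSub.H650.ValAC

/-!
# Bounded families and quasi-compact opens of the Picard scheme

`k` algebraically closed, `X` proper over `k`, `P` representing the étale-sheafified Picard functor: `pt a` is the
`k`-point of `P` attached to `a : Pic X`.  `pt_fib`, `pt_injective`, `bounded_iff`.
-/

set_option autoImplicit false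
set_option linter.unusedSectionVars false
universe u

open CategoryTheory Limits AlgebraicGeometry Opposite TopologicalSpace
open Groth.Agent.Ega3A.PicDiv Groth.Agent.Ega3A.PicEtSh Groth.Agent.Grpsch.PicGrp
open Groth.Agent.Ega3A.PicSheaf Groth.Agent.Ega3A.PicLocBase Groth.Agent.Fga.RigGrp
open Groth.Agent.Pic13.H965.RelGrp Groth.Agent.Pic13.H138.BddPic Groth.Agent.Pic13.H138.Slice

namespace K243.QcOpen

variable (k : Type u) [Field k] (X : Scheme.{u}) [X.Over (Spec (CommRingCat.of k))]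

variable {P : Over (Spec (CommRingCat.of k))} {φ : ∀ T : Over (Spec (CommRingCat.of k)), PicF.Cl (PicF.XT (X ↘ (Spec (CommRingCat.of k))) T) → (T ⟶ P)}

variable (φ) in
/-- The `k`-point of `P` attached to a class. -/
noncomputable def pt (a : Pic X) : Over.mk (𝟙 (Spec (CommRingCat.of k))) ⟶ P :=
  cm φ (T := Over.mk (𝟙 (Spec (CommRingCat.of k)))) (pull (pullback.fst (X ↘ (Spec (CommRingCat.of k))) (𝟙 (Spec (CommRingCat.of k)))) a)

theorem fst_slice {T : Scheme.{u}} (q : T ⟶ (Spec (CommRingCat.of k))) (t : (Spec (CommRingCat.of k)) ⟶ T) (ht : t ≫ q = 𝟙 _) :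
    pullback.fst (X ↘ (Spec (CommRingCat.of k))) (𝟙 (Spec (CommRingCat.of k))) ≫ Pic13.sliceAt k X q t ht =
      PicF.XTmap (X ↘ (Spec (CommRingCat.of k))) (T := Over.mk q) (T' := Over.mk (𝟙 (Spec (CommRingCat.of k)))) (Over.homMk t ht) := by
  apply pullback.hom_ext
  · rw [Category.assoc, sliceAt_fst]
    exact (pullback.lift_fst _ _ _).symm
  · rw [Category.assoc, sliceAt_snd, ← Category.assoc, pullback.condition]
    refine Eq.trans ?_ (pullback.lift_snd _ _ _).symm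
    rw [Category.comp_id]
    rfl

variable (hφ : PicRel.IsRelPic (X ↘ (Spec (CommRingCat.of k))) P φ)

include hφ

theorem pt_fib {T : Scheme.{u}} (q : T ⟶ (Spec (CommRingCat.of k))) (t : (Spec (CommRingCat.of k)) ⟶ T) (ht : t ≫ q = 𝟙 _) (c : Pic (Pic13.prodK k X q)) :
    pt k X φ (fibCl k X q t ht c) = (Over.homMk t ht : Over.mk (𝟙 (Spec (CommRingCat.of k))) ⟶ Over.mk q) ≫ cm φ (T := Over.mk q) c := by
  rw [← cm_pu hφ, pt, fibCl, ← pull_comp, fst_slice]

theorem pt_injective [IsAlgClosed k] {a b : Pic X} (h : pt k X φ a = pt k X φ b) : a = b := by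
  obtain ⟨𝒰, h𝒰⟩ := (cm_eq_iff hφ).mp h
  obtain ⟨i, v, hv⟩ := 𝒰.covers (IsLocalRing.closedPoint k)
  have hsurj : Surjective (𝒰.j i).left := ⟨fun z => ⟨v, by
    rw [hv]
    exact Subsingleton.elim (α := PrimeSpectrum k) _ _⟩⟩
  obtain ⟨s, hs⟩ := Groth.Agent.RedSub.H650.ValAC.exists_lift_pt (𝒰.j i).left k (𝟙 (Spec (CommRingCat.of k)))
  have hs' : s ≫ (𝒰.V i).hom = 𝟙 _ := by
    rw [← Over.w (𝒰.j i), ← Category.assoc, hs]
    rfl
  have key : ∀ a : Pic X, pull (Pic13.sliceAt k X (𝒰.V i).hom s hs')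
      (pu (X ↘ (Spec (CommRingCat.of k))) (𝒰.j i) (pull (pullback.fst (X ↘ (Spec (CommRingCat.of k))) (𝟙 (Spec (CommRingCat.of k)))) a)) = a := by
    intro a
    rw [pu, ← pull_comp, ← pull_comp, Category.assoc]
    have e : Pic13.sliceAt k X (𝒰.V i).hom s hs' ≫ PicF.XTmap (X ↘ (Spec (CommRingCat.of k))) (𝒰.j i) ≫
        pullback.fst (X ↘ (Spec (CommRingCat.of k))) (𝟙 (Spec (CommRingCat.of k))) = 𝟙 X := by
      have e1 : PicF.XTmap (X ↘ (Spec (CommRingCat.of k))) (𝒰.j i) ≫ pullback.fst (X ↘ (Spec (CommRingCat.of k))) (𝟙 (Spec (CommRingCat.of k))) =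
          pullback.fst (X ↘ (Spec (CommRingCat.of k))) (𝒰.V i).hom :=
        (pullback.lift_fst _ _ _).trans (Category.comp_id _)
      rw [e1]
      exact sliceAt_fst k X _ s hs'
    rw [e, pull_id]
  rw [← key a, ← key b, h𝒰 i]

omit hφ in
/-- Lifting `k`-points along morphisms locally of finite type. -/
theorem exists_lift_of_mem_range [IsAlgClosed k] {V U : Scheme.{u}} (h : V ⟶ U) [LocallyOfFiniteType h]
    (u : Spec (CommRingCat.of k) ⟶ U) (v : V) (hv : h v = u (IsLocalRing.closedPoint k)) :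
    ∃ t : Spec (CommRingCat.of k) ⟶ V, t ≫ h = u := by
  obtain ⟨z, -, -⟩ := Scheme.Pullback.exists_preimage_pullback (f := h) (g := u) v (IsLocalRing.closedPoint k) hv
  have hsurj : Surjective (pullback.snd h u) := ⟨fun w => ⟨z, Subsingleton.elim (α := PrimeSpectrum k) _ _⟩⟩
  obtain ⟨s, hs⟩ := Groth.Agent.RedSub.H650.ValAC.exists_lift_pt (pullback.snd h u) k (𝟙 _)
  refine ⟨s ≫ pullback.fst h u, ?_⟩
  rw [Category.assoc, pullback.condition, ← Category.assoc, hs, Category.id_comp]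

omit hφ in
theorem exists_compact_open {Z : Scheme.{u}} {K : Set Z} (hK : IsCompact K) :
    ∃ U : Z.Opens, IsCompact (U : Set Z) ∧ K ⊆ U := by
  have key : ∀ z : Z, ∃ U : Z.Opens, IsAffineOpen U ∧ z ∈ U := fun z => by
    obtain ⟨U, hU, hz, -⟩ := exists_isAffineOpen_mem_and_subset (X := Z) (x := z) (U := ⊤) trivial
    exact ⟨U, hU, hz⟩
  choose U hU hz using key
  obtain ⟨t, -, ht⟩ := hK.elim_nhds_subcover (fun z => (U z : Set Z)) fun z _ => (U z).isOpen.mem_nhds (hz z)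
  refine ⟨⨆ z ∈ t, U z, ?_, ?_⟩
  · have e : ((⨆ z ∈ t, U z : Z.Opens) : Set Z) = ⋃ z ∈ t, (U z : Set Z) := by
      simp only [Opens.coe_iSup]
    rw [e]
    exact t.isCompact_biUnion fun z _ => (hU z).isCompact
  · refine ht.trans (le_of_eq ?_)
    simp only [Opens.coe_iSup]

/-- Bounded sets of classes lie in a quasi-compact open. -/
theorem exists_open {A : Set (Pic X)} (hA : BddPic k X A) : ∃ U : P.left.Opens, IsCompact (U : Set P.left) ∧
    ∀ a ∈ A, Set.range (pt k X φ a).left ⊆ U := by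
  obtain ⟨T, q, _, _, c, hc⟩ := hA
  have : CompactSpace (Over.mk q).left := QuasiCompact.compactSpace_of_compactSpace q
  obtain ⟨U, hU, hKU⟩ := exists_compact_open (isCompact_range (cm φ (T := Over.mk q) c).left.continuous)
  refine ⟨U, hU, fun a ha => ?_⟩
  obtain ⟨t, ht, rfl⟩ := hc a ha
  rintro _ ⟨z, rfl⟩
  apply hKU
  rw [pt_fib k X hφ]
  exact ⟨t z, rfl⟩

/-- The classes with image in a quasi-compact open are bounded. -/
theorem bddPic_of_open [IsAlgClosed k] [QuasiCompact (X ↘ (Spec (CommRingCat.of k)))]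
    [QuasiSeparated (X ↘ (Spec (CommRingCat.of k)))] (U : P.left.Opens) (hU : IsCompact (U : Set P.left)) :
    BddPic k X {a | Set.range (pt k X φ a).left ⊆ U} := by
  have hlft : LocallyOfFiniteType P.hom := Groth.Agent.Pic13.H965.LFT.locallyOfFiniteType_hom hφ
  have hUc : CompactSpace U := isCompact_iff_compactSpace.mp hU
  obtain ⟨𝒰, c, hc⟩ := exists_cm hφ (Over.homMk U.ι rfl : Over.mk (U.ι ≫ P.hom) ⟶ P)
  have key : ∀ x : U, ∃ (i : 𝒰.ι) (B : (𝒰.V i).left.Opens) (v : (𝒰.V i).left), IsAffineOpen B ∧ v ∈ B ∧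
      (𝒰.j i).left v = x := by
    intro x
    obtain ⟨i, v, hv⟩ := 𝒰.covers x
    obtain ⟨B, hB, hvB, -⟩ := exists_isAffineOpen_mem_and_subset (X := (𝒰.V i).left) (x := v) (U := ⊤) trivial
    exact ⟨i, B, v, hB, hvB, hv⟩
  choose i B v hB hvB hv using key
  let W : U → Set U := fun x => Set.range ((B x).ι ≫ (𝒰.j (i x)).left)
  have hW : ∀ x, IsOpen (W x) := fun x => ((B x).ι ≫ (𝒰.j (i x)).left).isOpenMap.isOpen_range
  have hxW : ∀ x, x ∈ W x := fun x => ⟨⟨v x, hvB x⟩, hv x⟩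
  obtain ⟨t, -, ht⟩ := (isCompact_univ (X := U)).elim_nhds_subcover W fun x _ => (hW x).mem_nhds (hxW x)
  let q : ∀ x, (B x : Scheme.{u}) ⟶ Spec (CommRingCat.of k) := fun x => (B x).ι ≫ (𝒰.V (i x)).hom
  let s : ∀ x, (Over.mk (q x) : Over (Spec (CommRingCat.of k))) ⟶ 𝒰.V (i x) := fun x => Over.homMk (B x).ι rfl
  have hq : ∀ x, LocallyOfFiniteType (q x) := by
    intro x
    have e : q x = (B x).ι ≫ (𝒰.j (i x)).left ≫ U.ι ≫ P.hom := by
      have := Over.w (𝒰.j (i x))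
      change (B x).ι ≫ (𝒰.V (i x)).hom = _
      rw [← this]
      rfl
    rw [e]
    infer_instance
  have hqc : ∀ x, QuasiCompact (q x) := by
    intro x
    have : IsAffine (B x : Scheme.{u}) := hB x
    infer_instance
  refine (BddPic.biUnion t.finite_toSet (fun x => {a | ∃ (r : Spec (CommRingCat.of k) ⟶ (B x : Scheme.{u}))
    (hr : r ≫ q x = 𝟙 _), fibCl k X (q x) r hr (pu (X ↘ (Spec (CommRingCat.of k))) (s x) (c (i x))) = a})
    fun x _ => ⟨B x, q x, hq x, hqc x, _, fun a ha => ha⟩).mono ?_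
  intro a ha
  have ha' : Set.range (pt k X φ a).left ⊆ Set.range U.ι := by
    rw [Scheme.Opens.range_ι]
    exact ha
  let w : Spec (CommRingCat.of k) ⟶ U := IsOpenImmersion.lift U.ι (pt k X φ a).left ha'
  have hw : w ≫ U.ι = (pt k X φ a).left := IsOpenImmersion.lift_fac _ _ _
  obtain ⟨x, hx, ⟨y, hy⟩⟩ := Set.mem_iUnion₂.mp (ht (Set.mem_univ (w (IsLocalRing.closedPoint k))))
  have hlf : LocallyOfFiniteType ((B x).ι ≫ (𝒰.j (i x)).left) := inferInstance
  obtain ⟨r, hr⟩ := exists_lift_of_mem_range k ((B x).ι ≫ (𝒰.j (i x)).left) w y hy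
  have hr' : r ≫ q x = 𝟙 _ := by
    have e : q x = ((B x).ι ≫ (𝒰.j (i x)).left) ≫ U.ι ≫ P.hom := by
      have := Over.w (𝒰.j (i x))
      change (B x).ι ≫ (𝒰.V (i x)).hom = _
      rw [← this, Category.assoc]
      rfl
    rw [e, ← Category.assoc, hr, ← Category.assoc, hw]
    exact Over.w (pt k X φ a)
  refine Set.mem_iUnion₂.mpr ⟨x, hx, r, hr', ?_⟩
  apply pt_injective k X hφ
  rw [pt_fib k X hφ, cm_pu hφ, hc]
  ext1
  change r ≫ (B x).ι ≫ (𝒰.j (i x)).left ≫ U.ι = _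
  rw [← hw, ← hr, Category.assoc, Category.assoc]

end K243.QcOpen
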