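import Groth.Agent.Pic13.K243.QcFam
import Groth.Agent.Pic13.K243.QcOpen
import Groth.Agent.Pic13.K243.AffRes

/-!
# Quasi-compactness of the restriction map of Picard schemes under exactness

* `ExBC`: the sequence `O_Y → f_* O_X ⇉ f₂_* O_Z` stays exact after base change to fields;
* `quasiCompact_res`: then `P_Y ⟶ P_X` is quasi-compact, for `Z` flat over the base.
-/

set_option autoImplicit false
universe w u

open CategoryTheory CategoryTheory.Limits AlgebraicGeometry Opposite TopologicalSpace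

namespace K243.QcMain

open Groth.Agent.CohqA.PullbackUniv Groth.Agent.CohqA.PullbackSections Groth.Agent.CohqA.PullbackAffine
  Groth.Agent.CohqA.AffineBaseChange Groth.Agent.Pic13.H504 K243.QcArr K243.QcKer K243.QcGen K243.QcDat K243.QcEx
  K243.QcTw K243.QcBdd K243.QcFam Groth.Agent.Pic13.H508.SqMT
  Groth.Agent.Ega3A.PicDiv Groth.Agent.Ega3A.PicEtSh Groth.Agent.Grpsch.PicGrp Groth.Agent.Ega3A.PicRep
  Groth.Agent.Ega3A.PicSheaf

/-- Exactness after all base changes to fields. -/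
def ExBC {YS XS ZS S : Scheme.{u}} (gS : YS ⟶ S) (fS : XS ⟶ YS) (f₂S : ZS ⟶ YS) (p₁ p₂ : ZS ⟶ XS) : Prop :=
  ∀ (Ω : Type u) [Field Ω] (s : Spec (CommRingCat.of Ω) ⟶ S) {Y' X' Z' : Scheme.{u}} {g : Y' ⟶ YS}
    {μ' : Y' ⟶ Spec (CommRingCat.of Ω)} (_ : IsPullback g μ' gS s) {x' : X' ⟶ XS} {f' : X' ⟶ Y'}
    (_ : IsPullback x' f' fS g) {z' : Z' ⟶ ZS} {f₂' : Z' ⟶ Y'} (_ : IsPullback z' f₂' f₂S g) {p₁' p₂' : Z' ⟶ X'}
    (w₁' : p₁' ≫ f' = f₂') (w₂' : p₂' ≫ f' = f₂') (_ : z' ≫ p₁ = p₁' ≫ x') (_ : z' ≫ p₂ = p₂' ≫ x'), Ex w₁' w₂'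

/-- étale coverings of geometric points have sections. -/
theorem exists_section {S : Scheme.{u}} {Ω : Type u} [Field Ω] [IsAlgClosed Ω]
    (s : Spec (CommRingCat.of Ω) ⟶ S) (𝒰 : ECov (Over.mk s)) :
    ∃ (i : 𝒰.ι) (σ : Over.mk s ⟶ 𝒰.V i), σ ≫ 𝒰.j i = 𝟙 _ := by
  obtain ⟨i, v, hv⟩ := 𝒰.covers (IsLocalRing.closedPoint Ω)
  obtain ⟨t, ht⟩ := K243.QcOpen.exists_lift_of_mem_range Ω (U := (Over.mk s).left) (𝒰.j i).left (𝟙 _) v (by
    rw [hv]
    rfl)
  refine ⟨i, Over.homMk t ?_, ?_⟩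
  · rw [← Over.w (𝒰.j i), ← Category.assoc, ht]
    exact Category.id_comp _
  · ext1
    exact ht

variable {Y S : Scheme.{u}} {g : Y ⟶ S} {P : Over S} {φ : ∀ T : Over S, Pic (PicF.XT g T) → (T ⟶ P)}

theorem exists_class (hφ : RepPic g P φ) {Ω : Type u} [Field Ω] [IsAlgClosed Ω]
    (s : Spec (CommRingCat.of Ω) ⟶ S) (y : Over.mk s ⟶ P) : ∃ c, φ (Over.mk s) c = y := by
  obtain ⟨𝒰, h𝒰⟩ := hφ.surj y
  obtain ⟨i, σ, hσ⟩ := exists_section s 𝒰
  obtain ⟨c, hc⟩ := h𝒰 i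
  refine ⟨pu g σ c, ?_⟩
  rw [hφ.nat, hc, ← Category.assoc, hσ, Category.id_comp]

theorem injective_class (hφ : RepPic g P φ) {Ω : Type u} [Field Ω] [IsAlgClosed Ω]
    (s : Spec (CommRingCat.of Ω) ⟶ S) {c c' : Pic (PicF.XT g (Over.mk s))} (h : φ _ c = φ _ c') : c = c' := by
  obtain ⟨𝒰, h𝒰⟩ := hφ.inj h
  obtain ⟨i, σ, hσ⟩ := exists_section s 𝒰
  have h1 := congrArg (pu g σ) (h𝒰 i)
  rw [← pu_comp, ← pu_comp, hσ] at h1
  have h3 : PicF.XTmap g (𝟙 (Over.mk s)) = 𝟙 _ := by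
    apply pullback.hom_ext
    · rw [XTmap_fst, Category.id_comp]
    · rw [XTmap_snd, Category.id_comp]
      exact Category.comp_id _
  have h2 : ∀ c : Pic (PicF.XT g (Over.mk s)), pu g (𝟙 _) c = c := fun c => by
    rw [pu, h3, pull_id]
  rwa [h2, h2] at h1


section main

variable {YS XS ZS S : Scheme.{u}} {gS : YS ⟶ S} {fS : XS ⟶ YS} {f₂S : ZS ⟶ YS} {p₁ p₂ : ZS ⟶ XS}
  {PY PX : Over S} {φY : ∀ T : Over S, Pic (PicF.XT gS T) → (T ⟶ PY)}
  {φX : ∀ T : Over S, Pic (PicF.XT (fS ≫ gS) T) → (T ⟶ PX)} {r : PY ⟶ PX}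

/-- Over a chart of `P_X`. -/
theorem exists_compact_chart [IsAffine S] [IsNoetherian S] [IsProper gS] [IsProper fS] [IsProper f₂S]
    [Flat (f₂S ≫ gS)] (w₁ : p₁ ≫ fS = f₂S) (w₂ : p₂ ≫ fS = f₂S) (hEx : ExBC gS fS f₂S p₁ p₂)
    (hY : RepPic gS PY φY) (hX : RepPic (fS ≫ gS) PX φX)
    (hr : ∀ (T : Over S) (c : Pic (PicF.XT gS T)), φY T c ≫ r = φX T (pw fS rfl T c))
    {W : Scheme.{u}} [IsAffine W] [IsNoetherian W] (w : W ⟶ S) (c : Pic (PicF.XT (fS ≫ gS) (Over.mk w)))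
    [LocallyOfFiniteType (φX (Over.mk w) c).left] :
    ∃ C : Set PY.left, IsCompact C ∧ ∀ y : PY.left, r.left y ∈ Set.range (φX (Over.mk w) c).left → y ∈ C := by
  obtain ⟨M, hM, rfl⟩ := exists_mk c
  let μ : PicF.XT gS (Over.mk w) ⟶ W := pullback.snd gS w
  let f : PicF.XT (fS ≫ gS) (Over.mk w) ⟶ PicF.XT gS (Over.mk w) := mT fS rfl (Over.mk w)
  let f₂ : PicF.XT (f₂S ≫ gS) (Over.mk w) ⟶ PicF.XT gS (Over.mk w) := mT f₂S rfl (Over.mk w)
  let q₁ : PicF.XT (f₂S ≫ gS) (Over.mk w) ⟶ PicF.XT (fS ≫ gS) (Over.mk w) := mT p₁ (w_mu gS fS f₂S w₁) (Over.mk w)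
  let q₂ : PicF.XT (f₂S ≫ gS) (Over.mk w) ⟶ PicF.XT (fS ≫ gS) (Over.mk w) := mT p₂ (w_mu gS fS f₂S w₂) (Over.mk w)
  have v₁ : q₁ ≫ f = f₂ := (mT_comp fS rfl p₁ (w_mu gS fS f₂S w₁) (by rw [w₁]) _).trans (by congr 1)
  have v₂ : q₂ ≫ f = f₂ := (mT_comp fS rfl p₂ (w_mu gS fS f₂S w₂) (by rw [w₂]) _).trans (by congr 1)
  have i1 : IsProper μ := inferInstanceAs (IsProper (pullback.snd gS w))
  have i2 : IsProper f := MorphismProperty.of_isPullback (isPullback_mT fS rfl (Over.mk w)).flip ‹_›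
  have i3 : IsProper f₂ := MorphismProperty.of_isPullback (isPullback_mT f₂S rfl (Over.mk w)).flip ‹_›
  have i4 : Flat (f₂ ≫ μ) := by
    have e : f₂ ≫ μ = pullback.snd (f₂S ≫ gS) w := mT_snd f₂S rfl (Over.mk w)
    rw [e]
    infer_instance
  have hEx' : ∀ (Ω : Type u) [Field Ω] (t : Spec (CommRingCat.of Ω) ⟶ W)
      (k₁ : mT q₁ (w_mu μ f f₂ v₁) (Over.mk t) ≫ mT f rfl (Over.mk t) = mT f₂ rfl (Over.mk t))
      (k₂ : mT q₂ (w_mu μ f f₂ v₂) (Over.mk t) ≫ mT f rfl (Over.mk t) = mT f₂ rfl (Over.mk t)), Ex k₁ k₂ := by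
    intro Ω _ t k₁ k₂
    have HY : IsPullback (pullback.fst μ t ≫ pullback.fst gS w) (pullback.snd μ t) gS (t ≫ w) :=
      ((IsPullback.of_hasPullback μ t).flip.paste_vert (IsPullback.of_hasPullback gS w).flip).flip
    have HX : IsPullback (pullback.fst (f ≫ μ) t ≫ pullback.fst (fS ≫ gS) w) (mT f rfl (Over.mk t)) fS
        (pullback.fst μ t ≫ pullback.fst gS w) :=
      ((isPullback_mT f rfl (Over.mk t)).paste_vert (isPullback_mT fS rfl (Over.mk w))).flip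
    have HZ : IsPullback (pullback.fst (f₂ ≫ μ) t ≫ pullback.fst (f₂S ≫ gS) w) (mT f₂ rfl (Over.mk t)) f₂S
        (pullback.fst μ t ≫ pullback.fst gS w) :=
      ((isPullback_mT f₂ rfl (Over.mk t)).paste_vert (isPullback_mT f₂S rfl (Over.mk w))).flip
    have hc : ∀ {p : ZS ⟶ XS} (v : p ≫ fS ≫ gS = f₂S ≫ gS) (k : mT p v (Over.mk w) ≫ f ≫ μ = f₂ ≫ μ),
        (pullback.fst (f₂ ≫ μ) t ≫ pullback.fst (f₂S ≫ gS) w) ≫ p =
          mT (mT p v (Over.mk w)) k (Over.mk t) ≫ pullback.fst (f ≫ μ) t ≫ pullback.fst (fS ≫ gS) w := by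
      intro p v k
      have e1 : mT (mT p v (Over.mk w)) k (Over.mk t) ≫ pullback.fst (f ≫ μ) t =
          pullback.fst (f₂ ≫ μ) t ≫ mT p v (Over.mk w) := mT_fst _ _ _
      have e2 : mT p v (Over.mk w) ≫ pullback.fst (fS ≫ gS) w = pullback.fst (f₂S ≫ gS) w ≫ p := mT_fst _ _ _
      exact (Category.assoc _ _ _).trans ((congrArg (fun z => pullback.fst (f₂ ≫ μ) t ≫ z) e2.symm).trans
        ((Category.assoc _ _ _).symm.trans ((congrArg (fun z => z ≫ pullback.fst (fS ≫ gS) w) e1.symm).trans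
          (Category.assoc _ _ _))))
    exact hEx Ω (t ≫ w) HY HX HZ k₁ k₂ (hc _ _) (hc _ _)
  obtain ⟨C, hC, H⟩ := exists_compact_fam hY w μ f f₂ v₁ v₂ M hM (pullback.fst gS w)
    (IsPullback.of_hasPullback gS w) hEx'
  refine ⟨C, hC, fun y ⟨x, hx⟩ => ?_⟩
  let Ω := AlgebraicClosure (PY.left.residueField y)
  let yb : Spec (CommRingCat.of Ω) ⟶ PY.left :=
    Spec.map (CommRingCat.ofHom (algebraMap (PY.left.residueField y) Ω)) ≫ PY.left.fromSpecResidueField y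
  have hyb : ∀ z, yb z = y := fun z => by
    rw [Scheme.Hom.comp_apply]
    exact Scheme.fromSpecResidueField_apply _ _
  let s : Spec (CommRingCat.of Ω) ⟶ S := yb ≫ PY.hom
  obtain ⟨L₀, hL₀⟩ := exists_class hY s (Over.homMk yb rfl)
  obtain ⟨t, ht⟩ := K243.QcOpen.exists_lift_of_mem_range Ω (φX (Over.mk w) (mk M hM)).left (yb ≫ r.left) x (by
    rw [hx, Scheme.Hom.comp_apply, hyb])
  have hts : t ≫ w = s := by
    have h1 : (φX (Over.mk w) (mk M hM)).left ≫ PX.hom = w := Over.w (φX (Over.mk w) (mk M hM))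
    rw [← h1, ← Category.assoc, ht, Category.assoc, Over.w]
  let m : Over.mk s ⟶ Over.mk w := Over.homMk t hts
  have hcls : pu (fS ≫ gS) m (mk M hM) = pw fS rfl (Over.mk s) L₀ := by
    apply injective_class hX s
    rw [hX.nat, ← hr, hL₀]
    ext1
    exact ht
  let κ : PicF.XT μ (Over.mk t) ⟶ PicF.XT gS (Over.mk s) :=
    pullback.lift (pullback.fst μ t ≫ pullback.fst gS w) (pullback.snd μ t) (by
      rw [Category.assoc, pullback.condition, ← Category.assoc]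
      have : pullback.fst μ t ≫ pullback.snd gS w = pullback.snd μ t ≫ t := pullback.condition
      rw [this, Category.assoc]
      exact congrArg _ hts)
  have κ1 : κ ≫ pullback.fst gS s = pullback.fst μ t ≫ pullback.fst gS w := pullback.lift_fst _ _ _
  have κ2 : κ ≫ pullback.snd gS s = pullback.snd μ t := pullback.lift_snd _ _ _
  let j₀ : PicF.XT gS (Over.mk s) ⟶ PicF.XT gS (Over.mk w) := PicF.XTmap gS m
  have j01 : j₀ ≫ pullback.fst gS w = pullback.fst gS s := XTmap_fst m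
  have j02 : j₀ ≫ pullback.snd gS w = pullback.snd gS s ≫ t := XTmap_snd m
  let j : PicF.XT gS (Over.mk s) ⟶ PicF.XT μ (Over.mk t) := pullback.lift j₀ (pullback.snd gS s) j02
  have j1 : j ≫ pullback.fst μ t = j₀ := pullback.lift_fst _ _ _
  have j2 : j ≫ pullback.snd μ t = pullback.snd gS s := pullback.lift_snd _ _ _
  have hjκ : j ≫ κ = 𝟙 _ := by
    apply pullback.hom_ext
    · exact (Category.assoc _ _ _).trans ((congrArg (fun z => j ≫ z) κ1).trans ((Category.assoc _ _ _).symm.trans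
        ((congrArg (fun z => z ≫ pullback.fst gS w) j1).trans (j01.trans (Category.id_comp _).symm))))
    · exact (Category.assoc _ _ _).trans ((congrArg (fun z => j ≫ z) κ2).trans (j2.trans (Category.id_comp _).symm))
  obtain ⟨L₁, hL₁, rfl⟩ := exists_mk L₀
  let κ' : PicF.XT (f ≫ μ) (Over.mk t) ⟶ PicF.XT (fS ≫ gS) (Over.mk s) :=
    pullback.lift (pullback.fst (f ≫ μ) t ≫ pullback.fst (fS ≫ gS) w) (pullback.snd (f ≫ μ) t) (by
      have h1 : pullback.fst (f ≫ μ) t ≫ f ≫ μ = pullback.snd (f ≫ μ) t ≫ t := pullback.condition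
      have h2 : f ≫ μ = pullback.snd (fS ≫ gS) w := mT_snd fS rfl (Over.mk w)
      have h3 : pullback.fst (f ≫ μ) t ≫ pullback.snd (fS ≫ gS) w = pullback.snd (f ≫ μ) t ≫ t := by
        rw [← h2, h1]
      rw [Category.assoc, pullback.condition, ← Category.assoc, h3, Category.assoc]
      exact congrArg _ hts)
  have κ'1 : κ' ≫ pullback.fst (fS ≫ gS) s = pullback.fst (f ≫ μ) t ≫ pullback.fst (fS ≫ gS) w :=
    pullback.lift_fst _ _ _
  have κ'2 : κ' ≫ pullback.snd (fS ≫ gS) s = pullback.snd (f ≫ μ) t := pullback.lift_snd _ _ _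
  have k1 : mT f rfl (Over.mk t) ≫ κ = κ' ≫ mT fS rfl (Over.mk s) := by
    have x1 : mT f rfl (Over.mk t) ≫ pullback.fst μ t = pullback.fst (f ≫ μ) t ≫ f := mT_fst _ _ _
    have x2 : mT f rfl (Over.mk t) ≫ pullback.snd μ t = pullback.snd (f ≫ μ) t := mT_snd _ _ _
    have x3 : f ≫ pullback.fst gS w = pullback.fst (fS ≫ gS) w ≫ fS := mT_fst _ _ _
    have x4 : mT fS rfl (Over.mk s) ≫ pullback.fst gS s = pullback.fst (fS ≫ gS) s ≫ fS := mT_fst _ _ _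
    have x5 : mT fS rfl (Over.mk s) ≫ pullback.snd gS s = pullback.snd (fS ≫ gS) s := mT_snd _ _ _
    apply pullback.hom_ext
    · calc (mT f rfl (Over.mk t) ≫ κ) ≫ pullback.fst gS s = mT f rfl (Over.mk t) ≫ κ ≫ pullback.fst gS s :=
            Category.assoc _ _ _
        _ = mT f rfl (Over.mk t) ≫ pullback.fst μ t ≫ pullback.fst gS w := by rw [κ1]
        _ = (mT f rfl (Over.mk t) ≫ pullback.fst μ t) ≫ pullback.fst gS w := (Category.assoc _ _ _).symm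
        _ = (pullback.fst (f ≫ μ) t ≫ f) ≫ pullback.fst gS w := by rw [x1]
        _ = pullback.fst (f ≫ μ) t ≫ f ≫ pullback.fst gS w := Category.assoc _ _ _
        _ = pullback.fst (f ≫ μ) t ≫ pullback.fst (fS ≫ gS) w ≫ fS := by rw [x3]
        _ = (pullback.fst (f ≫ μ) t ≫ pullback.fst (fS ≫ gS) w) ≫ fS := (Category.assoc _ _ _).symm
        _ = (κ' ≫ pullback.fst (fS ≫ gS) s) ≫ fS := by rw [κ'1]
        _ = κ' ≫ pullback.fst (fS ≫ gS) s ≫ fS := Category.assoc _ _ _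
        _ = κ' ≫ mT fS rfl (Over.mk s) ≫ pullback.fst gS s := by rw [x4]
        _ = (κ' ≫ mT fS rfl (Over.mk s)) ≫ pullback.fst gS s := (Category.assoc _ _ _).symm
    · calc (mT f rfl (Over.mk t) ≫ κ) ≫ pullback.snd gS s = mT f rfl (Over.mk t) ≫ κ ≫ pullback.snd gS s :=
            Category.assoc _ _ _
        _ = mT f rfl (Over.mk t) ≫ pullback.snd μ t := by rw [κ2]
        _ = pullback.snd (f ≫ μ) t := x2
        _ = κ' ≫ pullback.snd (fS ≫ gS) s := κ'2.symm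
        _ = κ' ≫ mT fS rfl (Over.mk s) ≫ pullback.snd gS s := by rw [x5]
        _ = (κ' ≫ mT fS rfl (Over.mk s)) ≫ pullback.snd gS s := (Category.assoc _ _ _).symm
  have k2 : κ' ≫ PicF.XTmap (fS ≫ gS) m = pullback.fst (f ≫ μ) t := by
    have y1 : PicF.XTmap (fS ≫ gS) m ≫ pullback.fst (fS ≫ gS) w = pullback.fst (fS ≫ gS) s := XTmap_fst m
    have y2 : PicF.XTmap (fS ≫ gS) m ≫ pullback.snd (fS ≫ gS) w = pullback.snd (fS ≫ gS) s ≫ t := XTmap_snd m
    have y3 : f ≫ μ = pullback.snd (fS ≫ gS) w := mT_snd fS rfl (Over.mk w)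
    have y4 : pullback.fst (f ≫ μ) t ≫ f ≫ μ = pullback.snd (f ≫ μ) t ≫ t := pullback.condition
    apply pullback.hom_ext
    · calc (κ' ≫ PicF.XTmap (fS ≫ gS) m) ≫ pullback.fst (fS ≫ gS) w =
            κ' ≫ PicF.XTmap (fS ≫ gS) m ≫ pullback.fst (fS ≫ gS) w := Category.assoc _ _ _
        _ = κ' ≫ pullback.fst (fS ≫ gS) s := by rw [y1]
        _ = pullback.fst (f ≫ μ) t ≫ pullback.fst (fS ≫ gS) w := κ'1
    · calc (κ' ≫ PicF.XTmap (fS ≫ gS) m) ≫ pullback.snd (fS ≫ gS) w =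
            κ' ≫ PicF.XTmap (fS ≫ gS) m ≫ pullback.snd (fS ≫ gS) w := Category.assoc _ _ _
        _ = κ' ≫ pullback.snd (fS ≫ gS) s ≫ t := by rw [y2]
        _ = (κ' ≫ pullback.snd (fS ≫ gS) s) ≫ t := (Category.assoc _ _ _).symm
        _ = pullback.snd (f ≫ μ) t ≫ t := by rw [κ'2]
        _ = pullback.fst (f ≫ μ) t ≫ pullback.snd (fS ≫ gS) w := by rw [← y4, y3]
  have hiso : Nonempty ((Scheme.Modules.pullback (mT f rfl (Over.mk t))).obj ((Scheme.Modules.pullback κ).obj L₁) ≅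
      FGA.ET (f ≫ μ) M (Over.mk t)) := by
    have z : pull (mT f rfl (Over.mk t)) (pull κ (mk L₁ hL₁)) = pull (pullback.fst (f ≫ μ) t) (mk M hM) := by
      have z1 : pull (mT fS rfl (Over.mk s)) (mk L₁ hL₁) = pull (PicF.XTmap (fS ≫ gS) m) (mk M hM) := hcls.symm
      rw [← pull_comp, k1, pull_comp, z1, ← pull_comp, k2]
    exact (mk_eq_iff _ _).1 z
  have h1 := H Ω t ((Scheme.Modules.pullback κ).obj L₁) (Groth.Agent.Fdesc.LocGen.isInvertible_pullback κ hL₁)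
    hiso s hts j ((Category.assoc _ _ _).symm.trans ((congrArg (fun z => z ≫ pullback.fst gS w) j1).trans j01)) j2
  have h2 : pull j (mk _ (Groth.Agent.Fdesc.LocGen.isInvertible_pullback κ hL₁)) = mk L₁ hL₁ := by
    rw [← pull_mk κ hL₁, ← pull_comp, hjκ, pull_id]
  rw [h2, hL₀] at h1
  exact h1 ⟨IsLocalRing.closedPoint Ω, hyb _⟩

/-- **Quasi-compactness of the restriction map.** -/
theorem quasiCompact_res [IsAffine S] [IsNoetherian S] [IsProper gS] [IsProper fS] [IsProper f₂S]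
    [Flat (f₂S ≫ gS)] (w₁ : p₁ ≫ fS = f₂S) (w₂ : p₂ ≫ fS = f₂S) (hEx : ExBC gS fS f₂S p₁ p₂)
    (hY : RepPic gS PY φY) (hX : RepPic (fS ≫ gS) PX φX) [LocallyOfFiniteType PY.hom] [LocallyOfFiniteType PX.hom]
    (hr : ∀ (T : Over S) (c : Pic (PicF.XT gS T)), φY T c ≫ r = φX T (pw fS rfl T c)) :
    QuasiCompact r.left := by
  have key : ∀ x : PX.left, ∃ (O : Set PX.left) (C : Set PY.left), IsOpen O ∧ x ∈ O ∧ IsCompact C ∧
      ∀ y : PY.left, r.left y ∈ O → y ∈ C := by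
    intro x
    obtain ⟨𝒰, h𝒰⟩ := hX.surj (𝟙 PX)
    obtain ⟨i, v, hv⟩ := 𝒰.covers x
    obtain ⟨c, hc⟩ := h𝒰 i
    rw [Category.comp_id] at hc
    obtain ⟨B, hB, hvB, -⟩ := exists_isAffineOpen_mem_and_subset (X := (𝒰.V i).left) (x := v) (U := ⊤) trivial
    let w : (B : Scheme.{u}) ⟶ S := B.ι ≫ (𝒰.V i).hom
    let m : Over.mk w ⟶ 𝒰.V i := Over.homMk B.ι rfl
    have e1 : (φX (Over.mk w) (pu (fS ≫ gS) m c)).left = B.ι ≫ (𝒰.j i).left := by
      rw [hX.nat, hc]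
      rfl
    have i1 : IsAffine (B : Scheme.{u}) := hB
    have i2 : LocallyOfFiniteType (φX (Over.mk w) (pu (fS ≫ gS) m c)).left := by
      rw [e1]
      infer_instance
    have i3 : LocallyOfFiniteType w := by
      have e2 : w = (B.ι ≫ (𝒰.j i).left) ≫ PX.hom := by
        rw [Category.assoc, Over.w]
      rw [e2]
      infer_instance
    have i4 : IsLocallyNoetherian (B : Scheme.{u}) := LocallyOfFiniteType.isLocallyNoetherian w
    have i5 : IsNoetherian (B : Scheme.{u}) := {}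
    obtain ⟨C, hC, H⟩ := exists_compact_chart w₁ w₂ hEx hY hX hr w (pu (fS ≫ gS) m c)
    refine ⟨Set.range (φX (Over.mk w) (pu (fS ≫ gS) m c)).left, C, ?_, ?_, hC, H⟩
    · rw [e1]
      exact (B.ι ≫ (𝒰.j i).left).isOpenMap.isOpen_range
    · rw [e1]
      exact ⟨⟨v, hvB⟩, hv⟩
  choose O C hO hxO hC H using key
  refine ⟨fun U hU hUc => ?_⟩
  obtain ⟨t, -, ht⟩ := hUc.elim_nhds_subcover O fun x _ => (hO x).mem_nhds (hxO x)
  obtain ⟨K, hK, hCK⟩ := K243.QcOpen.exists_compact_open (t.isCompact_biUnion fun x _ => hC x)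
  have n1 : IsLocallyNoetherian PY.left := LocallyOfFiniteType.isLocallyNoetherian PY.hom
  have n2 : CompactSpace K := isCompact_iff_compactSpace.1 hK
  have n3 : IsNoetherian (K : Scheme.{u}) := {}
  have n4 : NoetherianSpace (K : Scheme.{u}) := inferInstance
  have h1 : r.left ⁻¹' U ⊆ K := by
    intro y hy
    obtain ⟨x, hx, hxy⟩ := Set.mem_iUnion₂.1 (ht hy)
    exact hCK (Set.mem_iUnion₂.2 ⟨x, hx, H x y hxy⟩)
  have h2 : IsCompact (K.ι ⁻¹' (r.left ⁻¹' U)) := NoetherianSpace.isCompact _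
  have h3 := h2.image K.ι.continuous
  rwa [Set.image_preimage_eq_inter_range, Scheme.Opens.range_ι, Set.inter_eq_left.2 h1] at h3

end main

end K243.QcMain
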