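import Groth.Agent.Pic13.K243.NilFinal

/-!
# Quasi-compact restriction maps between Picard schemes

For `q : A ⟶ B` over `S`, `QcRes q h`: the Picard functors of `A` and `B` are represented by schemes over `S` and the
restriction map `P_B ⟶ P_A` is quasi-compact.

* `QcRes.qc`: for all representing pairs; `QcRes.comp`, `QcRes.cancel`, `QcRes.of_isPullback`, `QcRes.of_aff`;
* `GenQc i f`: over a nonempty open of the base; `genQc_comp`, `genQc_cancel`, `genQc_shrink`, `genQc_of_isIso`.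
-/

set_option autoImplicit false
universe w u
set_option linter.dupNamespace false

open CategoryTheory CategoryTheory.Limits AlgebraicGeometry Opposite MonoidalCategory CartesianMonoidalCategory
open Groth.Agent.Ega3A.PicDiv Groth.Agent.Ega3A.PicEtSh Groth.Agent.Grpsch.PicGrp
open Groth.Agent.Ega3A.PicSheaf Groth.Agent.Ega3A.PicRep Groth.Agent.Picfga.OverRep
open Groth.Agent.Pic13.H547 Groth.Agent.Pic13.H508.SqMT Groth.Agent.Pic13.H964.Defs
open Groth.Agent.Ega3A.PicLocBase (tr tr_pu tr_injective tr_surjective locEq_tr_iff ecovLift ecovLift_w ecovMap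
  fromMap eT eT_hom_fst_fst eT_hom_fst_snd eT_hom_snd)
open Groth.Agent.Sga3B.BcPts (bcEquiv bcEquiv_comp comp_bcEquiv bcEquiv_symm_comp comp_bcEquiv_symm)
open K243.AffRes K243.NilStep

namespace K243.QcRes

variable {A B C S : Scheme.{u}} {f' : A ⟶ S} {f : B ⟶ S} {f'' : C ⟶ S}

/-- The restriction map between the Picard schemes is quasi-compact. -/
def QcRes (q : A ⟶ B) (h : q ≫ f = f') : Prop :=
  ∃ (P P' : Over S) (φ : ∀ T : Over S, Pic (PicF.XT f T) → (T ⟶ P))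
    (φ' : ∀ T : Over S, Pic (PicF.XT f' T) → (T ⟶ P')) (r : P ⟶ P'),
    RepPic f P φ ∧ RepPic f' P' φ' ∧ (∀ (T : Over S) (c : Pic (PicF.XT f T)), φ T c ≫ r = φ' T (pw q h T c)) ∧
      QuasiCompact r.left

/-- The conclusion holds for all representing pairs. -/
theorem QcRes.qc {q : A ⟶ B} {h : q ≫ f = f'} (H : QcRes q h) {P P' : Over S}
    {φ : ∀ T : Over S, Pic (PicF.XT f T) → (T ⟶ P)} {φ' : ∀ T : Over S, Pic (PicF.XT f' T) → (T ⟶ P')}
    (hP : RepPic f P φ) (hP' : RepPic f' P' φ') (r : P ⟶ P')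
    (hr : ∀ (T : Over S) (c : Pic (PicF.XT f T)), φ T c ≫ r = φ' T (pw q h T c)) :
    QuasiCompact r.left := by
  obtain ⟨P₁, P₁', φ₁, φ₁', r₁, h1, h1', hr₁, hqc⟩ := H
  obtain ⟨e, he, he2⟩ := exists_iso hP h1
  obtain ⟨e', he', he2'⟩ := exists_iso h1' hP'
  have hrr : r = e.hom ≫ r₁ ≫ e'.hom := by
    apply rep_hom_ext hP
    intro T c
    rw [hr, ← Category.assoc, he, ← Category.assoc, hr₁, he']
  have i1 : IsIso e.hom.left := inferInstanceAs (IsIso ((Over.forget S).map e.hom))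
  have i2 : IsIso e'.hom.left := inferInstanceAs (IsIso ((Over.forget S).map e'.hom))
  rw [hrr, Over.comp_left, Over.comp_left]
  infer_instance

theorem QcRes.comp {q : A ⟶ B} {h : q ≫ f = f'} {p : C ⟶ A} {h' : p ≫ f' = f''} (H : QcRes q h)
    (H' : QcRes p h') (k : (p ≫ q) ≫ f = f'') : QcRes (p ≫ q) k := by
  obtain ⟨P, P', φ, φ', r, h1, h1', hr, hqc⟩ := H
  obtain ⟨Q, Q', ψ, ψ', s, h2, h2', hs, hqc'⟩ := H'
  obtain ⟨e, he, -⟩ := exists_iso h1' h2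
  have i1 : IsIso e.hom.left := inferInstanceAs (IsIso ((Over.forget S).map e.hom))
  refine ⟨P, Q', φ, ψ', r ≫ e.hom ≫ s, h1, h2', fun T c => ?_, ?_⟩
  · rw [← Category.assoc, hr, ← Category.assoc, he, hs]
    congr 1
    rw [pw, pw, pw, ← pull_comp, mT_comp]
  · rw [Over.comp_left, Over.comp_left]
    infer_instance

/-- Base change. -/
theorem QcRes.baseChange {q : A ⟶ B} {h : q ≫ f = f'} (H : QcRes q h) {S' : Scheme.{u}} (a : S' ⟶ S)
    (q' : pullback f' a ⟶ pullback f a) (h₁ : q' ≫ pullback.snd f a = pullback.snd f' a)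
    (h₂ : q' ≫ pullback.fst f a = pullback.fst f' a ≫ q) : QcRes q' h₁ := by
  obtain ⟨P, P', φ, φ', r, h1, h1', hr, hqc⟩ := H
  refine ⟨Red.bc a P, Red.bc a P', _, _, (Over.pullback a).map r, rep_baseChange h1 a, rep_baseChange h1' a,
    fun T c => ?_, ?_⟩
  · rw [← bcEquiv_comp, hr]
    congr 2
    rw [pw, pw, tr, tr, ← pull_comp, ← pull_comp, mT_eT q h a q' h₁ h₂]
  · exact MorphismProperty.of_isPullback (isPullback_map_left a r).flip hqc

/-- Isomorphism invariance. -/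
theorem QcRes.of_iso {A₁ B₁ : Scheme.{u}} {f₁' : A₁ ⟶ S} {f₁ : B₁ ⟶ S} {q₁ : A₁ ⟶ B₁} {h₁ : q₁ ≫ f₁ = f₁'}
    {q : A ⟶ B} {h : q ≫ f = f'} (H : QcRes q h) (eA : A₁ ≅ A) (eB : B₁ ≅ B) (wA : eA.hom ≫ f' = f₁')
    (wB : eB.hom ≫ f = f₁) (w : q₁ ≫ eB.hom = eA.hom ≫ q) : QcRes q₁ h₁ := by
  obtain ⟨P, P', φ, φ', r, h1, h1', hr, hqc⟩ := H
  have wA' : eA.inv ≫ f₁' = f' := by rw [← wA, eA.inv_hom_id_assoc]
  have wB' : eB.inv ≫ f₁ = f := by rw [← wB, eB.inv_hom_id_assoc]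
  refine ⟨P, P', _, _, r, rep_ofIso h1 eB wB wB', rep_ofIso h1' eA wA wA', fun T c => ?_, hqc⟩
  rw [hr]
  congr 1
  refine pw_pw wB' h h₁ wA' ?_ T c
  rw [← cancel_epi eA.hom, ← cancel_mono eB.hom]
  simp [w]

/-- Base change, with arbitrary cartesian squares. -/
theorem QcRes.of_isPullback {S' A₁ B₁ : Scheme.{u}} {f₁' : A₁ ⟶ S'} {f₁ : B₁ ⟶ S'} {q₁ : A₁ ⟶ B₁}
    {h₁ : q₁ ≫ f₁ = f₁'} {q : A ⟶ B} {h : q ≫ f = f'} (H : QcRes q h) {a : S' ⟶ S} {vA : A₁ ⟶ A} {vB : B₁ ⟶ B}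
    (HA : IsPullback vA f₁' f' a) (HB : IsPullback vB f₁ f a) (w : q₁ ≫ vB = vA ≫ q) : QcRes q₁ h₁ := by
  have hw : (pullback.fst f' a ≫ q) ≫ f = pullback.snd f' a ≫ a := by
    rw [Category.assoc, h, pullback.condition]
  have H1 := H.baseChange a (pullback.lift (pullback.fst f' a ≫ q) (pullback.snd f' a) hw)
    (pullback.lift_snd _ _ _) (pullback.lift_fst _ _ _)
  refine H1.of_iso HA.isoPullback HB.isoPullback HA.isoPullback_hom_snd HB.isoPullback_hom_snd ?_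
  apply pullback.hom_ext
  · rw [Category.assoc, HB.isoPullback_hom_fst, w, Category.assoc, pullback.lift_fst, HA.isoPullback_hom_fst_assoc]
  · rw [Category.assoc, HB.isoPullback_hom_snd, h₁, Category.assoc, pullback.lift_snd, HA.isoPullback_hom_snd]

/-- An isomorphism has quasi-compact restriction map. -/
theorem QcRes.of_isIso (q : A ⟶ B) [IsIso q] (h : q ≫ f = f') (hf : ∃ P : Over S, PicRel.RepresentedBy f P) :
    QcRes q h := by
  obtain ⟨P, hP⟩ := hf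
  obtain ⟨φ, hφ⟩ := exists_repPic f hP
  have he' : (asIso q).inv ≫ f' = f := by rw [← h]; simp
  refine ⟨P, P, φ, _, 𝟙 P, hφ, rep_ofIso hφ (asIso q) h he', fun T c => ?_, ?_⟩
  · rw [Category.comp_id, pw, pw, ← pull_comp]
    have : mT (asIso q).inv he' T ≫ mT q h T = 𝟙 _ := by
      apply pullback.hom_ext
      · rw [Category.assoc, mT_fst, mT_fst_assoc, asIso_inv, IsIso.inv_hom_id, Category.comp_id, Category.id_comp]
      · rw [Category.assoc, mT_snd, mT_snd, Category.id_comp]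
    rw [this, pull_id]
  · rw [Over.id_left]
    infer_instance

/-- Affine restriction maps are quasi-compact. -/
theorem QcRes.of_aff {q : A ⟶ B} {h : q ≫ f = f'} (H : AffRes q h) : QcRes q h := by
  obtain ⟨P, P', φ, φ', r, h1, h1', hr, haff⟩ := H
  exact ⟨P, P', φ, φ', r, h1, h1', hr, inferInstance⟩

/-- Cancellation. -/
theorem QcRes.cancel {q : A ⟶ B} {h : q ≫ f = f'} {p : C ⟶ A} {h' : p ≫ f' = f''} {k : (p ≫ q) ≫ f = f''}
    (H : QcRes (p ≫ q) k) (hG : ∃ P : Over S, PicRel.RepresentedBy f' P ∧ QuasiSeparated P.hom) : QcRes q h := by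
  obtain ⟨P, Q, φ, ψ, r, h1, h2, hr, hqc⟩ := H
  obtain ⟨P', hP', hs⟩ := hG
  obtain ⟨φ', h1'⟩ := exists_repPic _ hP'
  obtain ⟨a, ha⟩ := exists_res q h h1 h1'
  obtain ⟨b, hb⟩ := exists_res p h' h1' h2
  have hab : a ≫ b = r := by
    apply rep_hom_ext h1
    intro T c
    rw [← Category.assoc, ha, hb, hr, pw, pw, pw, ← pull_comp, mT_comp]
  refine ⟨P, P', φ, φ', a, h1, h1', ha, ?_⟩
  have i1 : QuasiSeparated (b.left ≫ Q.hom) := by
    rw [Over.w]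
    exact hs
  have i2 : QuasiSeparated b.left := QuasiSeparated.of_comp b.left Q.hom
  have i3 : QuasiCompact (a.left ≫ b.left) := by
    rw [← Over.comp_left, hab]
    exact hqc
  exact QuasiCompact.of_comp a.left b.left

/-- The restriction map is generically quasi-compact. -/
def GenQc {X₀ X S : Scheme.{u}} (i : X₀ ⟶ X) (f : X ⟶ S) : Prop :=
  ∃ V : S.Opens, (V : Set S).Nonempty ∧ QcRes (bm i f V.ι) (bm_snd i f V.ι)

/-- A restriction map over a smaller base, through cartesian squares. -/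
theorem qcRes_trans {X₀ X S T₁ T₂ A₁ B₁ : Scheme.{u}} {i : X₀ ⟶ X} {f : X ⟶ S} {t₁ : T₁ ⟶ S}
    {fA : A₁ ⟶ T₁} {fB : B₁ ⟶ T₁} {q₁ : A₁ ⟶ B₁} {h₁ : q₁ ≫ fB = fA} (H : QcRes q₁ h₁)
    {vA : A₁ ⟶ X₀} {vB : B₁ ⟶ X} (HA : IsPullback vA fA (i ≫ f) t₁) (HB : IsPullback vB fB f t₁)
    (w₁ : q₁ ≫ vB = vA ≫ i) (t₂ : T₂ ⟶ S) (a : T₂ ⟶ T₁) (ha : a ≫ t₁ = t₂) :
    QcRes (bm i f t₂) (bm_snd i f t₂) := by
  have hA : pullback.fst (i ≫ f) t₂ ≫ i ≫ f = (pullback.snd (i ≫ f) t₂ ≫ a) ≫ t₁ := by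
    rw [Category.assoc, ha, pullback.condition]
  have hB : pullback.fst f t₂ ≫ f = (pullback.snd f t₂ ≫ a) ≫ t₁ := by
    rw [Category.assoc, ha, pullback.condition]
  have HA' : IsPullback (HA.lift _ _ hA) (pullback.snd (i ≫ f) t₂) fA a := by
    refine IsPullback.of_right (t := HA) ?_ (HA.lift_snd _ _ _)
    rw [HA.lift_fst, ha]
    exact IsPullback.of_hasPullback _ _
  have HB' : IsPullback (HB.lift _ _ hB) (pullback.snd f t₂) fB a := by
    refine IsPullback.of_right (t := HB) ?_ (HB.lift_snd _ _ _)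
    rw [HB.lift_fst, ha]
    exact IsPullback.of_hasPullback _ _
  refine H.of_isPullback HA' HB' ?_
  apply HB.hom_ext
  · rw [Category.assoc, HB.lift_fst, bm_fst, Category.assoc, w₁, HA.lift_fst_assoc]
  · rw [Category.assoc, HB.lift_snd, ← Category.assoc, bm_snd, Category.assoc, h₁, HA.lift_snd]

/-- Over a smaller open. -/
theorem qcRes_of_le {X₀ X S : Scheme.{u}} {i : X₀ ⟶ X} {f : X ⟶ S} {V W : S.Opens} (hW : W ≤ V)
    (H : QcRes (bm i f V.ι) (bm_snd i f V.ι)) : QcRes (bm i f W.ι) (bm_snd i f W.ι) :=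
  qcRes_trans H (IsPullback.of_hasPullback _ _) (IsPullback.of_hasPullback _ _) (bm_fst i f V.ι) W.ι
    (S.homOfLE hW) (S.homOfLE_ι hW)

/-- Shrinking the base, with a base change `i'` of `i`. -/
theorem genQc_shrink {X₀ X S : Scheme.{u}} (i : X₀ ⟶ X) (f : X ⟶ S) (V : S.Opens) {X₀' : Scheme.{u}}
    {g₀ : X₀' ⟶ X₀} {i' : X₀' ⟶ pullback f V.ι} (H : IsPullback i' g₀ (pullback.fst f V.ι) i)
    (h : GenQc i' (pullback.snd f V.ι)) : GenQc i f := by
  obtain ⟨V', hV', h⟩ := h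
  refine ⟨V.ι ''ᵁ V', ?_, ?_⟩
  · obtain ⟨x, hx⟩ := hV'
    exact ⟨V.ι x, ⟨x, hx, rfl⟩⟩
  have H1 := (IsPullback.of_hasPullback (pullback.snd f V.ι) V'.ι).paste_horiz
    (IsPullback.of_hasPullback f V.ι)
  have H2 : IsPullback g₀ (i' ≫ pullback.snd f V.ι) (i ≫ f) V.ι :=
    H.flip.paste_vert (IsPullback.of_hasPullback f V.ι)
  have H3 := (IsPullback.of_hasPullback (i' ≫ pullback.snd f V.ι) V'.ι).paste_horiz H2
  have hw : (V.ι.isoImage V').inv ≫ V'.ι ≫ V.ι = (V.ι ''ᵁ V').ι := by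
    rw [Iso.inv_comp_eq]
    exact (V.ι.isoImage_hom_ι V').symm
  refine qcRes_trans h H3 H1 ?_ _ (V.ι.isoImage V').inv hw
  rw [← Category.assoc, bm_fst, Category.assoc, Category.assoc, H.w]

theorem genQc_comp {X₀ X₁ X S : Scheme.{u}} [IrreducibleSpace S] (i : X₀ ⟶ X₁) (j : X₁ ⟶ X) (f : X ⟶ S)
    (h : GenQc j f) (h' : GenQc i (j ≫ f)) : GenQc (i ≫ j) f := by
  obtain ⟨V, hV, h⟩ := h
  obtain ⟨V', hV', h'⟩ := h'
  refine ⟨V ⊓ V', nonempty_preirreducible_inter V.isOpen V'.isOpen hV hV', ?_⟩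
  have h1 := qcRes_of_le (inf_le_left : V ⊓ V' ≤ V) h
  have h2 := qcRes_of_le (inf_le_right : V ⊓ V' ≤ V') h'
  have h3 := h1.comp h2 (by rw [Category.assoc, bm_snd, bm_snd])
  have HA : IsPullback (pullback.fst ((i ≫ j) ≫ f) (V ⊓ V').ι) (pullback.snd ((i ≫ j) ≫ f) (V ⊓ V').ι)
      (i ≫ j ≫ f) (V ⊓ V').ι := by
    rw [← Category.assoc i j f]
    exact IsPullback.of_hasPullback _ _
  refine h3.of_iso HA.isoPullback (Iso.refl _) HA.isoPullback_hom_snd (Category.id_comp _) ?_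
  rw [Iso.refl_hom, Category.comp_id]
  have e1 : (HA.isoPullback.hom ≫ bm i (j ≫ f) (V ⊓ V').ι ≫ bm j f (V ⊓ V').ι) ≫ pullback.fst f (V ⊓ V').ι =
      pullback.fst ((i ≫ j) ≫ f) (V ⊓ V').ι ≫ i ≫ j := by
    simp only [Category.assoc, bm_fst]
    have e3 : bm i (j ≫ f) (V ⊓ V').ι ≫ pullback.fst (j ≫ f) (V ⊓ V').ι ≫ j =
        pullback.fst (i ≫ j ≫ f) (V ⊓ V').ι ≫ i ≫ j :=
      (Category.assoc _ _ _).symm.trans ((congrArg (fun z => z ≫ j) (bm_fst i (j ≫ f) (V ⊓ V').ι)).trans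
        (Category.assoc _ _ _))
    rw [e3]
    exact HA.isoPullback_hom_fst_assoc _
  have e2 : (HA.isoPullback.hom ≫ bm i (j ≫ f) (V ⊓ V').ι ≫ bm j f (V ⊓ V').ι) ≫ pullback.snd f (V ⊓ V').ι =
      pullback.snd ((i ≫ j) ≫ f) (V ⊓ V').ι := by
    simp only [Category.assoc, bm_snd]
    exact HA.isoPullback_hom_snd
  apply pullback.hom_ext
  · exact (bm_fst _ _ _).trans e1.symm
  · exact (bm_snd _ _ _).trans e2.symm

theorem genQc_of_isIso {X₀ X S : Scheme.{u}} (i : X₀ ⟶ X) (f : X ⟶ S) [IsIso i] [IsNoetherian S] [IsIntegral S]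
    [IsProper f] : GenQc i f := by
  obtain ⟨V, hV, P, hP, -⟩ := genGood f
  have : IsIso (bm i f V.ι) := by
    have H : IsPullback (bm i f V.ι) (pullback.fst (i ≫ f) V.ι) (pullback.fst f V.ι) i := by
      refine (IsPullback.of_bot ?_ (bm_fst i f V.ι).symm (IsPullback.of_hasPullback f V.ι)).flip
      rw [bm_snd]
      exact IsPullback.of_hasPullback (i ≫ f) V.ι
    exact H.isIso_fst_of_isIso
  exact ⟨V, hV, QcRes.of_isIso _ _ ⟨P, hP⟩⟩

/-- Representing schemes over a smaller open. -/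
theorem exists_sep_of_good {X S : Scheme.{u}} {f : X ⟶ S} {V W : S.Opens} (hW : W ≤ V)
    (h : Good (pullback.snd f V.ι)) : ∃ P : Over W.toScheme, PicRel.RepresentedBy (pullback.snd f W.ι) P ∧
      IsSeparated P.hom ∧ LocallyOfFiniteType P.hom := by
  obtain ⟨P₁, hP₁, hs, hl, -⟩ := h
  obtain ⟨φ₁, h₁⟩ := exists_repPic _ hP₁
  have h2 := rep_baseChange h₁ (S.homOfLE hW)
  have H1 : IsPullback (pullback.fst (pullback.snd f V.ι) (S.homOfLE hW) ≫ pullback.fst f V.ι)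
      (pullback.snd (pullback.snd f V.ι) (S.homOfLE hW)) f W.ι := by
    have := (IsPullback.of_hasPullback (pullback.snd f V.ι) (S.homOfLE hW)).paste_horiz
      (IsPullback.of_hasPullback f V.ι)
    rwa [S.homOfLE_ι] at this
  have h3 := rep_ofIso (f₁ := pullback.snd f W.ι) h2 (H1.isoPullback).symm H1.isoPullback_inv_snd
    H1.isoPullback_hom_snd
  exact ⟨Red.bc (S.homOfLE hW) P₁, representedBy_of_repPic _ h3,
    inferInstanceAs (IsSeparated (pullback.snd P₁.hom (S.homOfLE hW))),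
    inferInstanceAs (LocallyOfFiniteType (pullback.snd P₁.hom (S.homOfLE hW)))⟩

theorem genQc_of_genAff {X₀ X S : Scheme.{u}} {i : X₀ ⟶ X} {f : X ⟶ S} (h : GenAff i f) : GenQc i f := by
  obtain ⟨V, hV, H⟩ := h
  exact ⟨V, hV, QcRes.of_aff H⟩

theorem genQc_cancel {X₀ X₁ X S : Scheme.{u}} [IsNoetherian S] [IsIntegral S] (i : X₀ ⟶ X₁) (j : X₁ ⟶ X)
    (f : X ⟶ S) [IsProper (j ≫ f)] (h : GenQc (i ≫ j) f) : GenQc j f := by
  obtain ⟨V, hV, h⟩ := h
  obtain ⟨V', hV', h'⟩ := genGood (j ≫ f)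
  refine ⟨V ⊓ V', nonempty_preirreducible_inter V.isOpen V'.isOpen hV hV', ?_⟩
  have h1 := qcRes_of_le (inf_le_left : V ⊓ V' ≤ V) h
  obtain ⟨P, hP, hs, -⟩ := exists_sep_of_good (inf_le_right : V ⊓ V' ≤ V') h'
  have HA : IsPullback (pullback.fst ((i ≫ j) ≫ f) (V ⊓ V').ι) (pullback.snd ((i ≫ j) ≫ f) (V ⊓ V').ι)
      (i ≫ j ≫ f) (V ⊓ V').ι := by
    rw [← Category.assoc i j f]
    exact IsPullback.of_hasPullback _ _
  have e1 : (HA.isoPullback.hom ≫ bm i (j ≫ f) (V ⊓ V').ι ≫ bm j f (V ⊓ V').ι) ≫ pullback.fst f (V ⊓ V').ι =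
      pullback.fst ((i ≫ j) ≫ f) (V ⊓ V').ι ≫ i ≫ j := by
    simp only [Category.assoc, bm_fst]
    have e3 : bm i (j ≫ f) (V ⊓ V').ι ≫ pullback.fst (j ≫ f) (V ⊓ V').ι ≫ j =
        pullback.fst (i ≫ j ≫ f) (V ⊓ V').ι ≫ i ≫ j :=
      (Category.assoc _ _ _).symm.trans ((congrArg (fun z => z ≫ j) (bm_fst i (j ≫ f) (V ⊓ V').ι)).trans
        (Category.assoc _ _ _))
    rw [e3]
    exact HA.isoPullback_hom_fst_assoc _
  have e2 : (HA.isoPullback.hom ≫ bm i (j ≫ f) (V ⊓ V').ι ≫ bm j f (V ⊓ V').ι) ≫ pullback.snd f (V ⊓ V').ι =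
      pullback.snd ((i ≫ j) ≫ f) (V ⊓ V').ι := by
    simp only [Category.assoc, bm_snd]
    exact HA.isoPullback_hom_snd
  have e : bm (i ≫ j) f (V ⊓ V').ι = HA.isoPullback.hom ≫ bm i (j ≫ f) (V ⊓ V').ι ≫ bm j f (V ⊓ V').ι := by
    apply pullback.hom_ext
    · exact (bm_fst _ _ _).trans e1.symm
    · exact (bm_snd _ _ _).trans e2.symm
  have h2 : QcRes (bm i (j ≫ f) (V ⊓ V').ι ≫ bm j f (V ⊓ V').ι)
      (by rw [Category.assoc, bm_snd, bm_snd]) := by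
    refine h1.of_iso HA.isoPullback.symm (Iso.refl _) HA.isoPullback_inv_snd (Category.id_comp _) ?_
    rw [Iso.refl_hom, Category.comp_id, Iso.symm_hom, e, Iso.inv_hom_id_assoc]
  exact h2.cancel (h' := bm_snd i (j ≫ f) (V ⊓ V').ι) ⟨P, hP, inferInstance⟩

end K243.QcRes
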