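import Groth.Agent.Pic13.K243.QcStep
import Groth.Agent.Divis.StalkMod
import Groth.Agent.QCohSup.K27.SubAlg
import Groth.Agent.Ega2.H278.AlgOf
import Groth.Agent.EGA2.K35.GammaIso
import Groth.Agent.Pic13.H504.Push

/-!
# The spectrum of the equalizer of `f_* O_X ⇉ f₂_* O_Z`

-/

set_option autoImplicit false
universe u

open CategoryTheory CategoryTheory.Limits AlgebraicGeometry Opposite TopologicalSpace

namespace K243.QcSpec

open K27.QCAlgBasic K27.SubAlg K243.QcEx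

variable {X Y Z : Scheme.{u}} {f : X ⟶ Y} {f₂ : Z ⟶ Y} {p p₁ p₂ : Z ⟶ X}

/-- Pullback of functions along `p`. -/
noncomputable def pl (w : p ≫ f = f₂) (U : Y.Opens) : Γ(X, f ⁻¹ᵁ U) →+* Γ(Z, f₂ ⁻¹ᵁ U) :=
  (p.appLE (f ⁻¹ᵁ U) (f₂ ⁻¹ᵁ U) (le_w w U)).hom

theorem pl_res (w : p ≫ f = f₂) {U V : Y.Opens} (h : V ≤ U) (s : Γ(X, f ⁻¹ᵁ U)) :
    pl w V (X.presheaf.map (homOfLE (f.preimage_mono h)).op s) =
      Z.presheaf.map (homOfLE (f₂.preimage_mono h)).op (pl w U s) := by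
  rw [pl, pl, ← CommRingCat.comp_apply, ← CommRingCat.comp_apply, Scheme.Hom.map_appLE, Scheme.Hom.appLE_map]

theorem pl_str (w : p ≫ f = f₂) (U : Y.Opens) (r : Γ(Y, U)) : pl w U (f.app U r) = f₂.app U r := by
  subst w
  change (p.appLE (f ⁻¹ᵁ U) (p ⁻¹ᵁ (f ⁻¹ᵁ U)) le_rfl).hom (f.app U r) = (p.app (f ⁻¹ᵁ U)) (f.app U r)
  rw [Scheme.Hom.appLE_eq_app]

/-- The equalizer. -/
noncomputable def N [QuasiCompact f] [QuasiSeparated f] (w₁ : p₁ ≫ f = f₂) (w₂ : p₂ ≫ f = f₂) :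
    SubR (RelSpec.QCAlg.directImage f) where
  obj U := (RingHom.eqLocus (pl w₁ U) (pl w₂ U) : Subring Γ(X, f ⁻¹ᵁ U))
  str_mem U r := by
    change pl w₁ U (f.app U r) = pl w₂ U (f.app U r)
    rw [pl_str, pl_str]
  map_mem {U V} h {s} hs := by
    change pl w₁ V (X.presheaf.map (homOfLE (f.preimage_mono h)).op s) =
      pl w₂ V (X.presheaf.map (homOfLE (f.preimage_mono h)).op s)
    rw [pl_res w₁ h, pl_res w₂ h]
    exact congrArg _ hs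
  local_mem {U} s h := by
    change pl w₁ U s = pl w₂ U s
    choose V hV hxV hs using h
    refine TopCat.Sheaf.eq_of_locally_eq' Z.sheaf (fun x : U => f₂ ⁻¹ᵁ (V x.1 x.2)) (f₂ ⁻¹ᵁ U)
      (fun x => homOfLE (f₂.preimage_mono (hV x.1 x.2))) ?_ _ _ fun x => ?_
    · intro z hz
      exact Opens.mem_iSup.2 ⟨⟨f₂ z, hz⟩, hxV _ _⟩
    · have h1 := hs x.1 x.2
      change pl w₁ _ (X.presheaf.map (homOfLE (f.preimage_mono (hV x.1 x.2))).op s) =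
        pl w₂ _ (X.presheaf.map (homOfLE (f.preimage_mono (hV x.1 x.2))).op s) at h1
      rw [pl_res w₁ (hV x.1 x.2), pl_res w₂ (hV x.1 x.2)] at h1
      exact h1

theorem mem_N [QuasiCompact f] [QuasiSeparated f] (w₁ : p₁ ≫ f = f₂) (w₂ : p₂ ≫ f = f₂) (U : Y.Opens)
    (s : Γ(X, f ⁻¹ᵁ U)) : s ∈ (N w₁ w₂).obj U ↔ pl w₁ U s = pl w₂ U s := Iff.rfl

theorem qc_N [QuasiCompact f] [QuasiSeparated f] [QuasiCompact f₂] (w₁ : p₁ ≫ f = f₂) (w₂ : p₂ ≫ f = f₂) :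
    (N w₁ w₂).QC := by
  intro W hW r s hs
  have h1 : pl w₁ _ (X.presheaf.map (homOfLE (f.preimage_mono (Y.basicOpen_le r))).op s) =
    pl w₂ _ (X.presheaf.map (homOfLE (f.preimage_mono (Y.basicOpen_le r))).op s) := hs
  rw [pl_res w₁ (Y.basicOpen_le r), pl_res w₂ (Y.basicOpen_le r)] at h1
  obtain ⟨n, hn⟩ := exists_pow_mul_eq_zero_of_res_basicOpen_eq_zero_of_isCompact Z (U := f₂ ⁻¹ᵁ W)
    (f₂.isCompact_preimage hW.isCompact) (pl w₁ W s - pl w₂ W s) (f₂.app W r) (by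
      have e : Z.basicOpen (f₂.app W r) ≤ f₂ ⁻¹ᵁ (Y.basicOpen r) := (Scheme.preimage_basicOpen f₂ r).ge
      have h2 := congrArg (Z.presheaf.map (homOfLE e).op) h1
      rw [← CommRingCat.comp_apply, ← CommRingCat.comp_apply, ← Functor.map_comp] at h2
      change Z.presheaf.map (homOfLE _).op (pl w₁ W s - pl w₂ W s) = 0
      rw [map_sub, sub_eq_zero]
      exact h2)
  refine ⟨n, ?_⟩
  change pl w₁ W (f.app W r ^ n * (show Γ(X, f ⁻¹ᵁ W) from s)) =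
    pl w₂ W (f.app W r ^ n * (show Γ(X, f ⁻¹ᵁ W) from s))
  rw [map_mul, map_mul, map_pow, map_pow, pl_str, pl_str, ← sub_eq_zero, ← mul_sub, hn]

/-- **Factorization through the spectrum of the equalizer.** -/
theorem exists_fac [QuasiCompact f] [QuasiSeparated f] [QuasiCompact f₂] (w₁ : p₁ ≫ f = f₂) (w₂ : p₂ ≫ f = f₂) :
    ∃ (Y' : Scheme.{u}) (q : X ⟶ Y') (r : Y' ⟶ Y) (e : q ≫ r = f), IsAffineHom r ∧ p₁ ≫ q = p₂ ≫ q ∧
      (∀ U : Y.Opens, Function.Injective (q.appLE (r ⁻¹ᵁ U) (f ⁻¹ᵁ U) (le_w e U)).hom) ∧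
      ∀ (U : Y.Opens) (s : Γ(X, f ⁻¹ᵁ U)), pl w₁ U s = pl w₂ U s ↔
        ∃ t, (q.appLE (r ⁻¹ᵁ U) (f ⁻¹ᵁ U) (le_w e U)).hom t = s := by
  let C : RelSpec.QCAlg Y := (N w₁ w₂).toQCAlg (qc_N w₁ w₂)
  let ψ : C ⟶ RelSpec.QCAlg.directImage f := (N w₁ w₂).ι (qc_N w₁ w₂)
  have hc : C.π.c ≫ C.gammaMap ≫ ψ.hom = f.c := by
    rw [← Category.assoc, C.π_c_gammaMap, ψ.comm]
    rfl
  obtain ⟨⟨q, e⟩, hq⟩ := Groth.Agent.Ega2.H278.AlgOf.surjective C.π f ⟨C.gammaMap ≫ ψ.hom, hc⟩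
  have hq' : AffAlg.algHom C.π f q e = C.gammaMap ≫ ψ.hom := congrArg Subtype.val hq
  have hU : ∀ U : Y.Opens, q.appLE (C.π ⁻¹ᵁ U) (f ⁻¹ᵁ U) (le_w e U) =
      C.gammaMap.app (op U) ≫ ψ.hom.app (op U) := by
    intro U
    rw [← Groth.Agent.Ega2.H278.AlgOf.algHom_app C.π f q e, hq']
    rfl
  have hiso : IsIso C.gammaMap := K35.GammaIso.isIso_gammaMap C
  have hbij : ∀ U : Y.Opens, Function.Bijective (C.gammaMap.app (op U)).hom := fun U =>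
    ConcreteCategory.bijective_of_isIso _
  have hval : ∀ (U : Y.Opens) (t : Γ(C.spec, C.π ⁻¹ᵁ U)),
      pl w₁ U ((q.appLE (C.π ⁻¹ᵁ U) (f ⁻¹ᵁ U) (le_w e U)).hom t) =
        pl w₂ U ((q.appLE (C.π ⁻¹ᵁ U) (f ⁻¹ᵁ U) (le_w e U)).hom t) := by
    intro U t
    rw [hU]
    exact ((C.gammaMap.app (op U)).hom t).2
  refine ⟨C.spec, q, C.π, e, inferInstance, ?_, fun U => ?_, fun U s => ⟨fun hs => ?_, ?_⟩⟩
  · have e1 : (p₁ ≫ q) ≫ C.π = f₂ := by rw [Category.assoc, e, w₁]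
    have e2 : (p₂ ≫ q) ≫ C.π = f₂ := by rw [Category.assoc, e, w₂]
    have h1 := Groth.Agent.Ega2.H278.AlgOf.injective C.π f₂ (a₁ := ⟨p₁ ≫ q, e1⟩) (a₂ := ⟨p₂ ≫ q, e2⟩) (by
      refine Subtype.ext (Groth.Agent.Ega2.H278.AlgOf.hom_ext C.π f₂ _ _ fun V => ?_)
      change (AffAlg.algHom C.π f₂ (p₁ ≫ q) e1).app _ = (AffAlg.algHom C.π f₂ (p₂ ≫ q) e2).app _
      rw [Groth.Agent.Ega2.H278.AlgOf.algHom_app, Groth.Agent.Ega2.H278.AlgOf.algHom_app]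
      ext t
      have h2 := hval V.1 t
      rw [pl, pl, ← CommRingCat.comp_apply, ← CommRingCat.comp_apply, Scheme.Hom.appLE_comp_appLE,
        Scheme.Hom.appLE_comp_appLE] at h2
      exact h2)
    exact congrArg Subtype.val h1
  · rw [hU]
    exact ((N w₁ w₂).ι_injective (qc_N w₁ w₂) U).comp (hbij U).1
  · obtain ⟨t, ht⟩ := (hbij U).2 (⟨s, hs⟩ : (N w₁ w₂).obj U)
    refine ⟨t, ?_⟩
    rw [hU]
    exact congrArg Subtype.val ht
  · rintro ⟨t, rfl⟩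
    exact hval U t

theorem finite_of_inj {A B C : Type u} [CommRing A] [CommRing B] [CommRing C] [IsNoetherianRing A] (g : A →+* B)
    (h : B →+* C) (hh : Function.Injective h) (hfin : (h.comp g).Finite) : g.Finite := by
  algebraize [g, h, h.comp g]
  have : Module.Finite A C := hfin
  have : IsNoetherian A C := isNoetherian_of_isNoetherianRing_of_finite A C
  exact Module.Finite.of_injective (IsScalarTower.toAlgHom A B C).toLinearMap hh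

theorem finite_app [IsLocallyNoetherian Y] (f : X ⟶ Y) [IsProper f] {U : Y.Opens} (hU : IsAffineOpen U) :
    (f.app U).hom.Finite := by
  have h1 : Coh.IsCoh ((Scheme.Modules.pushforward f).obj (Coh.structureModule X)) :=
    Groth.Agent.Pic13.H504.Push.isCoh_pushforward f _
      (K243.QcFam.isCoh_of_isInvertible (K243.QcStep.isInvertible_o X))
  have h2 := Groth.Agent.Divis.StalkMod.finite_sections h1 hU
  algebraize [(f.app U).hom]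
  exact h2

open K243.QcArr K243.QcKer K243.QcGen Groth.Agent.Fdesc.LocGen in
theorem oMap_dl (w₁ : p₁ ≫ f = f₂) (w₂ : p₂ ≫ f = f₂) : oMap f ≫ dl f f₂ (oA p₁) (oA p₂) w₁ w₂ = 0 := by
  apply Scheme.Modules.hom_ext
  intro U
  ext s
  change (dl f f₂ (oA p₁) (oA p₂) w₁ w₂).app U ((oMap f).app U s) = 0
  refine (dl_app w₁ w₂ U _).trans (sub_eq_zero.2 ?_)
  have e1 : f ⁻¹ᵁ U ≤ (Arr.base (oA f)) ⁻¹ᵁ U := le_rfl
  have h3 : ∀ (p : Z ⟶ X) (w : p ≫ f = f₂), Arr.sec (oA p) (f ⁻¹ᵁ U) (f₂ ⁻¹ᵁ U) (le_w w U)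
      ((oMap f).app U s) = Arr.sec (oA f₂) U (f₂ ⁻¹ᵁ U) le_rfl s := by
    intro p w
    subst w
    have e2 : (p ≫ f) ⁻¹ᵁ U ≤ (Arr.base (oA p ≫ oA f)) ⁻¹ᵁ U := le_rfl
    have h4 := comp_sec (oA p) (oA f) e2 e1 (le_w rfl U) s
    have h5 : Arr.sec (oA f) U (f ⁻¹ᵁ U) e1 s = (oMap f).app U s := Arr.sec_self (oA f) U s
    rw [h5] at h4
    rw [← h4]
    exact Arr.sec_congr (oA_comp p f) _ _ _ _ s
  rw [h3 p₁ w₁, h3 p₂ w₂]

open K243.QcArr K243.QcKer K243.QcGen Groth.Agent.Fdesc.LocGen in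
theorem ex_fac [IsLocallyNoetherian Y] {Y' : Scheme.{u}} {q : X ⟶ Y'} {r : Y' ⟶ Y} (e : q ≫ r = f) [IsFinite r]
    [IsProper q] {q₂ : Z ⟶ Y'} [IsProper q₂] (v₁ : p₁ ≫ q = q₂) (v₂ : p₂ ≫ q = q₂) (w₁ : p₁ ≫ f = f₂)
    (w₂ : p₂ ≫ f = f₂) (hinj : ∀ U : Y.Opens, Function.Injective (q.appLE (r ⁻¹ᵁ U) (f ⁻¹ᵁ U) (le_w e U)).hom)
    (hex : ∀ (U : Y.Opens) (s : Γ(X, f ⁻¹ᵁ U)), pl w₁ U s = pl w₂ U s →
        ∃ t, (q.appLE (r ⁻¹ᵁ U) (f ⁻¹ᵁ U) (le_w e U)).hom t = s) : Ex v₁ v₂ := by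
  have hN : IsLocallyNoetherian Y' := LocallyOfFiniteType.isLocallyNoetherian r
  let v := dl q q₂ (oA p₁) (oA p₂) v₁ v₂
  have cF : Coh.IsCoh ((Scheme.Modules.pushforward q).obj (Coh.structureModule X)) :=
    Groth.Agent.Pic13.H504.Push.isCoh_pushforward q _
      (K243.QcFam.isCoh_of_isInvertible (K243.QcStep.isInvertible_o X))
  have cG : Coh.IsCoh ((Scheme.Modules.pushforward q₂).obj (Coh.structureModule Z)) :=
    Groth.Agent.Pic13.H504.Push.isCoh_pushforward q₂ _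
      (K243.QcFam.isCoh_of_isInvertible (K243.QcStep.isInvertible_o Z))
  have cL : Coh.IsCoh (kernel v) := Groth.Agent.Sga67.CohBasic.isCoh_kernel _ cF cG.1
  let φ : Coh.structureModule Y' ⟶ kernel v := kernel.lift v (oMap q) (oMap_dl v₁ v₂)
  have hφ : φ ≫ kernel.ι v = oMap q := kernel.lift_ι _ _ _
  have hφ' : ∀ (V : Y'.Opens) (t : Γ(Coh.structureModule Y', V)),
      (kernel.ι v).app V (φ.app V t) = (oMap q).app V t := by
    intro V t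
    rw [← hφ]
    rfl
  have i1 : (Coh.structureModule Y').IsQuasicoherent :=
    (K243.QcFam.isCoh_of_isInvertible (K243.QcStep.isInvertible_o Y')).1
  have i2 : (kernel v).IsQuasicoherent := cL.1
  have hiso : IsIso φ := by
    refine Groth.Agent.CohqA.PullbackQCoh.isIso_of_bijective_affineCover φ
      (ι := Y.affineOpens) (fun U => r ⁻¹ᵁ U.1) ?_ (fun U => U.2.preimage r) fun U => ?_
    · rw [← Scheme.Hom.preimage_iSup, iSup_affineOpens_eq_top]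
      rfl
    subst v₁
    subst e
    subst w₁
    have happ : (q.appLE (r ⁻¹ᵁ U.1) (q ⁻¹ᵁ (r ⁻¹ᵁ U.1)) le_rfl).hom = (q.app (r ⁻¹ᵁ U.1)).hom := by
      rw [Scheme.Hom.appLE_eq_app]
    have h3 : Function.Injective (q.app (r ⁻¹ᵁ U.1)).hom := by
      rw [← happ]
      exact hinj U.1
    constructor
    · intro x y hxy
      have h1 := congrArg ((kernel.ι v).app (r ⁻¹ᵁ U.1)) hxy
      rw [hφ', hφ'] at h1
      exact h3 h1
    · intro k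
      obtain ⟨b, hb⟩ := (ofFun (X := X) (U := q ⁻¹ᵁ (r ⁻¹ᵁ U.1))).surjective ((kernel.ι v).app (r ⁻¹ᵁ U.1) k)
      have h4 : v.app (r ⁻¹ᵁ U.1) ((kernel.ι v).app (r ⁻¹ᵁ U.1) k) = 0 := IsKer.app_app (isKer_ι v) k
      have h5 := (dl_app rfl v₂ (r ⁻¹ᵁ U.1) ((kernel.ι v).app (r ⁻¹ᵁ U.1) k)).symm.trans h4
      have h6 := sub_eq_zero.1 h5
      rw [← hb] at h6
      obtain ⟨t, ht⟩ := hex U.1 b h6
      refine ⟨ofFun t, IsKer.injective (isKer_ι v) (r ⁻¹ᵁ U.1) ?_⟩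
      rw [hφ', ← hb, ← ht]
      change ofFun (q.app (r ⁻¹ᵁ U.1) t) = ofFun ((q.appLE (r ⁻¹ᵁ U.1) (q ⁻¹ᵁ (r ⁻¹ᵁ U.1)) le_rfl).hom t)
      rw [happ]
  refine (isKer_ι v).of_iso (asIso φ) (Iso.refl _) (Iso.refl _) ?_ ?_
  · rw [asIso_hom, Iso.refl_hom, Category.comp_id, hφ]
  · rw [Iso.refl_hom, Iso.refl_hom, Category.comp_id, Category.id_comp]

end K243.QcSpec
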