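import Groth.Agent.Pic13.K243.QcMain
import Groth.Agent.Pic13.K243.QcRes
import Groth.Agent.S0414

/-!
# Generic quasi-compactness of the restriction map under exactness

* `genQc_of_ex`: for `f : X ⟶ Y`, `f₂ : Z ⟶ Y`, `p₁, p₂ : Z ⟶ X` proper over an affine integral Noetherian base with
  `O_Y → f_* O_X ⇉ f₂_* O_Z` exact, the restriction map `P_Y ⟶ P_X` is generically quasi-compact.
-/

set_option autoImplicit false
universe w u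

open CategoryTheory CategoryTheory.Limits AlgebraicGeometry Opposite TopologicalSpace

namespace K243.QcStep

open Groth.Agent.CohqA.PullbackUniv Groth.Agent.CohqA.PullbackSections Groth.Agent.CohqA.PullbackAffine
  Groth.Agent.CohqA.AffineBaseChange Groth.Agent.Pic13.H504 K243.QcArr K243.QcKer K243.QcGen K243.QcDat K243.QcEx
  K243.QcMain K243.QcRes K243.AffRes K243.NilStep Groth.Agent.Pic13.H508.SqMT Groth.Agent.Pic13.H964.Defs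
  Groth.Agent.Ega3A.PicDiv Groth.Agent.Ega3A.PicEtSh Groth.Agent.Grpsch.PicGrp Groth.Agent.Ega3A.PicRep

theorem quasiCompact_res' {YS XS ZS S : Scheme.{u}} {gS : YS ⟶ S} {fS : XS ⟶ YS} {f₂S : ZS ⟶ YS}
    {p₁ p₂ : ZS ⟶ XS} {fX : XS ⟶ S} {fZ : ZS ⟶ S} (h : fS ≫ gS = fX) (hZ : f₂S ≫ gS = fZ)
    {PY PX : Over S} {φY : ∀ T : Over S, Pic (PicF.XT gS T) → (T ⟶ PY)}
    {φX : ∀ T : Over S, Pic (PicF.XT fX T) → (T ⟶ PX)} {r : PY ⟶ PX}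
    [IsAffine S] [IsNoetherian S] [IsProper gS] [IsProper fS] [IsProper f₂S]
    [Flat fZ] (w₁ : p₁ ≫ fS = f₂S) (w₂ : p₂ ≫ fS = f₂S) (hEx : ExBC gS fS f₂S p₁ p₂)
    (hY : RepPic gS PY φY) (hX : RepPic fX PX φX) [LocallyOfFiniteType PY.hom] [LocallyOfFiniteType PX.hom]
    (hr : ∀ (T : Over S) (c : Pic (PicF.XT gS T)), φY T c ≫ r = φX T (pw fS h T c)) :
    QuasiCompact r.left := by
  subst h
  subst hZ
  exact quasiCompact_res w₁ w₂ hEx hY hX hr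

/-- The square of structure sheaves. -/
theorem oMap_square {X Y X' Y' : Scheme.{u}} {f : X ⟶ Y} {g : Y' ⟶ Y} {x : X' ⟶ X} {f' : X' ⟶ Y'}
    (k : x ≫ f = f' ≫ g) :
    oMap f ≫ pushSquare f g x f' k (oMap x) = oMap g ≫ (Scheme.Modules.pushforward g).map (oMap f') := by
  apply Scheme.Modules.hom_ext
  intro V
  ext s
  have e1 : f' ⁻¹ᵁ (g ⁻¹ᵁ V) ≤ x ⁻¹ᵁ (f ⁻¹ᵁ V) := preimage_le k V _ le_rfl
  have h1 : ∀ y, (pushSquare f g x f' k (oMap x)).app V y =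
      Arr.sec (oA x) (f ⁻¹ᵁ V) (f' ⁻¹ᵁ (g ⁻¹ᵁ V)) e1 y := by
    intro y
    refine Eq.trans ?_ (secMap_pushSquare f g x f' k (oMap x) V _ le_rfl e1 y)
    exact (map_self' _ le_rfl _).symm
  change (pushSquare f g x f' k (oMap x)).app V ((oMap f).app V s) = (oMap f').app (g ⁻¹ᵁ V) ((oMap g).app V s)
  rw [h1]
  have h2 : (oMap f).app V s = Arr.sec (oA f) V (f ⁻¹ᵁ V) le_rfl s := (Arr.sec_self (oA f) V s).symm
  have h3 : (oMap g).app V s = Arr.sec (oA g) V (g ⁻¹ᵁ V) le_rfl s := (Arr.sec_self (oA g) V s).symm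
  have h4 : (oMap f').app (g ⁻¹ᵁ V) ((oMap g).app V s) =
      Arr.sec (oA f') (g ⁻¹ᵁ V) (f' ⁻¹ᵁ (g ⁻¹ᵁ V)) le_rfl (Arr.sec (oA g) V (g ⁻¹ᵁ V) le_rfl s) := by
    rw [h3]
    exact (Arr.sec_self (oA f') (g ⁻¹ᵁ V) _).symm
  rw [h4, h2]
  have e2 : f' ⁻¹ᵁ (g ⁻¹ᵁ V) ≤ (Arr.base (oA x ≫ oA f)) ⁻¹ᵁ V := e1
  have e3 : f' ⁻¹ᵁ (g ⁻¹ᵁ V) ≤ (Arr.base (oA f' ≫ oA g)) ⁻¹ᵁ V := le_refl (f' ⁻¹ᵁ (g ⁻¹ᵁ V))
  refine (comp_sec (oA x) (oA f) e2 (le_refl (f ⁻¹ᵁ V)) e1 s).symm.trans (Eq.trans ?_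
    (comp_sec (oA f') (oA g) e3 (le_refl (g ⁻¹ᵁ V)) (le_refl (f' ⁻¹ᵁ (g ⁻¹ᵁ V))) s))
  exact Arr.sec_congr (by rw [oA_comp, oA_comp, k]) _ _ _ _ _

/-- Exactness on the fibres over an open of the base. -/
theorem exBC_of_gen {T V Y X Z : Scheme.{u}} [IsAffine T] (μ : Y ⟶ T) (f : X ⟶ Y) (f₂ : Z ⟶ Y) {p₁ p₂ : Z ⟶ X}
    (a : Γ(T, ⊤))
    (H : ∀ {T' Y' X' Z' : Scheme.{u}} [IsAffine T'] {τ : T' ⟶ T} {g : Y' ⟶ Y} {μ' : Y' ⟶ T'} (_ : IsPullback g μ' μ τ)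
        {f' : X' ⟶ Y'} {f₂' : Z' ⟶ Y'} {M' : X'.Modules} {N' : Z'.Modules}
        {θ : (⟨X', M'⟩ : Pr.{u}) ⟶ ⟨X, Coh.structureModule X⟩}
        {η : (⟨Z', N'⟩ : Pr.{u}) ⟶ ⟨Z, Coh.structureModule Z⟩} (HX : IsPullback (Arr.base θ) f' f g)
        (_ : IsPullback (Arr.base η) f₂' f₂ g) (_ : Cart θ) (_ : Cart η)
        {a₁' a₂' : (⟨Z', N'⟩ : Pr.{u}) ⟶ ⟨X', M'⟩} (w₁' : Arr.base a₁' ≫ f' = f₂') (w₂' : Arr.base a₂' ≫ f' = f₂')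
        (_ : η ≫ oA p₁ = a₁' ≫ θ) (_ : η ≫ oA p₂ = a₂' ≫ θ) (_ : IsUnit (τ.appTop.hom a)) {L' : Y'.Modules}
        {l' : L' ⟶ (Scheme.Modules.pushforward f').obj M'}
        {t : Coh.structureModule Y ⟶ (Scheme.Modules.pushforward g).obj L'}
        (_ : IsUniv g t) (_ : oMap f ≫ pushSquare f g (Arr.base θ) f' HX.w (Arr.map θ) =
          t ≫ (Scheme.Modules.pushforward g).map l'),
        IsKer l' (dl f' f₂' a₁' a₂' w₁' w₂'))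
    (v : V ⟶ T) (hv : IsUnit (v.appTop.hom a)) {YV XV ZV : Scheme.{u}} {gY : YV ⟶ V} {gX : XV ⟶ YV} {gZ : ZV ⟶ YV}
    {q₁ q₂ : ZV ⟶ XV} {b : YV ⟶ Y} {bX : XV ⟶ X} {bZ : ZV ⟶ Z} (hY : IsPullback b gY μ v) (hX : IsPullback bX gX f b)
    (hZ : IsPullback bZ gZ f₂ b) (c₁ : bZ ≫ p₁ = q₁ ≫ bX) (c₂ : bZ ≫ p₂ = q₂ ≫ bX) :
    ExBC gY gX gZ q₁ q₂ := by
  intro Ω _ s Y' X' Z' g μ' hY' x' f' hX' z' f₂' hZ' p₁' p₂' w₁' w₂' c₁' c₂'
  have HY : IsPullback (g ≫ b) μ' μ (s ≫ v) := (hY'.flip.paste_vert hY.flip).flip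
  have HX : IsPullback (x' ≫ bX) f' f (g ≫ b) := (hX'.flip.paste_vert hX.flip).flip
  have HZ : IsPullback (z' ≫ bZ) f₂' f₂ (g ≫ b) := (hZ'.flip.paste_vert hZ.flip).flip
  have hu : IsUnit ((s ≫ v).appTop.hom a) := by
    rw [Scheme.Hom.comp_appTop, CommRingCat.comp_apply]
    exact hv.map _
  have hc : ∀ {p : Z ⟶ X} {q : ZV ⟶ XV} {p' : Z' ⟶ X'}, bZ ≫ p = q ≫ bX → z' ≫ q = p' ≫ x' →
      oA (z' ≫ bZ) ≫ oA p = oA p' ≫ oA (x' ≫ bX) := by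
    intro p q p' h h'
    rw [oA_comp, oA_comp, Category.assoc, h, ← Category.assoc, h', Category.assoc]
  exact H HY (θ := oA (x' ≫ bX)) (η := oA (z' ≫ bZ)) HX HZ (cart_oA _) (cart_oA _) (a₁' := oA p₁') (a₂' := oA p₂')
    w₁' w₂' (hc c₁ c₁') (hc c₂ c₂') hu (cart_oA (g ≫ b)) (oMap_square HX.w)

theorem isPullback_bm {X Y S S' : Scheme.{u}} (f : X ⟶ Y) (g : Y ⟶ S) (a : S' ⟶ S) :
    IsPullback (pullback.fst (f ≫ g) a) (bm f g a) f (pullback.fst g a) := by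
  have H : IsPullback (bm f g a) (pullback.fst (f ≫ g) a) (pullback.fst g a) f := by
    refine (IsPullback.of_bot ?_ (bm_fst f g a).symm (IsPullback.of_hasPullback g a)).flip
    rw [bm_snd]
    exact IsPullback.of_hasPullback (f ≫ g) a
  exact H.flip

theorem isInvertible_o (X : Scheme.{u}) : PicF.IsInvertible (Coh.structureModule X) :=
  (Groth.Agent.Fdesc.LocGen.isInvertible_iff _).2 fun _ =>
    ⟨⊤, Groth.Agent.Fdesc.LocGen.one ⊤, trivial, Groth.Agent.Fdesc.LocGen.isGen_one ⊤⟩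

/-- **Generic quasi-compactness under exactness.** -/
theorem genQc_of_ex {S X Y Z : Scheme.{u}} [IsAffine S] [IsNoetherian S] [IsIntegral S] (g : Y ⟶ S) [IsProper g]
    (f : X ⟶ Y) [IsProper f] {f₂ : Z ⟶ Y} [IsProper f₂] {p₁ p₂ : Z ⟶ X} {w₁ : p₁ ≫ f = f₂} {w₂ : p₂ ≫ f = f₂}
    (hEx : Ex w₁ w₂) : GenQc f g := by
  obtain ⟨a, ha, -, -, H⟩ := QcGen.exists_gen g f f₂
    (K243.QcFam.isCoh_of_isInvertible (isInvertible_o X)) (K243.QcFam.isCoh_of_isInvertible (isInvertible_o Z)) (oA p₁) (oA p₂) w₁ w₂ hEx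
  obtain ⟨U, hU, hUf, -⟩ := Groth.Agent.S0414.result (f₂ ≫ g)
  obtain ⟨VY, hVY, GY⟩ := genGood g
  obtain ⟨VX, hVX, GX⟩ := genGood (f ≫ g)
  have hne : ((S.basicOpen a ⊓ U ⊓ (VY ⊓ VX) : S.Opens) : Set S).Nonempty := by
    have h1 : ((S.basicOpen a : S.Opens) : Set S).Nonempty := by
      rw [Set.nonempty_iff_ne_empty]
      intro h
      apply ha
      have h2 : S.basicOpen a = ⊥ := Opens.ext h
      exact (basicOpen_eq_bot_iff a).1 h2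
    have h2 : ((S.basicOpen a ⊓ U : S.Opens) : Set S).Nonempty := hU.inter_open_nonempty _ (S.basicOpen a).2 h1 |>.mono (by
      rintro x ⟨h, h'⟩
      exact ⟨h, h'⟩)
    exact nonempty_preirreducible_inter (S.basicOpen a ⊓ U).isOpen (VY ⊓ VX).isOpen h2
      (nonempty_preirreducible_inter VY.isOpen VX.isOpen hVY hVX)
  obtain ⟨x, hx⟩ := hne
  obtain ⟨V, hV, hxV, hVle⟩ := exists_isAffineOpen_mem_and_subset (X := S) (x := x) hx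
  have le1 : V ≤ S.basicOpen a := fun y hy => (hVle hy).1.1
  have le2 : V ≤ U := fun y hy => (hVle hy).1.2
  have le3 : V ≤ VY := fun y hy => (hVle hy).2.1
  have le4 : V ≤ VX := fun y hy => (hVle hy).2.2
  have i1 : IsAffine (V : Scheme.{u}) := hV
  have i2 : IsNoetherian (V : Scheme.{u}) := {}
  obtain ⟨PY, hPY, -, lY⟩ := exists_sep_of_good le3 GY
  obtain ⟨PX, hPX, -, lX⟩ := exists_sep_of_good le4 GX
  obtain ⟨φY, hφY⟩ := exists_repPic _ hPY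
  obtain ⟨φX, hφX⟩ := exists_repPic _ hPX
  obtain ⟨r, hr⟩ := exists_res (bm f g V.ι) (bm_snd f g V.ι) hφY hφX
  refine ⟨V, ⟨x, hxV⟩, PY, PX, φY, φX, r, hφY, hφX, hr, ?_⟩
  have j1 : IsProper (bm f g V.ι) := MorphismProperty.of_isPullback (isPullback_bm f g V.ι) ‹_›
  have j2 : IsProper (bm f₂ g V.ι) := MorphismProperty.of_isPullback (isPullback_bm f₂ g V.ι) ‹_›
  have j3 : Flat (pullback.snd (f₂ ≫ g) V.ι) := by
    have e1 := isPullback_morphismRestrict (f₂ ≫ g) U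
    have e2 : S.homOfLE le2 ≫ U.ι = V.ι := S.homOfLE_ι le2
    have e3 : IsPullback (pullback.fst ((f₂ ≫ g) ∣_ U) (S.homOfLE le2) ≫ ((f₂ ≫ g) ⁻¹ᵁ U).ι)
        (pullback.snd ((f₂ ≫ g) ∣_ U) (S.homOfLE le2)) (f₂ ≫ g) V.ι := by
      have := (IsPullback.of_hasPullback ((f₂ ≫ g) ∣_ U) (S.homOfLE le2)).flip.paste_vert e1
      rw [e2] at this
      exact this.flip
    have e4 : pullback.snd (f₂ ≫ g) V.ι = (e3.isoPullback).inv ≫ pullback.snd ((f₂ ≫ g) ∣_ U) (S.homOfLE le2) := by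
      rw [e3.isoPullback_inv_snd]
    rw [e4]
    infer_instance
  have hu : IsUnit ((V.ι).appTop.hom a) := by
    have h1 : V.ι ⁻¹ᵁ S.basicOpen a = ⊤ := by
      rw [eq_top_iff]
      intro y _
      exact le1 y.2
    rw [Scheme.preimage_basicOpen_top] at h1
    refine (V : Scheme.{u}).toRingedSpace.isUnit_of_isUnit_germ ⊤ _ fun y hy => ?_
    refine ((V : Scheme.{u}).mem_basicOpen _ y hy).1 ?_
    rw [h1]
    trivial
  have hwX : ∀ {p : Z ⟶ X}, p ≫ f = f₂ → (pullback.fst (f₂ ≫ g) V.ι ≫ p) ≫ f ≫ g = pullback.snd (f₂ ≫ g) V.ι ≫ V.ι := by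
    intro p hp
    rw [Category.assoc, ← Category.assoc p, hp, pullback.condition]
  let q₁ : pullback (f₂ ≫ g) V.ι ⟶ pullback (f ≫ g) V.ι :=
    pullback.lift (pullback.fst (f₂ ≫ g) V.ι ≫ p₁) (pullback.snd (f₂ ≫ g) V.ι) (hwX w₁)
  let q₂ : pullback (f₂ ≫ g) V.ι ⟶ pullback (f ≫ g) V.ι :=
    pullback.lift (pullback.fst (f₂ ≫ g) V.ι ≫ p₂) (pullback.snd (f₂ ≫ g) V.ι) (hwX w₂)
  have q₁1 : q₁ ≫ pullback.fst (f ≫ g) V.ι = pullback.fst (f₂ ≫ g) V.ι ≫ p₁ := pullback.lift_fst _ _ _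
  have q₂1 : q₂ ≫ pullback.fst (f ≫ g) V.ι = pullback.fst (f₂ ≫ g) V.ι ≫ p₂ := pullback.lift_fst _ _ _
  have q₁2 : q₁ ≫ pullback.snd (f ≫ g) V.ι = pullback.snd (f₂ ≫ g) V.ι := pullback.lift_snd _ _ _
  have q₂2 : q₂ ≫ pullback.snd (f ≫ g) V.ι = pullback.snd (f₂ ≫ g) V.ι := pullback.lift_snd _ _ _
  have z₁ : q₁ ≫ bm f g V.ι = bm f₂ g V.ι := by
    apply pullback.hom_ext
    · rw [Category.assoc, bm_fst, bm_fst, ← Category.assoc, q₁1, Category.assoc, w₁]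
    · rw [Category.assoc, bm_snd, bm_snd, q₁2]
  have z₂ : q₂ ≫ bm f g V.ι = bm f₂ g V.ι := by
    apply pullback.hom_ext
    · rw [Category.assoc, bm_fst, bm_fst, ← Category.assoc, q₂1, Category.assoc, w₂]
    · rw [Category.assoc, bm_snd, bm_snd, q₂2]
  have hBC := exBC_of_gen g f f₂ (p₁ := p₁) (p₂ := p₂) a H V.ι hu (q₁ := q₁) (q₂ := q₂)
    (IsPullback.of_hasPullback g V.ι) (isPullback_bm f g V.ι) (isPullback_bm f₂ g V.ι) q₁1.symm q₂1.symm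
  exact quasiCompact_res' (bm_snd f g V.ι) (bm_snd f₂ g V.ι) z₁ z₂ hBC hφY hφX hr

end K243.QcStep
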