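import Groth.Agent.Pic13.K243.QcDat
import Groth.Agent.Pic13.H508.SqMT

/-!
# Twisted families: a module on `X`, and an isomorphism of its two pullbacks to `Z`

* `fix_comp`, `fix_map_pb`, `fix_comp_pb`: rules;
* `eT`: the canonical arrow over `XTmap`, `bT`: the arrow over `mT p`;
* `twD T v`: the family attached to `v : (p₂^* M)_T ≅ (p₁^* M)_T`; `map_twD`, `exists_v`.
-/

set_option autoImplicit false
universe w u

open CategoryTheory CategoryTheory.Limits AlgebraicGeometry Opposite TopologicalSpace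

namespace K243.QcTw

open Groth.Agent.CohqA.PullbackUniv Groth.Agent.CohqA.PullbackSections Groth.Agent.CohqA.PullbackAffine
  Groth.Agent.CohqA.AffineBaseChange Groth.Agent.Pic13.H504 K243.QcArr K243.QcKer K243.QcGen K243.QcDat K243.QcEx
  Groth.Agent.Pic13.H508.SqMT Groth.Agent.Grpsch.PicGrp Groth.Agent.Fdesc.LocGen

section rules

variable {X Y Z : Scheme.{u}}

theorem fix_comp {M N P : X.Modules} (φ : M ⟶ N) (ψ : N ⟶ P) : fix (φ ≫ ψ) = fix ψ ≫ fix φ := by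
  refine Arr.ext_sec (by rw [base_comp, base_fix, base_fix, base_fix, Category.comp_id]) fun U W e e' s => ?_
  have e₀ : W ≤ U := e
  rw [fix_sec (φ ≫ ψ) e e₀]
  refine Eq.trans ?_ (comp_sec (fix ψ) (fix φ) e' (le_refl U) e₀ s).symm
  rw [fix_sec φ (le_refl U) (le_refl U), fix_sec ψ e₀ e₀]
  change P.presheaf.map _ (ψ.app U (φ.app U s)) = _
  congr 2
  exact (map_self' N le_rfl _).symm

theorem fix_id (M : X.Modules) : fix (𝟙 M) = 𝟙 (⟨X, M⟩ : Pr.{u}) := by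
  refine Arr.ext_sec rfl fun U W e e' s => ?_
  rfl

theorem fix_map_pb (g : Y ⟶ X) {M N : X.Modules} (φ : M ⟶ N) :
    fix ((Scheme.Modules.pullback g).map φ) ≫ pb g M = pb g N ≫ fix φ := by
  refine Arr.ext_sec (by rw [base_comp, base_comp, base_fix, base_fix, Category.comp_id, Category.id_comp]; rfl)
    fun U W e e' s => ?_
  have e₀ : W ≤ g ⁻¹ᵁ U := e
  refine (comp_sec _ _ e (le_refl (g ⁻¹ᵁ U)) e₀ s).trans ?_
  refine Eq.trans ?_ (comp_sec _ _ e' (le_refl U) e₀ s).symm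
  rw [fix_sec _ e₀ e₀, fix_sec φ (le_refl U) (le_refl U)]
  have h1 : N.presheaf.map (homOfLE (le_refl U)).op (φ.app U s) = φ.app U s := map_self' N le_rfl _
  rw [h1]
  have h2 : Arr.sec (pb g M) U (g ⁻¹ᵁ U) (le_refl _) s = pullSec g s := Arr.sec_self (pb g M) U s
  have h3 : ((Scheme.Modules.pullback g).map φ).app (g ⁻¹ᵁ U) (pullSec g s) = pullSec g (φ.app U s) :=
    pullback_map_pullSec g φ s
  rw [h2, h3]
  rfl

theorem fix_comp_pb (f : X ⟶ Y) (g : Y ⟶ Z) (M : Z.Modules) :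
    fix ((Scheme.Modules.pullbackComp f g).hom.app M) ≫ pb f ((Scheme.Modules.pullback g).obj M) ≫ pb g M =
      pb (f ≫ g) M := by
  refine Arr.ext_sec (by rw [base_comp, base_comp, base_fix, Category.id_comp]; rfl) fun U W e e' s => ?_
  have e₀ : W ≤ f ⁻¹ᵁ (g ⁻¹ᵁ U) := e
  have e₃ : g ⁻¹ᵁ U ≤ (Arr.base (pb g M)) ⁻¹ᵁ U := le_refl (g ⁻¹ᵁ U)
  have e₄ : W ≤ (Arr.base (pb f ((Scheme.Modules.pullback g).obj M))) ⁻¹ᵁ (g ⁻¹ᵁ U) := e₀
  have e₅ : f ⁻¹ᵁ (g ⁻¹ᵁ U) ≤ (Arr.base (pb f ((Scheme.Modules.pullback g).obj M))) ⁻¹ᵁ (g ⁻¹ᵁ U) :=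
    le_refl (f ⁻¹ᵁ (g ⁻¹ᵁ U))
  have e₁ : f ⁻¹ᵁ (g ⁻¹ᵁ U) ≤ (Arr.base (pb f ((Scheme.Modules.pullback g).obj M) ≫ pb g M)) ⁻¹ᵁ U := e₅
  have h1 : Arr.sec (pb f ((Scheme.Modules.pullback g).obj M) ≫ pb g M) U (f ⁻¹ᵁ (g ⁻¹ᵁ U)) e₁ s =
      pullSec f (pullSec g s) := by
    refine (comp_sec (pb f ((Scheme.Modules.pullback g).obj M)) (pb g M) e₁ e₃ e₅ s).trans ?_
    have h2 : Arr.sec (pb g M) U (g ⁻¹ᵁ U) e₃ s = pullSec g s := Arr.sec_self (pb g M) U s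
    rw [h2]
    exact Arr.sec_self (pb f ((Scheme.Modules.pullback g).obj M)) (g ⁻¹ᵁ U) (pullSec g s)
  have h3 : Arr.sec (fix ((Scheme.Modules.pullbackComp f g).hom.app M)) (f ⁻¹ᵁ (g ⁻¹ᵁ U)) W e₀
      (pullSec f (pullSec g s)) = ((Scheme.Modules.pullback (f ≫ g)).obj M).presheaf.map (homOfLE e₀).op
        (pullSec (f ≫ g) s) := by
    rw [fix_sec _ e₀ e₀]
    exact congrArg (((Scheme.Modules.pullback (f ≫ g)).obj M).presheaf.map (homOfLE e₀).op) (pullSec_comp' f g s)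
  refine (comp_sec (fix ((Scheme.Modules.pullbackComp f g).hom.app M))
    (pb f ((Scheme.Modules.pullback g).obj M) ≫ pb g M) e e₁ e₀ s).trans ?_
  rw [h1, h3]
  have h4 : Arr.sec (pb (f ≫ g) M) U ((f ≫ g) ⁻¹ᵁ U) (le_refl _) s = pullSec (f ≫ g) s :=
    Arr.sec_self (pb (f ≫ g) M) U s
  rw [← h4]
  exact Arr.res_sec (pb (f ≫ g) M) (le_refl _) e₀ s

theorem fix_congr_pb {f g : X ⟶ Y} (h : f = g) (M : Y.Modules) :
    fix ((Scheme.Modules.pullbackCongr h).hom.app M) ≫ pb f M = pb g M := by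
  subst h
  have h1 : (Scheme.Modules.pullbackCongr (rfl : f = f)).hom.app M = 𝟙 _ := by
    simp [Scheme.Modules.pullbackCongr]
  rw [h1, fix_id, Category.id_comp]

end rules

section eT

variable {X S : Scheme.{u}} (f : X ⟶ S) (E : X.Modules)

/-- The canonical arrow over `XTmap f g`. -/
noncomputable def eT {T T' : Over S} (g : T' ⟶ T) :
    (⟨PicF.XT f T', FGA.ET f E T'⟩ : Pr.{u}) ⟶ ⟨PicF.XT f T, FGA.ET f E T⟩ :=
  fix (FGA.ETiso f E g).hom ≫ pb (PicF.XTmap f g) (FGA.ET f E T)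

theorem base_eT {T T' : Over S} (g : T' ⟶ T) : Arr.base (eT f E g) = PicF.XTmap f g := by
  rw [eT, base_comp, base_fix, Category.id_comp]
  rfl

theorem eT_pb {T T' : Over S} (g : T' ⟶ T) :
    eT f E g ≫ pb (pullback.fst f T.hom) E = pb (pullback.fst f T'.hom) E := by
  have h1 : fix (FGA.ETiso f E g).hom = fix ((Scheme.Modules.pullbackCongr (FGA.XTmap_fst f g)).hom.app E) ≫
      fix ((Scheme.Modules.pullbackComp (PicF.XTmap f g) (pullback.fst f T.hom)).hom.app E) := by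
    rw [← fix_comp]
    rfl
  rw [eT, h1, Category.assoc, Category.assoc, fix_comp_pb, fix_congr_pb]

theorem cart_eT {T T' : Over S} (g : T' ⟶ T) : Cart (eT f E g) := by
  rw [← Cart.comp_iff (cart_pb (pullback.fst f T.hom) E), eT_pb]
  exact cart_pb _ _

theorem eT_fix {A B : X.Modules} {T T' : Over S} (g : T' ⟶ T) (u : FGA.ET f A T ≅ FGA.ET f B T)
    (v : FGA.ET f A T' ≅ FGA.ET f B T')
    (h : (FGA.ETiso f A g).symm ≪≫ (Scheme.Modules.pullback (PicF.XTmap f g)).mapIso u ≪≫ FGA.ETiso f B g = v) :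
    eT f B g ≫ fix u.hom = fix v.hom ≫ eT f A g := by
  subst h
  have h1 : fix ((FGA.ETiso f A g).symm ≪≫ (Scheme.Modules.pullback (PicF.XTmap f g)).mapIso u ≪≫
      FGA.ETiso f B g).hom = fix (FGA.ETiso f B g).hom ≫ fix ((Scheme.Modules.pullback (PicF.XTmap f g)).map u.hom) ≫
        fix (FGA.ETiso f A g).inv := by
    rw [← fix_comp, ← fix_comp, Category.assoc]
    rfl
  have h2 : fix (FGA.ETiso f A g).inv ≫ fix (FGA.ETiso f A g).hom = 𝟙 _ := by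
    rw [← fix_comp, Iso.hom_inv_id, fix_id]
  have h3 : fix (FGA.ETiso f A g).inv ≫ eT f A g = pb (PicF.XTmap f g) (FGA.ET f A T) := by
    rw [eT, ← Category.assoc, h2, Category.id_comp]
  rw [h1, Category.assoc, Category.assoc, h3, fix_map_pb, eT, Category.assoc]

theorem isPullback_XTmap {T T' : Over S} (g : T' ⟶ T) :
    IsPullback (PicF.XTmap f g) (pullback.snd f T'.hom) (pullback.snd f T.hom) g.left := by
  refine IsPullback.of_right (h₁₂ := pullback.fst f T.hom) (v₁₃ := f) (h₂₂ := T.hom) ?_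
    (XTmap_snd g) (IsPullback.of_hasPullback f T.hom)
  rw [XTmap_fst, Over.w]
  exact IsPullback.of_hasPullback f T'.hom

end eT

section tw

variable {W Y X Z : Scheme.{u}} (μ : Y ⟶ W) (f : X ⟶ Y) (f₂ : Z ⟶ Y) (M : X.Modules)

theorem isPullback_mT_XTmap {A B : Scheme.{u}} (q : A ⟶ B) (μ : B ⟶ W) {ν : A ⟶ W} (h : q ≫ μ = ν)
    {T T' : Over W} (g : T' ⟶ T) : IsPullback (PicF.XTmap ν g) (mT q h T') (mT q h T) (PicF.XTmap μ g) := by
  refine IsPullback.of_right (h₁₂ := pullback.fst ν T.hom) (v₁₃ := q) (h₂₂ := pullback.fst μ T.hom) ?_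
    (mT_XTmap q h g).symm (isPullback_mT q h T).flip
  rw [XTmap_fst, XTmap_fst]
  exact (isPullback_mT q h T').flip

variable {p₁ p₂ : Z ⟶ X} (w₁ : p₁ ≫ f = f₂) (w₂ : p₂ ≫ f = f₂)

theorem w_mu {p : Z ⟶ X} (w : p ≫ f = f₂) : p ≫ f ≫ μ = f₂ ≫ μ := by rw [← Category.assoc, w]

theorem exists_bT {p : Z ⟶ X} (w : p ≫ f = f₂) (T : Over W) :
    ∃ b : (⟨PicF.XT (f₂ ≫ μ) T, FGA.ET (f₂ ≫ μ) ((Scheme.Modules.pullback p).obj M) T⟩ : Pr.{u}) ⟶
        ⟨PicF.XT (f ≫ μ) T, FGA.ET (f ≫ μ) M T⟩,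
      Arr.base b = mT p (w_mu μ f f₂ w) T ∧ b ≫ pb (pullback.fst (f ≫ μ) T.hom) M =
        pb (pullback.fst (f₂ ≫ μ) T.hom) ((Scheme.Modules.pullback p).obj M) ≫ pb p M :=
  (cart_pb (pullback.fst (f ≫ μ) T.hom) M).exists_lift
    (pb (pullback.fst (f₂ ≫ μ) T.hom) ((Scheme.Modules.pullback p).obj M) ≫ pb p M)
    (mT p (w_mu μ f f₂ w) T) (mT_fst _ _ _)

/-- The arrow over `mT p`. -/
noncomputable def bT {p : Z ⟶ X} (w : p ≫ f = f₂) (T : Over W) :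
    (⟨PicF.XT (f₂ ≫ μ) T, FGA.ET (f₂ ≫ μ) ((Scheme.Modules.pullback p).obj M) T⟩ : Pr.{u}) ⟶
        ⟨PicF.XT (f ≫ μ) T, FGA.ET (f ≫ μ) M T⟩ := (exists_bT μ f f₂ M w T).choose

theorem base_bT {p : Z ⟶ X} (w : p ≫ f = f₂) (T : Over W) :
    Arr.base (bT μ f f₂ M w T) = mT p (w_mu μ f f₂ w) T := (exists_bT μ f f₂ M w T).choose_spec.1

theorem bT_pb {p : Z ⟶ X} (w : p ≫ f = f₂) (T : Over W) : bT μ f f₂ M w T ≫ pb (pullback.fst (f ≫ μ) T.hom) M =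
    pb (pullback.fst (f₂ ≫ μ) T.hom) ((Scheme.Modules.pullback p).obj M) ≫ pb p M :=
  (exists_bT μ f f₂ M w T).choose_spec.2

theorem cart_bT {p : Z ⟶ X} (w : p ≫ f = f₂) (T : Over W) : Cart (bT μ f f₂ M w T) := by
  rw [← Cart.comp_iff (cart_pb (pullback.fst (f ≫ μ) T.hom) M), bT_pb]
  exact (cart_pb _ _).comp (cart_pb _ _)

theorem eT_bT {p : Z ⟶ X} (w : p ≫ f = f₂) {T T' : Over W} (g : T' ⟶ T) :
    eT (f₂ ≫ μ) ((Scheme.Modules.pullback p).obj M) g ≫ bT μ f f₂ M w T =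
      bT μ f f₂ M w T' ≫ eT (f ≫ μ) M g := by
  refine (cart_pb (pullback.fst (f ≫ μ) T.hom) M).hom_ext ?_ ?_
  · rw [base_comp, base_comp, base_bT, base_bT, base_eT, base_eT]
    exact (mT_XTmap p (w_mu μ f f₂ w) g).symm
  · rw [Category.assoc, Category.assoc, bT_pb, eT_pb, bT_pb, ← Category.assoc, eT_pb]

/-- The family attached to `v`. -/
noncomputable def twD (T : Over W) (v : FGA.ET (f₂ ≫ μ) ((Scheme.Modules.pullback p₂).obj M) T ≅
    FGA.ET (f₂ ≫ μ) ((Scheme.Modules.pullback p₁).obj M) T) : Dat T.left where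
  Y := PicF.XT μ T
  X := PicF.XT (f ≫ μ) T
  Z := PicF.XT (f₂ ≫ μ) T
  μ := pullback.snd μ T.hom
  f := mT f rfl T
  f₂ := mT f₂ rfl T
  M := FGA.ET (f ≫ μ) M T
  N := FGA.ET (f₂ ≫ μ) ((Scheme.Modules.pullback p₁).obj M) T
  a₁ := bT μ f f₂ M w₁ T
  a₂ := fix v.hom ≫ bT μ f f₂ M w₂ T
  w₁ := by
    rw [base_bT]
    exact (mT_comp f rfl p₁ (w_mu μ f f₂ w₁) (by rw [w₁]) T).trans (by congr 1)
  w₂ := by
    rw [base_comp, base_fix, base_bT, Category.id_comp]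
    exact (mT_comp f rfl p₂ (w_mu μ f f₂ w₂) (by rw [w₂]) T).trans (by congr 1)

end tw

end K243.QcTw
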