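import Groth.Agent.Pic13.K243.QcTw

/-!
# Twisted families: base change and descent data of invertible modules

* `map_twD`: base change; `exists_v`: an invertible module on `Y` gives an isomorphism `v`;
* `ker_twD`: under exactness, the module is the kernel of the twisted family.
-/

set_option autoImplicit false
universe w u

open CategoryTheory CategoryTheory.Limits AlgebraicGeometry Opposite TopologicalSpace

namespace K243.QcTw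

open Groth.Agent.CohqA.PullbackUniv Groth.Agent.CohqA.PullbackSections Groth.Agent.CohqA.PullbackAffine
  Groth.Agent.CohqA.AffineBaseChange Groth.Agent.Pic13.H504 K243.QcArr K243.QcKer K243.QcGen K243.QcDat K243.QcEx
  Groth.Agent.Pic13.H508.SqMT Groth.Agent.Grpsch.PicGrp Groth.Agent.Fdesc.LocGen

variable {W Y X Z : Scheme.{u}} (μ : Y ⟶ W) (f : X ⟶ Y) (f₂ : Z ⟶ Y) (M : X.Modules)
  {p₁ p₂ : Z ⟶ X} (w₁ : p₁ ≫ f = f₂) (w₂ : p₂ ≫ f = f₂)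

/-- Base change of twisted families. -/
theorem map_twD {T T' : Over W} (g : T' ⟶ T)
    (u : FGA.ET (f₂ ≫ μ) ((Scheme.Modules.pullback p₂).obj M) T ≅
      FGA.ET (f₂ ≫ μ) ((Scheme.Modules.pullback p₁).obj M) T)
    (v : FGA.ET (f₂ ≫ μ) ((Scheme.Modules.pullback p₂).obj M) T' ≅
      FGA.ET (f₂ ≫ μ) ((Scheme.Modules.pullback p₁).obj M) T')
    (h : (FGA.ETiso (f₂ ≫ μ) _ g).symm ≪≫ (Scheme.Modules.pullback (PicF.XTmap (f₂ ≫ μ) g)).mapIso u ≪≫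
      FGA.ETiso (f₂ ≫ μ) _ g = v) :
    ∃ E : Dat.Map (twD μ f f₂ M w₁ w₂ T' v) (twD μ f f₂ M w₁ w₂ T u) g.left, E.g = PicF.XTmap μ g := by
  refine ⟨{ g := PicF.XTmap μ g
            HY := isPullback_XTmap μ g
            θ := eT (f ≫ μ) M g
            η := eT (f₂ ≫ μ) ((Scheme.Modules.pullback p₁).obj M) g
            HX := ?_
            HZ := ?_
            cθ := cart_eT _ _ _
            cη := cart_eT _ _ _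
            c₁ := eT_bT μ f f₂ M w₁ g
            c₂ := ?_ }, rfl⟩
  · rw [base_eT]
    exact isPullback_mT_XTmap f μ rfl g
  · rw [base_eT]
    exact isPullback_mT_XTmap f₂ μ rfl g
  · change eT (f₂ ≫ μ) ((Scheme.Modules.pullback p₁).obj M) g ≫ fix u.hom ≫ bT μ f f₂ M w₂ T =
      (fix v.hom ≫ bT μ f f₂ M w₂ T') ≫ eT (f ≫ μ) M g
    rw [← Category.assoc, eT_fix _ g u v h, Category.assoc, Category.assoc, eT_bT]

/-- An invertible module on `Y_T` with inverse image `M_T` gives a descent datum. -/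
theorem exists_v (T : Over W) (L : (PicF.XT μ T).Modules)
    (e : (Scheme.Modules.pullback (mT f rfl T)).obj L ≅ FGA.ET (f ≫ μ) M T) :
    ∃ (v : FGA.ET (f₂ ≫ μ) ((Scheme.Modules.pullback p₂).obj M) T ≅
        FGA.ET (f₂ ≫ μ) ((Scheme.Modules.pullback p₁).obj M) T)
      (l : L ⟶ (Scheme.Modules.pushforward (mT f rfl T)).obj (FGA.ET (f ≫ μ) M T)),
      Cart (⟨mT f rfl T, l⟩ : (⟨PicF.XT (f ≫ μ) T, FGA.ET (f ≫ μ) M T⟩ : Pr.{u}) ⟶ ⟨PicF.XT μ T, L⟩) ∧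
      (twD μ f f₂ M w₁ w₂ T v).a₁ ≫
          (⟨mT f rfl T, l⟩ : (⟨PicF.XT (f ≫ μ) T, FGA.ET (f ≫ μ) M T⟩ : Pr.{u}) ⟶ ⟨PicF.XT μ T, L⟩) =
        (twD μ f f₂ M w₁ w₂ T v).a₂ ≫
          (⟨mT f rfl T, l⟩ : (⟨PicF.XT (f ≫ μ) T, FGA.ET (f ≫ μ) M T⟩ : Pr.{u}) ⟶ ⟨PicF.XT μ T, L⟩) := by
  let l : L ⟶ (Scheme.Modules.pushforward (mT f rfl T)).obj (FGA.ET (f ≫ μ) M T) :=
    pbUnit (mT f rfl T) L ≫ (Scheme.Modules.pushforward (mT f rfl T)).map e.hom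
  let lam : (⟨PicF.XT (f ≫ μ) T, FGA.ET (f ≫ μ) M T⟩ : Pr.{u}) ⟶ ⟨PicF.XT μ T, L⟩ := ⟨mT f rfl T, l⟩
  have hlam : Cart lam := (isUniv_pbUnit (mT f rfl T) L).comp_iso e
  obtain ⟨v, hv, -⟩ := QcArr.exists_iso ((cart_bT μ f f₂ M w₂ T).comp hlam) ((cart_bT μ f f₂ M w₁ T).comp hlam) (by
    rw [base_comp, base_comp, base_bT, base_bT]
    change mT p₂ _ T ≫ mT f rfl T = mT p₁ _ T ≫ mT f rfl T
    exact mT_comp_congr rfl _ rfl _ (by rw [w₁, w₂]) T)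
  refine ⟨v, l, hlam, ?_⟩
  change bT μ f f₂ M w₁ T ≫ lam = (fix v.hom ≫ bT μ f f₂ M w₂ T) ≫ lam
  rw [Category.assoc, hv]

theorem ex_congr {X' Y' Z' : Scheme.{u}} {f : X' ⟶ Y'} {f₂ : Z' ⟶ Y'} {p₁ p₂ q₁ q₂ : Z' ⟶ X'}
    {w₁ : p₁ ≫ f = f₂} {w₂ : p₂ ≫ f = f₂} {v₁ : q₁ ≫ f = f₂} {v₂ : q₂ ≫ f = f₂} (h₁ : p₁ = q₁) (h₂ : p₂ = q₂)
    (h : Ex w₁ w₂) : Ex v₁ v₂ := by
  subst h₁
  subst h₂
  exact h

/-- Under exactness the module is the kernel. -/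
theorem ker_twD (T : Over W) (L : (PicF.XT μ T).Modules) (hL : PicF.IsInvertible L)
    (v : FGA.ET (f₂ ≫ μ) ((Scheme.Modules.pullback p₂).obj M) T ≅
        FGA.ET (f₂ ≫ μ) ((Scheme.Modules.pullback p₁).obj M) T)
    (l : L ⟶ (Scheme.Modules.pushforward (mT f rfl T)).obj (FGA.ET (f ≫ μ) M T))
    (hlam : Cart (⟨mT f rfl T, l⟩ : (⟨PicF.XT (f ≫ μ) T, FGA.ET (f ≫ μ) M T⟩ : Pr.{u}) ⟶ ⟨PicF.XT μ T, L⟩))
    (hc : (twD μ f f₂ M w₁ w₂ T v).a₁ ≫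
          (⟨mT f rfl T, l⟩ : (⟨PicF.XT (f ≫ μ) T, FGA.ET (f ≫ μ) M T⟩ : Pr.{u}) ⟶ ⟨PicF.XT μ T, L⟩) =
        (twD μ f f₂ M w₁ w₂ T v).a₂ ≫
          (⟨mT f rfl T, l⟩ : (⟨PicF.XT (f ≫ μ) T, FGA.ET (f ≫ μ) M T⟩ : Pr.{u}) ⟶ ⟨PicF.XT μ T, L⟩))
    (k₁ : mT p₁ (w_mu μ f f₂ w₁) T ≫ mT f rfl T = mT f₂ rfl T)
    (k₂ : mT p₂ (w_mu μ f f₂ w₂) T ≫ mT f rfl T = mT f₂ rfl T) (hEx : Ex k₁ k₂) :
    (twD μ f f₂ M w₁ w₂ T v).Ker l := by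
  have b₁ : Arr.base (twD μ f f₂ M w₁ w₂ T v).a₁ = mT p₁ (w_mu μ f f₂ w₁) T := base_bT μ f f₂ M w₁ T
  have b₂ : Arr.base (twD μ f f₂ M w₁ w₂ T v).a₂ = mT p₂ (w_mu μ f f₂ w₂) T := by
    change Arr.base (fix v.hom ≫ bT μ f f₂ M w₂ T) = _
    rw [base_comp, base_fix, base_bT, Category.id_comp]
  exact Ex.isKer (f₂ := mT f₂ rfl T)
    (lam := (⟨mT f rfl T, l⟩ : (⟨PicF.XT (f ≫ μ) T, FGA.ET (f ≫ μ) M T⟩ : Pr.{u}) ⟶ ⟨PicF.XT μ T, L⟩))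
    (w₁ := (twD μ f f₂ M w₁ w₂ T v).w₁) (w₂ := (twD μ f f₂ M w₁ w₂ T v).w₂)
    (ex_congr b₁.symm b₂.symm hEx) hL hlam (cart_bT μ f f₂ M w₁ T) hc

end K243.QcTw
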