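import Groth.Agent.Pic13.K243.Surface

/-!
# The quadratic identity on a surface

`(c₁(L)²) = χ(L(m)) - 2 χ(O(m)) + χ(L⁻¹(m))` for all `m`.
-/

set_option autoImplicit false
set_option linter.unusedSectionVars false
universe u
open CategoryTheory CategoryTheory.Limits AlgebraicGeometry Opposite TopologicalSpace

namespace K243.Quad

open Groth.Agent Groth.Agent.Fga Groth.Agent.Fga.PicMon K243.Base K243.Hilb K243.Diff K243.Deg

theorem two_cc_two (m : ℤ) : 2 * cc 2 m = (m + 1) * (m + 2) := by
  have h : nab (fun m => 2 * cc 2 m - (m + 1) * (m + 2)) = 0 := by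
    funext m
    have h1 := nab_cc_succ 1 m
    rw [nab_apply, cc_one] at h1
    simp only [nab_apply, Pi.zero_apply]
    have h2 : cc 2 m = cc (1 + 1) m := rfl
    have h3 : cc 2 (m - 1) = cc (1 + 1) (m - 1) := rfl
    rw [h2, h3]
    linarith
  have h1 := const_of_nab h m (-1)
  have h2 : cc 2 (-1) = 0 := cc_succ_neg_one 1
  simp only [h2] at h1
  linarith

theorem ev_three (a : Fin 3 → ℤ) (m : ℤ) : ev a m = a 0 + a 1 * (m + 1) + a 2 * cc 2 m := by
  simp only [ev, Fin.sum_univ_three]
  simp [cc_zero, cc_one]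

variable (k : Type u) [Field k] {n : ℕ} {X : Scheme.{u}} [X.Over (Spec (CommRingCat.of k))]
  (i : X ⟶ CohB1.ProjSpace n k) [IsProper (X ↘ Spec (CommRingCat.of k))]
  (hdim : topologicalKrullDim X ≤ (2 : ℕ))
  {L L' : X.Modules} (hL : PicF.IsInvertible L)
  (hLL' : Nonempty (CohB1.tensorMod L L' ≅ Coh.structureModule X))

include hdim hL hLL' in
theorem quad (m : ℤ) : FGA.intNum k X 2 (Matrix.vecCons L' (fun _ : Fin 1 => L')) (Coh.structureModule X) =
    hf k i 2 L m - 2 * hf k i 2 (Coh.structureModule X) m + hf k i 2 L' m := by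
  have hO := Coeffs.isInvertible_unit (X := X)
  have hL' := isInvertible_inv hLL'
  have h1 : FGA.intNum k X 2 (Matrix.vecCons L' (fun _ : Fin 1 => L')) (Coh.structureModule X) =
      FGA.intNum k X 2 (Matrix.vecCons L' (fun _ : Fin 1 => L'))
        (CohB1.tensorMod (Pic13.twistOn k i L m) (Coh.structureModule X)) := by
    refine (intNum_invariant k 2 hdim _ (fun j => ?_) _ (isCoh_invertible hO) ?_ (isInvertible_twistOn i hL m)).symm
    · fin_cases j
      · exact hL'
      · exact hL'
    · rw [dim_support_invertible hO]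
      exact lt_of_le_of_lt hdim (by exact_mod_cast Nat.lt_succ_self 2)
  have hcons : (fun _ : Fin 1 => L') = (Fin.cons L' (fun j : Fin 0 => j.elim0) : Fin 1 → X.Modules) := by
    funext j
    fin_cases j
    rfl
  have h2 : ∀ F : X.Modules, FGA.intNum k X 2 (Matrix.vecCons L' (fun _ : Fin 1 => L')) F =
      FGA.eulerCharLE k X F 2 - 2 * FGA.eulerCharLE k X (CohB1.tensorMod L' F) 2 +
        FGA.eulerCharLE k X (CohB1.tensorMod L' (CohB1.tensorMod L' F)) 2 := by
    intro F
    have e0 : ∀ F : X.Modules, FGA.intNum k X 2 (fun j : Fin 0 => j.elim0) F = FGA.eulerCharLE k X F 2 := by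
      intro F
      rw [intNum_eq_dSum, AltSum.dSum_zero, chiCl_one]
    have e1 : ∀ F : X.Modules, FGA.intNum k X 2 (fun _ : Fin 1 => L') F =
        FGA.eulerCharLE k X F 2 - FGA.eulerCharLE k X (CohB1.tensorMod L' F) 2 := by
      intro F
      rw [hcons, intNum_cons, e0, e0]
    have e2 := intNum_cons k X 2 L' (fun _ : Fin 1 => L') F
    refine e2.trans ?_
    rw [e1, e1]
    ring
  rw [h1, h2]
  have g1 : FGA.eulerCharLE k X (CohB1.tensorMod (Pic13.twistOn k i L m) (Coh.structureModule X)) 2 =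
      hf k i 2 L m := by
    obtain ⟨e⟩ := (mc_eq_iff (CohB1.tensorMod (Pic13.twistOn k i L m) (Coh.structureModule X))
      (Pic13.twistOn k i L m)).mp (by rw [mc_tensor, mc_one, mul_one])
    exact euler_iso k X e 2
  have g2 : FGA.eulerCharLE k X (CohB1.tensorMod L' (CohB1.tensorMod (Pic13.twistOn k i L m)
      (Coh.structureModule X))) 2 = hf k i 2 (Coh.structureModule X) m := by
    obtain ⟨e⟩ := (mc_eq_iff (CohB1.tensorMod L' (CohB1.tensorMod (Pic13.twistOn k i L m) (Coh.structureModule X)))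
      (Pic13.twistOn k i (Coh.structureModule X) m)).mp (by
        rw [mc_tensor, mc_tensor, mc_twistOn, mc_twistOn, mc_one, mul_one, one_mul, ← mul_assoc, mc_inv_mul hLL',
          one_mul])
    exact euler_iso k X e 2
  have g3 : FGA.eulerCharLE k X (CohB1.tensorMod L' (CohB1.tensorMod L' (CohB1.tensorMod (Pic13.twistOn k i L m)
      (Coh.structureModule X)))) 2 = hf k i 2 L' m := by
    obtain ⟨e⟩ := (mc_eq_iff (CohB1.tensorMod L' (CohB1.tensorMod L'
      (CohB1.tensorMod (Pic13.twistOn k i L m) (Coh.structureModule X)))) (Pic13.twistOn k i L' m)).mp (by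
        rw [mc_tensor, mc_tensor, mc_tensor, mc_twistOn, mc_twistOn, mc_one, mul_one]
        congr 1
        rw [← mul_assoc, mc_inv_mul hLL', one_mul])
    exact euler_iso k X e 2
  rw [g1, g2, g3]

theorem exists_coeff {n : ℕ} {X : Scheme.{u}} [X.Over (Spec (CommRingCat.of k))]
    (i : X ⟶ CohB1.ProjSpace n k) [IsProper (X ↘ Spec (CommRingCat.of k))] (d : ℕ)
    (hd : topologicalKrullDim X ≤ (d : ℕ)) {M : X.Modules} (hM : PicF.IsInvertible M) :
    ∃ b : Fin (d + 1) → ℤ, hf k i d M = ev b := by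
  refine exists_ev (d + 1) _ (nab_hf k i d hd M (isCoh_invertible hM) ?_)
  rw [dim_support_invertible hM]
  exact lt_of_le_of_lt hd (by exact_mod_cast Nat.lt_succ_self d)

theorem nab_one (a : Fin 3 → ℤ) (m : ℤ) : nab (ev a) m = a 1 + a 2 * (m + 1) := nab_iter_ev_succ (r := 1) a m

end K243.Quad
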