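import Groth.Agent.Pic13.K243.LinForms
import Groth.Agent.Pic13.K243.Base
import Groth.Agent.Sga2.ConvEsz

/-!
# Sections of `F` and of `F(-1)` on projective space

`F` coherent on `P^N_k`, `k` algebraically closed, no associated point of `F` is closed.
* `drop`: if `H⁰(F) ≠ 0` then `h⁰(F(-1)) + 1 ≤ h⁰(F)`.
* `vanish`: `H⁰(F(-n)) = 0` for `n ≥ h⁰(F)`.
-/

set_option autoImplicit false
universe u
open CategoryTheory CategoryTheory.Limits AlgebraicGeometry Opposite TopologicalSpace

namespace K243.SecDrop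

open Groth.Agent Groth.Agent.Fdesc Groth.Agent.Fdesc.LocGen Groth.Agent.Fga Groth.Agent.Fga.PicMon

variable (k : Type u) [Field k] (N : ℕ)

theorem finrank_congr {X : Scheme.{u}} [X.Over (Spec (CommRingCat.of k))] {F G : X.Modules} (e : F ≅ G) (q : ℕ) :
    Module.finrank k (Coh.HH X F q) = Module.finrank k (Coh.HH X G q) :=
  (hmapEquiv k X e q).finrank_eq

theorem isProper_PN : IsProper (CohB1.ProjSpace N k ↘ Spec (CommRingCat.of k)) := Ega3B.ProjProper.isProper_toSpec N k

theorem drop_aux [IsAlgClosed k] (G : (CohB1.ProjSpace N k).Modules) (hG : Coh.IsCoh G)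
    (hass : ∀ x ∈ AssSch.Ass G, ¬ IsClosed ({x} : Set (CohB1.ProjSpace N k)))
    [Nontrivial (Coh.HH (CohB1.ProjSpace N k) G 0)] :
    Module.finrank k (Coh.HH (CohB1.ProjSpace N k) G 0) + 1 ≤
      Module.finrank k (Coh.HH (CohB1.ProjSpace N k) (CohB1.tensorMod (Twist.twistProjSpace N k 1) G) 0) := by
  have := isProper_PN k N
  have hN : IsNoetherian (CohB1.ProjSpace N k) := by
    have h1 : IsLocallyNoetherian (CohB1.ProjSpace N k) :=
      LocallyOfFiniteType.isLocallyNoetherian (CohB1.ProjSpace N k ↘ Spec (CommRingCat.of k))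
    have h2 : CompactSpace (CohB1.ProjSpace N k) :=
      QuasiCompact.compactSpace_of_compactSpace (CohB1.ProjSpace N k ↘ Spec (CommRingCat.of k))
    exact {}
  have hO := Sga67.SerreVB.isInvertible_twist N k 1
  have hLG : Coh.IsCoh (CohB1.tensorMod (Twist.twistProjSpace N k 1) G) :=
    Sga67.CohBasic.isCoh_of_iso (Ega2.Tens.swap G _) (TwistCoh.isCoh_tensor hG hO)
  obtain ⟨s, s', hs, hs'⟩ := LinForms.exists_pencil k N (AssSch.Ass G) (SubFilt.finite_ass hG) hass
  have f1 : Module.Finite k (Coh.HH (CohB1.ProjSpace N k) G 0) := S0002.result k _ G hG 0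
  have f2 : Module.Finite k (Coh.HH (CohB1.ProjSpace N k) (CohB1.tensorMod (Twist.twistProjSpace N k 1) G) 0) :=
    S0002.result k _ _ hLG 0
  have hmono : ∀ t : Coh.structureModule (CohB1.ProjSpace N k) ⟶ Twist.twistProjSpace N k 1,
      AssSch.Ass G ⊆ CohB1.genLocus _ t → Mono (RegSec.mulS t G) := fun t ht =>
    RegSec.mulS_mono t G hG (Sga67.CohBasic.isCoh_kernel _ hG hLG.1).1 ht
  exact Pencil.pencil k s s' G (hmono _ hs) (fun c => hmono _ (hs' c))

theorem drop [IsAlgClosed k] (F : (CohB1.ProjSpace N k).Modules) (hF : Coh.IsCoh F)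
    (hass : ∀ x ∈ AssSch.Ass F, ¬ IsClosed ({x} : Set (CohB1.ProjSpace N k)))
    (h0 : 1 ≤ Module.finrank k (Coh.HH (CohB1.ProjSpace N k) F 0)) :
    Module.finrank k (Coh.HH (CohB1.ProjSpace N k) (CohB1.tensorMod F (Twist.twistProjSpace N k (-1))) 0) + 1 ≤
      Module.finrank k (Coh.HH (CohB1.ProjSpace N k) F 0) := by
  rcases subsingleton_or_nontrivial
    (Coh.HH (CohB1.ProjSpace N k) (CohB1.tensorMod F (Twist.twistProjSpace N k (-1))) 0) with h | h
  · rw [Module.finrank_zero_of_subsingleton]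
    omega
  · have hO := Sga67.SerreVB.isInvertible_twist N k (-1)
    have h1 := drop_aux k N _ (TwistCoh.isCoh_tensor hF hO) (by rw [Sga2.ConvEsz.ass_tensor hO]; exact hass)
    obtain ⟨e1⟩ := Sga67.SerreVB.nonempty_twist_mul N k 1 (-1)
    obtain ⟨e0⟩ := Sga67.SerreVB.nonempty_twist_zero N k
    have h2 : mc (Twist.twistProjSpace N k 1) * mc (Twist.twistProjSpace N k (-1)) = 1 := by
      rw [← mc_tensor, ← mc_one, mc_eq e1]
      exact mc_eq e0
    obtain ⟨e⟩ := (mc_eq_iff (CohB1.tensorMod (Twist.twistProjSpace N k 1)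
      (CohB1.tensorMod F (Twist.twistProjSpace N k (-1)))) F).mp (by
        rw [mc_tensor, mc_tensor, mul_left_comm, h2, mul_one])
    rwa [finrank_congr k e 0] at h1

theorem subsingleton_of_finrank {F : (CohB1.ProjSpace N k).Modules} (hF : Coh.IsCoh F)
    (h : Module.finrank k (Coh.HH (CohB1.ProjSpace N k) F 0) = 0) : Subsingleton (Coh.HH (CohB1.ProjSpace N k) F 0) := by
  have := isProper_PN k N
  have f1 : Module.Finite k (Coh.HH (CohB1.ProjSpace N k) F 0) := S0002.result k _ F hF 0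
  exact Module.finrank_zero_iff.mp h

theorem vanish [IsAlgClosed k] (n : ℕ) (F : (CohB1.ProjSpace N k).Modules) (hF : Coh.IsCoh F)
    (hass : ∀ x ∈ AssSch.Ass F, ¬ IsClosed ({x} : Set (CohB1.ProjSpace N k)))
    (hn : Module.finrank k (Coh.HH (CohB1.ProjSpace N k) F 0) ≤ n) :
    Subsingleton (Coh.HH (CohB1.ProjSpace N k) (CohB1.tensorMod F (Twist.twistProjSpace N k (-(n : ℤ)))) 0) := by
  have hO := fun d : ℤ => Sga67.SerreVB.isInvertible_twist N k d
  have key : ∀ m : ℕ, Module.finrank k (Coh.HH (CohB1.ProjSpace N k)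
      (CohB1.tensorMod F (Twist.twistProjSpace N k (-(m : ℤ)))) 0) ≤
        Module.finrank k (Coh.HH (CohB1.ProjSpace N k) F 0) - m := by
    intro m
    induction m with
    | zero =>
      obtain ⟨e0⟩ := Sga67.SerreVB.nonempty_twist_zero N k
      have e : CohB1.tensorMod F (Twist.twistProjSpace N k (-((0 : ℕ) : ℤ))) ≅ F :=
        Ega2.Tens.mapTIso (Iso.refl F) e0 ≪≫ Ega2.Tens.runit F
      rw [finrank_congr k e 0]
      omega
    | succ m ih =>
      set G := CohB1.tensorMod F (Twist.twistProjSpace N k (-(m : ℤ))) with hG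
      have hGc : Coh.IsCoh G := TwistCoh.isCoh_tensor hF (hO _)
      have hGa : ∀ x ∈ AssSch.Ass G, ¬ IsClosed ({x} : Set (CohB1.ProjSpace N k)) := by
        rw [hG, Sga2.ConvEsz.ass_tensor (hO _)]; exact hass
      obtain ⟨e1⟩ := Sga67.SerreVB.nonempty_twist_mul N k (-(m : ℤ)) (-1)
      have he : (-(m : ℤ)) + -1 = -((m + 1 : ℕ) : ℤ) := by push_cast; ring
      rw [he] at e1
      have e : CohB1.tensorMod G (Twist.twistProjSpace N k (-1)) ≅
          CohB1.tensorMod F (Twist.twistProjSpace N k (-((m + 1 : ℕ) : ℤ))) :=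
        Ega2.Tens.assoc F _ _ ≪≫ Ega2.Tens.mapTIso (Iso.refl F) e1
      rw [← finrank_congr k e 0]
      by_cases h0 : 1 ≤ Module.finrank k (Coh.HH (CohB1.ProjSpace N k) G 0)
      · have := drop k N G hGc hGa h0
        omega
      · rcases subsingleton_or_nontrivial
          (Coh.HH (CohB1.ProjSpace N k) (CohB1.tensorMod G (Twist.twistProjSpace N k (-1))) 0) with h | h
        · rw [Module.finrank_zero_of_subsingleton]
          omega
        · exfalso
          have h1 := drop_aux k N _ (TwistCoh.isCoh_tensor hGc (hO (-1))) (by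
            rw [Sga2.ConvEsz.ass_tensor (hO (-1))]; exact hGa)
          obtain ⟨e1'⟩ := Sga67.SerreVB.nonempty_twist_mul N k 1 (-1)
          obtain ⟨e0⟩ := Sga67.SerreVB.nonempty_twist_zero N k
          have h2 : mc (Twist.twistProjSpace N k 1) * mc (Twist.twistProjSpace N k (-1)) = 1 := by
            rw [← mc_tensor, ← mc_one, mc_eq e1']
            exact mc_eq e0
          obtain ⟨e'⟩ := (mc_eq_iff (CohB1.tensorMod (Twist.twistProjSpace N k 1)
            (CohB1.tensorMod G (Twist.twistProjSpace N k (-1)))) G).mp (by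
              rw [mc_tensor, mc_tensor, mul_left_comm, h2, mul_one])
          rw [finrank_congr k e' 0] at h1
          omega
  refine subsingleton_of_finrank k N (TwistCoh.isCoh_tensor hF (hO _)) ?_
  have := key n
  omega

end K243.SecDrop
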