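import Groth.Agent.Pic13.K243.TopThree
import Groth.Agent.S4284
import Groth.Agent.S4286
import Groth.Agent.CurvesC.DegIso

/-!
# Bounded families and bounded coefficients, in all dimensions
-/

set_option autoImplicit false
set_option linter.unusedSectionVars false
universe u
open CategoryTheory CategoryTheory.Limits AlgebraicGeometry Opposite TopologicalSpace

namespace K243.Small

open Groth.Agent Groth.Agent.Fga Groth.Agent.Fga.PicMon K243.Base K243.Les K243.CutEmb K243.Hilb K243.Diff K243.Deg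
open K243.Quad K243.Lower K243.Surface

/-- Pulling back along an isomorphism over the base does not change `h^q`. -/
theorem hq_pull_iso (k : Type u) [Field k] {X Y : Scheme.{u}} [X.Over (Spec (CommRingCat.of k))]
    [Y.Over (Spec (CommRingCat.of k))] (f : Y ⟶ X) [IsIso f]
    (hf : f ≫ (X ↘ Spec (CommRingCat.of k)) = Y ↘ Spec (CommRingCat.of k)) (L : X.Modules) (q : ℕ) :
    hq k q ((Scheme.Modules.pullback f).obj L) = hq k q L := by
  have h1 : hq k q ((Scheme.Modules.pullback f).obj L) =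
      hq k q ((Scheme.Modules.pushforward f).obj ((Scheme.Modules.pullback f).obj L)) :=
    (CurvesC.CurveNum.hhPushₗ k f hf _ q).finrank_eq
  rw [h1]
  exact (hq_iso k (CurvesC.DegIso.unitIso (asIso f) L) q).symm

theorem isIso_of_dim {X Y : Scheme.{u}} (f : Y ⟶ X) [IsClosedImmersion f] [IsIntegral X] [IsIntegral Y] (d : ℕ)
    (hX : topologicalKrullDim X = (d : ℕ)) (hY : topologicalKrullDim Y = (d : ℕ)) : IsIso f := by
  have hcl : IsClosed (Set.range f) := f.isClosedEmbedding.isClosed_range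
  have hdimr : topologicalKrullDim (Set.range f) = (d : ℕ) := by
    rw [← hY]
    exact (f.isClosedEmbedding.isEmbedding.toHomeomorph).isHomeomorph.topologicalKrullDim_eq.symm
  have hs : Set.range f = Set.univ := by
    by_contra hne
    have huniv : topologicalKrullDim (Set.univ : Set X) < ((d + 1 : ℕ) : WithBot ℕ∞) := by
      have h1 : topologicalKrullDim (Set.univ : Set X) ≤ topologicalKrullDim X :=
        Topology.IsInducing.subtypeVal.topologicalKrullDim_le
      rw [hX] at h1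
      exact lt_of_le_of_lt h1 (by exact_mod_cast Nat.lt_succ_self d)
    have h := DimLt.topologicalKrullDim_lt (A := Set.univ) (irreducibleSpace_def X |>.mp inferInstance) hcl
      (Set.subset_univ _) hne huniv
    rw [hdimr] at h
    exact lt_irrefl _ h
  have : Surjective f := ⟨Set.range_eq_univ.mp hs⟩
  exact isIso_of_isClosedImmersion_of_surjective f

variable (k : Type u) [Field k] [IsAlgClosed k] {n : ℕ} {X : Scheme.{u}} [X.Over (Spec (CommRingCat.of k))]
  (i : X ⟶ CohB1.ProjSpace n k) [IsClosedImmersion i]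
  (hi : i ≫ CohB1.ProjSpace.toSpec n k = X ↘ Spec (CommRingCat.of k)) [IsIntegral X]

theorem dim_le_of_closed {Y : Scheme.{u}} (f : Y ⟶ X) [IsClosedImmersion f] :
    topologicalKrullDim Y ≤ topologicalKrullDim X :=
  f.isClosedEmbedding.isEmbedding.isInducing.topologicalKrullDim_le

include hi in
theorem bounded_zero (hdim : topologicalKrullDim X = (0 : ℕ)) (Q : X.Modules → Prop)
    (hQ : ∀ L, Q L → PicF.IsInvertible L) : Pic13.IsBounded k X Q := by
  have hP := isProper_of i hi
  obtain ⟨p, Y, ι, hY, h⟩ := S4284.result k X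
  refine (h Q hQ).mpr ⟨0, fun L hL j => ?_⟩
  exfalso
  obtain ⟨h1, -, h3⟩ := hY j
  have h4 := dim_le_of_closed (ι j)
  rw [h3, hdim] at h4
  exact absurd h4 (by norm_num)

include hi in
theorem bounded_one (hdim : topologicalKrullDim X = (1 : ℕ)) (Q : X.Modules → Prop)
    (hQ : ∀ L, Q L → PicF.IsInvertible L) (B : ℕ)
    (hB : ∀ L, Q L → ∃ a : Fin 2 → ℤ, hf k i 1 L = ev a ∧ ∀ j, |a j| ≤ B) : Pic13.IsBounded k X Q := by
  have hP := isProper_of i hi
  obtain ⟨p, Y, ι, hY, h⟩ := S4284.result k X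
  refine (h Q hQ).mpr ⟨B + B + |hf k i 1 (Coh.structureModule X) 0|, fun L hL j => ?_⟩
  obtain ⟨h1, h2, h3⟩ := hY j
  have hiso : IsIso (ι j) := isIso_of_dim (ι j) 1 hdim (by simpa using h3)
  let _ : (Y j).Over (Spec (CommRingCat.of k)) := ⟨ι j ≫ (X ↘ Spec (CommRingCat.of k))⟩
  obtain ⟨a, ha, hab⟩ := hB L hL
  have e1 : FGA.eulerCharLE k (Y j) ((Scheme.Modules.pullback (ι j)).obj L) 1 = hf k i 1 L 0 := by
    rw [← euler_eq_hf k i 1 L]
    exact euler_congr k k (fun q => hq_pull_iso k (ι j) rfl L q) 1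
  have e2 : FGA.eulerCharLE k (Y j) (Coh.structureModule (Y j)) 1 = hf k i 1 (Coh.structureModule X) 0 := by
    rw [← euler_eq_hf k i 1]
    refine euler_congr k k (fun q => ?_) 1
    rw [← hq_pull_iso k (ι j) rfl (Coh.structureModule X) q]
    exact hq_mc k (by rw [mc_one, mc_pull_unit]) q
  have e3 : Pic13.curveDeg k (ι j ≫ (X ↘ Spec (CommRingCat.of k))) ((Scheme.Modules.pullback (ι j)).obj L) =
      hf k i 1 L 0 - hf k i 1 (Coh.structureModule X) 0 := by
    rw [← e1, ← e2]; rfl
  rw [e3, ha]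
  have e4 : ev a 0 = a 0 + a 1 := by
    simp only [ev, Fin.sum_univ_two]
    simp [cc_zero, cc_one]
  rw [e4]
  have b0 := abs_le.mp (hab 0)
  have b1 := abs_le.mp (hab 1)
  have h5 := neg_abs_le (hf k i 1 (Coh.structureModule X) 0)
  have h6 := le_abs_self (hf k i 1 (Coh.structureModule X) 0)
  rw [abs_le]
  constructor <;> linarith

/-- Bounded coefficients imply bounded. -/
theorem bounded_of_coeffs (r : ℕ) (hi : i ≫ CohB1.ProjSpace.toSpec n k = X ↘ Spec (CommRingCat.of k))
    (hdim : topologicalKrullDim X = (r : ℕ)) (Q : X.Modules → Prop)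
    (hQ : ∀ L, Q L → PicF.IsInvertible L) (B : ℕ)
    (hB : ∀ L, Q L → ∃ a : Fin (r + 1) → ℤ, hf k i r L = ev a ∧ ∀ j, |a j| ≤ B) : Pic13.IsBounded k X Q := by
  match r, hdim, hB with
  | 0, hdim, hB => exact bounded_zero k i hi hdim Q hQ
  | 1, hdim, hB => exact bounded_one k i hi hdim Q hQ B hB
  | s + 2, hdim, hB =>
    refine TopThree.isBounded k n X i hi s hdim Q hQ B fun L hL => ?_
    obtain ⟨a, ha, hab⟩ := hB L hL
    exact ⟨a, ha, fun j => hab _⟩

include hi in
/-- Bounded implies bounded coefficients. -/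
theorem coeffs_of_bounded (r : ℕ) (hdim : topologicalKrullDim X = (r : ℕ)) (Q : X.Modules → Prop)
    (hQ : ∀ L, Q L → PicF.IsInvertible L) (hb : Pic13.IsBounded k X Q) :
    ∃ B : ℕ, ∀ L, Q L → ∃ a : Fin (r + 1) → ℤ, hf k i r L = ev a ∧ ∀ j, |a j| ≤ B := by
  classical
  have hP := isProper_of i hi
  have hsep : X.IsSeparated := ⟨by
    have : terminal.from X = (X ↘ Spec (CommRingCat.of k)) ≫ terminal.from _ := Subsingleton.elim _ _
    rw [this]; infer_instance⟩
  obtain ⟨-, s, hs⟩ := S4286.result k n X i hi Q (fun L hL => isCoh_invertible (hQ L hL)) hb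
  have hfn : ∀ L, PicF.IsInvertible L → hf k i n L = hf k i r L := by
    intro L hL
    have h1 : hf k i (n + r) L = hf k i r L := hf_bound k i (hdim.le.trans (by exact_mod_cast Nat.le_add_left r n))
      hdim.le L
    rw [← h1]
    funext m
    unfold hf FGA.eulerCharLE
    refine Finset.sum_subset (Finset.range_subset_range.mpr (by omega)) fun q _ hq' => ?_
    have h2 : n < q := by
      rw [Finset.mem_range] at hq'
      omega
    have h3 := Pic13.H952.FlatFam.subsingleton_HH_of_lt i (Pic13.twistOn k i L m)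
      (isCoh_twistOn k i (isCoh_invertible hL) m).1 q h2
    rw [Module.finrank_zero_of_subsingleton]
    simp
  have hfin : {f : ℤ → ℤ | ∃ L, Q L ∧ f = hf k i r L}.Finite := by
    refine (s.finite_toSet.image fun φ : Polynomial ℚ => fun d : ℤ => ⌊φ.eval (d : ℚ)⌋).subset ?_
    rintro f ⟨L, hL, rfl⟩
    obtain ⟨φ, hφ, hφ'⟩ := hs L hL
    refine ⟨φ, hφ, ?_⟩
    funext d
    have h1 := hφ' d
    have h2 : FGA.eulerCharLE k X (Pic13.twistOn k i L d) n = hf k i r L d := congrFun (hfn L (hQ L hL)) d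
    rw [h2] at h1
    simp only [← h1, Int.floor_intCast]
  have hex : ∀ f : ℤ → ℤ, ∃ a : Fin (r + 1) → ℤ, (∃ L, Q L ∧ f = hf k i r L) → f = ev a := by
    intro f
    by_cases h : ∃ L, Q L ∧ f = hf k i r L
    · obtain ⟨L, hL, rfl⟩ := h
      obtain ⟨a, ha⟩ := exists_coeff k i r hdim.le (hQ L hL)
      exact ⟨a, fun _ => ha⟩
    · exact ⟨0, fun h' => absurd h' h⟩
  choose A hA using hex
  refine ⟨∑ f ∈ hfin.toFinset, ∑ j, (A f j).natAbs, fun L hL => ⟨A (hf k i r L), hA _ ⟨L, hL, rfl⟩, fun j => ?_⟩⟩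
  have h1 : (A (hf k i r L) j).natAbs ≤ ∑ j, (A (hf k i r L) j).natAbs :=
    Finset.single_le_sum (f := fun j => (A (hf k i r L) j).natAbs) (fun _ _ => Nat.zero_le _) (Finset.mem_univ j)
  have h2 : ∑ j, (A (hf k i r L) j).natAbs ≤ ∑ f ∈ hfin.toFinset, ∑ j, (A f j).natAbs :=
    Finset.single_le_sum (f := fun f => ∑ j, (A f j).natAbs) (fun _ _ => Nat.zero_le _)
      (by rw [Set.Finite.mem_toFinset]; exact ⟨L, hL, rfl⟩)
  rw [Int.abs_eq_natAbs]
  exact_mod_cast h1.trans h2

end K243.Small
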