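import Groth.Agent.Pic13.K243.Curve
import Groth.Agent.Pic13.K243.Deg
import Groth.Agent.Pic13.K243.Num
import Groth.Agent.Fga.MumInputs

/-!
# The bound on `h¹` and the regularity of invertible modules of nonpositive degree on a surface

`X ⊆ P^n_k` an integral surface, `k` infinite, `L` invertible of degree `≤ 0`, `χ(L(m)) = ev a m`.  Then
`h¹(L(m)) ≤ a₁ (a₁ + 1) - a₀`, `2 a₀ ≤ a₁ (a₁ + 1)`, and `L` is `m`-regular for `m ≥ -a₁ + a₁ (a₁ + 1) - a₀ + 1`.
-/

set_option autoImplicit false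
set_option linter.unusedSectionVars false
universe u
open CategoryTheory CategoryTheory.Limits AlgebraicGeometry Opposite TopologicalSpace

namespace K243.Surface

open Groth.Agent Groth.Agent.Fga Groth.Agent.Fga.PicMon K243.Base K243.Les K243.CutEmb K243.Hilb K243.Member
open K243.Diff K243.Deg
open Groth.Agent.Pic13.H956.GenExt Groth.Agent.Pic13.H956.GenAlg

section General

variable (k : Type u) [Field k] {n : ℕ} {X : Scheme.{u}} [X.Over (Spec (CommRingCat.of k))]
  (i : X ⟶ CohB1.ProjSpace n k)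

theorem hf_bound [IsProper (X ↘ Spec (CommRingCat.of k))] {d d' : ℕ} (hd : topologicalKrullDim X ≤ (d : ℕ))
    (hd' : topologicalKrullDim X ≤ (d' : ℕ)) (F : X.Modules) : hf k i d F = hf k i d' F := by
  funext m
  exact (IntAdd.eulerCharLE_eq k X d hd _).trans (IntAdd.eulerCharLE_eq k X d' hd' _).symm

theorem serre [IsClosedImmersion i] (hi : i ≫ CohB1.ProjSpace.toSpec n k = X ↘ Spec (CommRingCat.of k))
    {F : X.Modules} (hF : Coh.IsCoh F) : ∃ N : ℤ, ∀ m : ℤ, N ≤ m → ∀ q : ℕ, 1 ≤ q → hX k i F m q = 0 := by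
  obtain ⟨N, hN⟩ := Fga.MumInputs.serre k n ((Scheme.Modules.pushforward i).obj F)
    (Pic13.H951.PresentX.isCoh_push k i hF)
  refine ⟨N, fun m hm q hq' => ?_⟩
  rw [← hX_push k i hi]
  exact hq_of_subsingleton k (hN m (by omega) q hq')

theorem hf_two (F : X.Modules) (m : ℤ) :
    hf k i 2 F m = (hX k i F m 0 : ℤ) - hX k i F m 1 + hX k i F m 2 := by
  unfold hf FGA.eulerCharLE
  rw [Finset.sum_range_succ, Finset.sum_range_succ, Finset.sum_range_one]
  unfold hX hq
  ring

theorem mc_twist_inv {L L' : X.Modules} (hLL' : Nonempty (CohB1.tensorMod L L' ≅ Coh.structureModule X)) (m : ℤ) :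
    Nonempty (CohB1.tensorMod (Pic13.twistOn k i L m) (Pic13.twistOn k i L' (-m)) ≅ Coh.structureModule X) := by
  rw [← mc_eq_iff, mc_tensor, mc_twistOn, mc_twistOn, mul_mul_mul_comm, mc_mul_inv hLL', one_mul, o_mul_neg, mc_one]

theorem pull_inv {Y : Scheme.{u}} (f : Y ⟶ X) {L L' : X.Modules} (hL : PicF.IsInvertible L)
    (hLL' : Nonempty (CohB1.tensorMod L L' ≅ Coh.structureModule X)) :
    Nonempty (CohB1.tensorMod ((Scheme.Modules.pullback f).obj L) ((Scheme.Modules.pullback f).obj L') ≅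
      Coh.structureModule Y) := by
  rw [← mc_eq_iff, mc_tensor, ← mc_pull_tensor f hL (isInvertible_inv hLL'), mc_one, ← mc_pull_unit f]
  exact mc_pull_congr f (mc_eq hLL'.some)

end General

variable (k : Type u) [Field k] [Infinite k] {n : ℕ} {X : Scheme.{u}} [X.Over (Spec (CommRingCat.of k))]
  (i : X ⟶ CohB1.ProjSpace n k) [IsClosedImmersion i]
  (hi : i ≫ CohB1.ProjSpace.toSpec n k = X ↘ Spec (CommRingCat.of k)) [IsIntegral X]
  (hdim : topologicalKrullDim X = (2 : ℕ))
  {L L' : X.Modules} (hL : PicF.IsInvertible L)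
  (hLL' : Nonempty (CohB1.tensorMod L L' ≅ Coh.structureModule X))
  (hdeg : deg k i 1 L' ≤ 0) (a : Fin 3 → ℤ) (ha : hf k i 2 L = ev a)

include hi hdim hL ha in
theorem top_pos : 0 < a 2 := by
  have hP := isProper_of i hi
  have h1 := Coeffs.top_eq k i 1 hdim.le hL a ha
  have h2 : a 2 = a (Fin.last (1 + 1)) := rfl
  rw [h2, h1]
  refine PosMain.intNum_pos k X (1 + 1) hdim.le (fun _ => O i 1) (fun _ => O i (-1)) (fun _ => isAmple_O i)
    (fun _ => nonempty_O_mul_neg i 1) _ (CurvesC.UnitCoh.isCoh_unit X) ?_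
  rw [Pic13.H956.Numbers.support_unit]
  exact ((Homeomorph.Set.univ X).isHomeomorph.topologicalKrullDim_eq).trans hdim

theorem nab_one (a : Fin 3 → ℤ) (m : ℤ) : nab (ev a) m = a 1 + a 2 * (m + 1) := nab_iter_ev_succ (r := 1) a m

include hi hdim hL hLL' hdeg ha in
theorem h0_neg (m : ℤ) (hm : m ≤ -1) : hX k i L m 0 = 0 := by
  have hP := isProper_of i hi
  have h2 := top_pos k i hi hdim hL a ha
  refine Curve.h0_zero k i hP 1 hdim (isInvertible_twistOn i hL m) (mc_twist_inv k i hLL' m) ?_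
  have h3 := deg_twist k i 1 hdim.le hL hLL' m
  have h4 : nab^[1] (hf k i (1 + 1) L) m - nab^[1] (hf k i (1 + 1) L) 0 = a 2 * m := by
    have h5 : hf k i (1 + 1) L = ev a := ha
    rw [h5, nab_iter_ev_succ (r := 1) a, nab_iter_ev_succ (r := 1) a]
    have h6 : a (Fin.last (1 + 1)) = a 2 := rfl
    rw [h6]
    ring
  rw [h4] at h3
  change deg k i 1 (Pic13.twistOn k i L' (-m)) < 0
  rw [h3]
  nlinarith

section Member

variable (t : Sec k i) (ht : t ≠ 0) (hint : IsIntegral (Cut.D t)) (hD : topologicalKrullDim (Cut.D t) = (1 : ℕ))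

/-- The restriction of `L` to the section. -/
noncomputable abbrev LD (L : X.Modules) : (Cut.D t).Modules := res t (up k L)

/-- The embedding of the section. -/
noncomputable abbrev jj : Cut.D t ⟶ CohB1.ProjSpace n (Gen k) := jD (Gen k) (Ext.iG k i hi) t

include hi in
theorem integral_XG : IsIntegral (XG k X) := by
  have := isProper_of i hi
  infer_instance

include hi in
theorem proper_XG : IsProper (XG k X ↘ Spec (CommRingCat.of (Gen k))) := by
  have := isProper_of i hi
  infer_instance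

theorem inv_up {L : X.Modules} (hL : PicF.IsInvertible L) : PicF.IsInvertible (up k L) :=
  Fdesc.LocGen.isInvertible_pullback _ hL

include ht in
theorem hf_LD {L : X.Modules} (hL : PicF.IsInvertible L) (d : ℕ) (hd : topologicalKrullDim X ≤ (d : ℕ)) :
    hf (Gen k) (jj k i hi t) d (LD k i t L) = nab (hf k i d L) := by
  have := proper_XG k i hi
  have := integral_XG k i hi
  have := isProper_of i hi
  rw [← hf_pull k i hi hL d]
  exact hf_cut (Gen k) (Ext.iG k i hi) t (inv_up k hL) (inv_N k i) (mc_N k i hi) ht d ((dim_XG k X).trans_le hd)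

include hdim hL hLL' hdeg ha ht hint hD in
theorem h0_LD (m : ℤ) (hm : m ≤ -1) : hX (Gen k) (jj k i hi t) (LD k i t L) m 0 = 0 := by
  have hP := isProper_of i hi
  have := proper_XG k i hi
  have := integral_XG k i hi
  have hPD : IsProper (Cut.D t ↘ Spec (CommRingCat.of (Gen k))) := proper_D (Gen k) t
  have h2 := top_pos k i hi hdim hL a ha
  have hLD : PicF.IsInvertible (LD k i t L) := isInvertible_res t (inv_up k hL)
  have hinv : Nonempty (CohB1.tensorMod (LD k i t L) (LD k i t L') ≅ Coh.structureModule (Cut.D t)) :=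
    pull_inv (Cut.ι t) (inv_up k hL) (pull_inv (pr k X) hL hLL')
  refine Curve.h0_zero (Gen k) (jj k i hi t) hPD 0 hD (isInvertible_twistOn _ hLD m)
    (mc_twist_inv (Gen k) _ hinv m) ?_
  change deg (Gen k) (jj k i hi t) 0 (Pic13.twistOn (Gen k) (jj k i hi t) (LD k i t L') (-m)) < 0
  have h3 := deg_twist (Gen k) (jj k i hi t) 0 hD.le hLD hinv m
  have h4 := deg_eq (Gen k) (jj k i hi t) 0 hD.le hLD hinv
  have hD2 : topologicalKrullDim (Cut.D t) ≤ (2 : ℕ) := hD.le.trans (by exact_mod_cast Nat.le_succ 1)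
  have e1 : hf (Gen k) (jj k i hi t) (0 + 1) (LD k i t L) = nab (hf k i 2 L) := by
    rw [hf_bound (Gen k) (jj k i hi t) (d' := 2) hD.le hD2]
    exact hf_LD k i hi t ht hL 2 hdim.le
  have e2 : hf (Gen k) (jj k i hi t) (0 + 1) (Coh.structureModule (Cut.D t)) =
      nab (hf k i 2 (Coh.structureModule X)) := by
    rw [hf_bound (Gen k) (jj k i hi t) (d' := 2) hD.le hD2,
      ← hf_LD k i hi t ht (Coeffs.isInvertible_unit (X := X)) 2 hdim.le]
    refine hf_congr (Gen k) _ 2 ?_
    have h5 : mc (LD k i t (Coh.structureModule X)) = 1 := by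
      have h6 : mc (up k (Coh.structureModule X)) = mc (Coh.structureModule (XG k X)) := by
        rw [mc_one]; exact mc_pull_unit _
      exact (mc_pull_congr (Cut.ι t) h6).trans (mc_pull_unit _)
    rw [h5, mc_one]
  have h6 := deg_eq k i 1 hdim.le hL hLL'
  simp only [Function.iterate_zero, id_eq, Function.iterate_one] at h3 h4 h6
  rw [h3, h4, e1, e2]
  have h7 : hf k i (1 + 1) L = ev a := ha
  have h8 : hf k i (1 + 1) (Coh.structureModule X) = hf k i 2 (Coh.structureModule X) := rfl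
  rw [h7, h8] at h6
  rw [ha, nab_one, nab_one]
  rw [nab_one] at h6
  nlinarith

end Member

include hi hdim hL hLL' hdeg ha in
/-- **The bounds.** -/
theorem main :
    (∀ m, (hX k i L m 1 : ℤ) ≤ a 1 * (a 1 + 1) - a 0) ∧ 2 * a 0 ≤ a 1 * (a 1 + 1) ∧ 0 ≤ -a 1 ∧
      0 ≤ a 1 * (a 1 + 1) ∧ (∀ m, -a 1 - 2 ≤ m → hX k i L m 2 = 0) ∧
      (∀ m, -a 1 + (a 1 * (a 1 + 1) - a 0) ≤ m → hX k i L m 1 = 0) := by
  have hP := isProper_of i hi
  have hPG := proper_XG k i hi
  have hIG := integral_XG k i hi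
  obtain ⟨t, ht, hint, hD⟩ := exists_member k i hi 0 hdim
  have hD' : topologicalKrullDim (Cut.D t) = (1 : ℕ) := hD
  have hPD : IsProper (Cut.D t ↘ Spec (CommRingCat.of (Gen k))) := proper_D (Gen k) t
  have hM := inv_up k hL
  have hLD : PicF.IsInvertible (LD k i t L) := isInvertible_res t hM
  have hc0 := h0_LD k i hi hdim hL hLL' hdeg a ha t ht hint hD'
  have hjD := jD_toSpec (Gen k) (Ext.iG k i hi) t (Ext.iG_toSpec k i hi)
  have hc2 : ∀ m (p : ℕ), 1 < p → hX (Gen k) (jj k i hi t) (LD k i t L) m p = 0 := fun m p hp =>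
    hX_of_dim (Gen k) _ (isCoh_invertible hLD) 1 hD'.le m p hp
  have h_mid : ∀ m, hX k i L m 1 ≤ hX k i L (m - 1) 1 + hX (Gen k) (jj k i hi t) (LD k i t L) m 1 := by
    intro m
    have := le_mid (Gen k) (Ext.iG k i hi) t hM m (inv_N k i) (mc_N k i hi) ht 1
    rwa [hX_pull k i hi hL, hX_pull k i hi hL] at this
  have h_left0 : ∀ m, hX k i L (m - 1) 1 ≤ hX (Gen k) (jj k i hi t) (LD k i t L) m 0 + hX k i L m 1 := by
    intro m
    have := le_left (Gen k) (Ext.iG k i hi) t hM m (inv_N k i) (mc_N k i hi) ht 0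
    rwa [hX_pull k i hi hL, hX_pull k i hi hL] at this
  have h_left1 : ∀ m, hX k i L (m - 1) 2 ≤ hX (Gen k) (jj k i hi t) (LD k i t L) m 1 + hX k i L m 2 := by
    intro m
    have := le_left (Gen k) (Ext.iG k i hi) t hM m (inv_N k i) (mc_N k i hi) ht 1
    rwa [hX_pull k i hi hL, hX_pull k i hi hL] at this
  have hc : ((hX (Gen k) (jj k i hi t) (LD k i t L) (-1) 1 : ℕ) : ℤ) = -a 1 := by
    have h1 := hf_LD k i hi t ht hL 2 hdim.le
    have h2 := hf_two (Gen k) (jj k i hi t) (LD k i t L) (-1)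
    rw [h1, ha, nab_one, hc0 (-1) le_rfl, hc2 (-1) 2 (by norm_num)] at h2
    push_cast at h2
    linarith
  have hdrop : ∀ (m : ℤ) (l : ℕ), hX (Gen k) (jj k i hi t) (LD k i t L) (m + l) 1 ≤
      hX (Gen k) (jj k i hi t) (LD k i t L) m 1 - l := fun m l =>
    Curve.h1_drop (Gen k) (jj k i hi t) hjD hD'.le hLD m l
  obtain ⟨N, hN⟩ := serre k i hi (isCoh_invertible hL)
  have hχ : ((hX k i L (-1) 2 : ℕ) : ℤ) - hX k i L (-1) 1 = a 0 := by
    have h2 := hf_two k i L (-1)
    rw [ha, ev_neg_one, h0_neg k i hi hdim hL hLL' hdeg a ha (-1) le_rfl] at h2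
    push_cast at h2
    linarith
  obtain ⟨r1, r2, r3, r4, r5, r6⟩ := Num.main (fun m => hX k i L m 1) (fun m => hX k i L m 2)
    (fun m => hX (Gen k) (jj k i hi t) (LD k i t L) m 1) (fun m => hX (Gen k) (jj k i hi t) (LD k i t L) m 0)
    (a 0) (a 1) h_mid h_left0 h_left1 hc0 hc hdrop ⟨N, fun m hm => hN m hm 2 (by norm_num)⟩ hχ
  refine ⟨r1, r2, r3, r4, r5, fun m hm => ?_⟩
  have htr := trick_iter (Gen k) (Ext.iG k i hi) t hM (-a 1 - 1) (inv_N k i) (mc_N k i hi) ht
    (Ext.iG_toSpec k i hi) (-a 1) (fun x hx q hq' => by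
      rcases Nat.lt_or_ge 1 q with h | h
      · exact hc2 _ q h
      · have : q = 1 := by omega
        subst this
        exact r6 _ (by push_cast; omega)) (by omega) (m + a 1 + 1).toNat
  rw [hX_pull k i hi hL, hX_pull k i hi hL] at htr
  have e1 : -a 1 - 1 + (((m + a 1 + 1).toNat : ℕ) : ℤ) = m := by omega
  rw [e1] at htr
  have h3 := r1 (-a 1 - 1)
  omega

end K243.Surface
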