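import Groth.Agent.Pic13.K243.Lower
import Groth.Agent.S4304

/-!
# Families with bounded top three coefficients are bounded

`X ⊆ P^n_k` integral of dimension `s + 2`, `k` algebraically closed.
-/

set_option autoImplicit false
universe u
open CategoryTheory CategoryTheory.Limits AlgebraicGeometry Opposite TopologicalSpace

namespace K243.TopThree

open Groth.Agent Groth.Agent.Fga Groth.Agent.Fga.PicMon K243.Base K243.Hilb K243.Diff K243.Deg K243.Quad K243.Lower

theorem isBounded (k : Type u) [Field k] [IsAlgClosed k] (n : ℕ) (X : Scheme.{u}) [X.Over (Spec (CommRingCat.of k))]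
    (i : X ⟶ CohB1.ProjSpace n k) [IsClosedImmersion i]
    (hi : i ≫ CohB1.ProjSpace.toSpec n k = X ↘ Spec (CommRingCat.of k)) [IsIntegral X]
    (s : ℕ) (hdim : topologicalKrullDim X = (s + 2 : ℕ))
    (Q : X.Modules → Prop) (hQ : ∀ L, Q L → PicF.IsInvertible L) (B : ℕ)
    (hB : ∀ L, Q L → ∃ a : Fin (s + 3) → ℤ, hf k i (s + 2) L = ev a ∧ ∀ j : Fin 3, |a ⟨j + s, by omega⟩| ≤ B) :
    Pic13.IsBounded k X Q := by
  have hP := isProper_of i hi
  have hinf : Infinite k := inferInstance
  have hO := Coeffs.isInvertible_unit (X := X)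
  obtain ⟨e, he⟩ := exists_coeff k i (s + 2) hdim.le hO
  obtain ⟨C, hC⟩ := unif_square_top k i hi s hdim B
  refine S4304.result k X s hdim (O i 1) (O i (-1)) (isAmple_O i) (nonempty_O_mul_neg i 1) Q hQ
    ⟨B + |e (Fin.castSucc (Fin.last (s + 1)))| + C, fun L L' hL hLL' => ?_⟩
  obtain ⟨a, ha, hab⟩ := hB L hL
  constructor
  · have h1 := Coeffs.sub_eq k i (s + 1) hdim.le (hQ L hL) hLL' a e ha he
    have h2 : FGA.intNum k X (s + 2) (Matrix.vecCons L' (fun _ : Fin (s + 1) => O i (-1))) (Coh.structureModule X) =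
        a (Fin.castSucc (Fin.last (s + 1))) - e (Fin.castSucc (Fin.last (s + 1))) := h1.symm
    rw [h2]
    have h3 := hab 1
    have h4 : (⟨((1 : Fin 3) : ℕ) + s, by omega⟩ : Fin (s + 3)) = Fin.castSucc (Fin.last (s + 1)) := by
      ext; simp [add_comm]
    rw [h4] at h3
    have h5 := abs_sub (a (Fin.castSucc (Fin.last (s + 1)))) (e (Fin.castSucc (Fin.last (s + 1))))
    have h6 : (0 : ℤ) ≤ C := Int.natCast_nonneg C
    linarith
  · have h1 := hC L L' (hQ L hL) hLL' a ha hab
    have h2 : (0 : ℤ) ≤ |e (Fin.castSucc (Fin.last (s + 1)))| := abs_nonneg _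
    have h3 : (0 : ℤ) ≤ B := Int.natCast_nonneg B
    refine le_trans ?_ h1
    linarith

end K243.TopThree
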